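import Cfsg.Agent.Lib.RankThreeFrob.Local

/-!
Even complement: the central involution of the complement.

Blueprint: `blueprint/S2207.md`.
-/

set_option autoImplicit false
set_option linter.unusedSectionVars false
set_option linter.style.haveILetI false

namespace CfsgLib.RankThreeFrob

open MulAction
open scoped Pointwise

universe u v

variable {G : Type u} {X : Type v} [Group G] [MulAction G X] [Finite G] [Finite X] {A B : X}

namespace Hyp

variable (h : Hyp G A B)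

/-- `z` is an involution of the complement and the complement has even order. -/
structure IsInvol (z : G) : Prop where
  mem : z ∈ h.Comp
  sq : z ^ 2 = 1
  ne_one : z ≠ 1

include h in
theorem exists_invol (heven : Even (Nat.card h.Comp)) : ∃ z, h.IsInvol z := by
  haveI : Fact (Nat.Prime 2) := ⟨Nat.prime_two⟩
  obtain ⟨⟨z, hz⟩, hzo⟩ := exists_prime_orderOf_dvd_card' (G := h.Comp) 2 heven.two_dvd
  rw [Subgroup.orderOf_mk] at hzo
  exact ⟨z, hz, hzo ▸ pow_orderOf_eq_one z, fun e => by rw [e, orderOf_one] at hzo; omega⟩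

variable {z : G} (hz : h.IsInvol z)

include hz in
theorem IsInvol.mul_self : z * z = 1 := by rw [← pow_two, hz.sq]

include hz in
theorem IsInvol.inv_eq : z⁻¹ = z := inv_eq_of_mul_eq_one_right (IsInvol.mul_self h hz)

include hz in
theorem IsInvol.fix_A : z • A = A := hz.mem.1

include hz in
theorem IsInvol.fix_B : z • B = B := hz.mem.2

include hz in
theorem even_comp_of_invol : 2 ∣ Nat.card h.Comp := by
  haveI : Fact (Nat.Prime 2) := ⟨Nat.prime_two⟩
  exact (orderOf_eq_prime hz.sq hz.ne_one) ▸ Subgroup.orderOf_dvd_natCard _ hz.mem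

include hz in
theorem odd_ker : Odd (Nat.card (h.Ker A)) := by
  rw [← Nat.not_even_iff_odd]
  intro he
  exact Nat.prime_two.not_dvd_one (h.coprime ▸ Nat.dvd_gcd he.two_dvd (h.even_comp_of_invol hz))

include hz in
theorem ker_sq_eq {e : G} (he : e ∈ h.Ker A) (h2 : e ^ 2 = 1) : e = 1 :=
  orderOf_eq_one_iff.mp (Nat.eq_one_of_dvd_coprimes (Nat.coprime_two_left.mpr (h.odd_ker hz))
    (orderOf_dvd_of_pow_eq_one h2) (Subgroup.orderOf_dvd_natCard _ he))

include hz in
/-- Square roots in the kernel. -/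
theorem exists_sqrt {e : G} (he : e ∈ h.Ker A) : ∃ d ∈ h.Ker A, d ^ 2 = e ∧ d ∈ Subgroup.zpowers e := by
  obtain ⟨r, hr⟩ := h.odd_ker hz
  refine ⟨e ^ (r + 1), pow_mem he _, ?_, pow_mem (Subgroup.mem_zpowers e) _⟩
  have h1 : e ^ Nat.card (h.Ker A) = 1 := congrArg Subtype.val (pow_card_eq_one' (G := h.Ker A) (x := ⟨e, he⟩))
  rw [← pow_mul, show (r + 1) * 2 = 2 * r + 1 + 1 by omega, pow_succ, ← hr, h1, one_mul]

include hz in
theorem mem_of_sq_mem {e : G} (he : e ∈ h.Ker A) {S : Subgroup G} (h2 : e ^ 2 ∈ S) : e ∈ S := by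
  obtain ⟨r, hr⟩ := h.odd_ker hz
  have h1 : e ^ Nat.card (h.Ker A) = 1 := congrArg Subtype.val (pow_card_eq_one' (G := h.Ker A) (x := ⟨e, he⟩))
  have e1 : (e ^ 2) ^ (r + 1) = e := by
    rw [← pow_mul, show 2 * (r + 1) = 2 * r + 1 + 1 by omega, pow_succ, ← hr, h1, one_mul]
  exact e1 ▸ pow_mem h2 _

include hz in
theorem z_inv {e : G} (he : e ∈ h.Ker A) : z * e * z = e⁻¹ := by
  have hzz := IsInvol.mul_self h hz
  have hzi := IsInvol.inv_eq h hz
  have hnorm : ∀ {a}, a ∈ h.Ker A → z * a * z ∈ h.Ker A := fun {a} ha => by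
    have := h.ker_conj hz.mem.1 ha
    rwa [hzi] at this
  let f : h.Ker A → h.Ker A := fun a => ⟨(a : G)⁻¹ * (z * a * z), mul_mem (inv_mem a.2) (hnorm a.2)⟩
  have hf : Function.Injective f := fun a b e => by
    have e' : (a : G)⁻¹ * (z * a * z) = (b : G)⁻¹ * (z * b * z) := congrArg Subtype.val e
    have h1 : z * ((b : G) * (a : G)⁻¹) * z = b * (a : G)⁻¹ := by
      calc z * ((b : G) * (a : G)⁻¹) * z = (z * b * z) * (z * (a : G)⁻¹ * z) := by
            rw [show (z * b * z) * (z * (a : G)⁻¹ * z) = z * b * (z * z) * (a : G)⁻¹ * z by group, hzz]; group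
        _ = b * ((b : G)⁻¹ * (z * b * z)) * (z * (a : G)⁻¹ * z) := by group
        _ = b * ((a : G)⁻¹ * (z * a * z)) * (z * (a : G)⁻¹ * z) := by rw [e']
        _ = b * (a : G)⁻¹ * (z * a * (z * z) * (a : G)⁻¹ * z) := by simp [mul_assoc]
        _ = b * (a : G)⁻¹ := by rw [hzz]; simp [mul_assoc, hzz]
    have h2 := h.fpf (mul_mem b.2 (inv_mem a.2)) hz.mem hz.ne_one (by
      conv_rhs => rw [← h1]
      rw [mul_assoc _ z z, hzz, mul_one])
    exact Subtype.ext (mul_inv_eq_one.mp h2).symm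
  obtain ⟨⟨a, ha⟩, hae⟩ := Finite.surjective_of_injective hf ⟨e, he⟩
  have e1 : a⁻¹ * (z * a * z) = e := congrArg Subtype.val hae
  rw [← e1]
  calc z * (a⁻¹ * (z * a * z)) * z = (z * a * z)⁻¹ * a * (z * z) := by
        rw [mul_inv_rev, mul_inv_rev, hzi]; simp [mul_assoc]
    _ = (a⁻¹ * (z * a * z))⁻¹ := by rw [hzz, mul_one, mul_inv_rev a⁻¹, inv_inv]

include hz in
theorem ker_comm {a b : G} (ha : a ∈ h.Ker A) (hb : b ∈ h.Ker A) : a * b = b * a := by
  have hzz := IsInvol.mul_self h hz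
  have h1 := h.z_inv hz (mul_mem (inv_mem ha) (inv_mem hb))
  rw [show z * (a⁻¹ * b⁻¹) * z = z * a⁻¹ * (z * z) * b⁻¹ * z by rw [hzz]; simp [mul_assoc],
    show z * a⁻¹ * (z * z) * b⁻¹ * z = (z * a⁻¹ * z) * (z * b⁻¹ * z) by simp [mul_assoc],
    h.z_inv hz (inv_mem ha), h.z_inv hz (inv_mem hb), mul_inv_rev, inv_inv, inv_inv] at h1
  exact h1

include hz in
theorem invol_unique {w : G} (hw : w ∈ h.Comp) (hw2 : w ^ 2 = 1) (hw1 : w ≠ 1) : w = z := by
  have hzz := IsInvol.mul_self h hz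
  have hw' : h.IsInvol w := ⟨hw, hw2, hw1⟩
  by_contra hne
  obtain ⟨e, he, he1⟩ : ∃ e ∈ h.Ker A, e ≠ 1 := by
    haveI : Nontrivial (h.Ker A) := Finite.one_lt_card_iff_nontrivial.mp h.one_lt_ker
    obtain ⟨⟨e, he⟩, h1⟩ := exists_ne (1 : h.Ker A)
    exact ⟨e, he, fun e' => h1 (Subtype.ext e')⟩
  have hww := IsInvol.mul_self h hw'
  refine he1 (h.fpf he (mul_mem hz.mem hw) (fun e' => hne ?_) ?_)
  · rw [← IsInvol.inv_eq h hz]; exact (inv_eq_of_mul_eq_one_right e').symm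
  · calc z * w * e = z * (w * e * w) * w := by simp [mul_assoc, hww]
      _ = z * e⁻¹ * w := by rw [h.z_inv hw' he]
      _ = (z * e⁻¹ * z) * (z * w) := by simp [mul_assoc, ← mul_assoc z z, hzz]
      _ = e * (z * w) := by rw [h.z_inv hz (inv_mem he), inv_inv]

include hz in
theorem z_central {x : G} (hx : x ∈ h.Comp) : x * z = z * x := by
  have h1 := h.invol_unique hz (w := x * z * x⁻¹) (mul_mem (mul_mem hx hz.mem) (inv_mem hx))
    (by rw [conj_pow, hz.sq, mul_one, mul_inv_cancel]) (fun e => hz.ne_one (by rwa [conj_eq_one_iff] at e))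
  exact mul_inv_eq_iff_eq_mul.mp h1

theorem mem_comp_of_comm {x : G} (hxA : x • A = A) (hzA : z ∈ h.Comp) (hz1 : z ≠ 1) (hc : x * z = z * x) :
    x ∈ h.Comp := by
  refine ⟨hxA, h.frob_at hzA.1 hz1 ?_ h.adj_AB ?_ hzA.2⟩
  · have := (h.adj_smul x).mpr h.adj_AB
    rwa [hxA] at this
  · rw [← mul_smul, ← hc, mul_smul, hzA.2]

include hz in
theorem conj_ker_z {e : G} (he : e ∈ h.Ker A) : e * z * e⁻¹ = e ^ 2 * z := by
  have h1 := h.z_inv hz (inv_mem he)
  rw [inv_inv] at h1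
  calc e * z * e⁻¹ = e * (z * e⁻¹ * z) * z := by simp [mul_assoc, IsInvol.mul_self h hz]
    _ = e ^ 2 * z := by rw [h1, pow_two]

include hz in
theorem invol_at {w : G} (hwA : w • A = A) (hw2 : w ^ 2 = 1) (hw1 : w ≠ 1) :
    ∃ e ∈ h.Ker A, w = e * z * e⁻¹ := by
  obtain ⟨Q, ⟨hQ, hwQ⟩, -⟩ := h.exists_unique_fixed hwA (fun hK => hw1 (h.ker_sq_eq hz hK hw2))
  obtain ⟨e, he, rfl⟩ := h.exists_ker_smul hQ
  refine ⟨e, he, ?_⟩
  have heA := (h.mem_ker.mp he).1
  have h1 : e⁻¹ * w * e ∈ h.Comp :=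
    ⟨(by rw [mul_smul, mul_smul, heA, hwA]; exact inv_smul_eq_iff.mpr heA.symm : (e⁻¹ * w * e) • A = A),
      (by rw [mul_smul, mul_smul, hwQ, inv_smul_smul] : (e⁻¹ * w * e) • B = B)⟩
  have h2 := h.invol_unique hz h1 (by
      rw [show e⁻¹ * w * e = e⁻¹ * w * e⁻¹⁻¹ by rw [inv_inv], conj_pow, hw2, mul_one, mul_inv_cancel])
    (fun e' => hw1 (by
      calc w = e * (e⁻¹ * w * e) * e⁻¹ := by group
        _ = 1 := by rw [e', mul_one, mul_inv_cancel]))
  rw [← h2]; group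

include hz in
/-- Every element at `A` and a point fixed by `z` splits. -/
theorem decomp_at {C : X} (hzC : z • C = C) {x : G} (hxA : x • A = A) (hxC : x • C = C) :
    ∃ e ∈ h.Ker A, e • C = C ∧ e⁻¹ * x ∈ h.Comp ∧ (e⁻¹ * x) • C = C := by
  obtain ⟨e, he, hl⟩ := h.exists_decomp hxA
  have hzz := IsInvol.mul_self h hz
  have h1 : e * z * e⁻¹ = x * z * x⁻¹ := by
    calc e * z * e⁻¹ = e * ((e⁻¹ * x) * z * (e⁻¹ * x)⁻¹) * e⁻¹ := by
          rw [h.z_central hz hl, mul_inv_cancel_right]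
      _ = x * z * x⁻¹ := by group
  have h2 : (e * z * e⁻¹) • C = C := by
    rw [h1, mul_smul, mul_smul, inv_smul_eq_iff.mpr hxC.symm, hzC, hxC]
  rw [h.conj_ker_z hz he, mul_smul, hzC] at h2
  have he2 : e ∈ stabilizer G C := h.mem_of_sq_mem hz he (mem_stabilizer_iff.mpr h2)
  exact ⟨e, he, he2, hl, by rw [mul_smul, hxC]; exact inv_smul_eq_iff.mpr (mem_stabilizer_iff.mp he2).symm⟩

include hz in
/-- The complement is transitive on the far points fixed by `z`. -/
theorem fix_far_trans {C D : X} (hC : h.Far A C) (hzC : z • C = C) (hD : h.Far A D) (hzD : z • D = D) :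
    ∃ x ∈ h.Comp, x • C = D := by
  obtain ⟨g, hgA, hgC⟩ := h.far_trans hC hD
  obtain ⟨e, he, hl⟩ := h.exists_decomp hgA
  refine ⟨e⁻¹ * g, hl, ?_⟩
  have h2 : (e ^ 2 * z) • D = D := by
    rw [← h.conj_ker_z hz he, ← hgC]
    calc (e * z * e⁻¹) • g • C = e • z • (e⁻¹ * g) • C := by simp [mul_smul]
      _ = e • (e⁻¹ * g) • C := by
          rw [← mul_smul z, ← h.z_central hz hl, mul_smul (e⁻¹ * g) z, hzC]
      _ = g • C := by rw [← mul_smul, mul_inv_cancel_left]
  rw [mul_smul, hzD] at h2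
  rw [mul_smul, hgC, inv_smul_eq_iff]
  exact (mem_stabilizer_iff.mp (h.mem_of_sq_mem hz he (mem_stabilizer_iff.mpr h2))).symm

/-- The far points fixed by `z`. -/
noncomputable def fNum (z : G) : ℕ := Nat.card {D // h.Far A D ∧ z • D = D}

include hz in
theorem card_fix_z : Nat.card {P : X // z • P = P} = 2 + h.fNum z := by
  classical
  haveI : Fintype X := Fintype.ofFinite X
  rw [fNum, Nat.card_eq_fintype_card, Nat.card_eq_fintype_card, Fintype.card_subtype, Fintype.card_subtype]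
  have e : (Finset.univ.filter fun P : X => z • P = P) =
      insert A (insert B (Finset.univ.filter fun D : X => h.Far A D ∧ z • D = D)) := by
    ext P
    simp only [Finset.mem_insert, Finset.mem_filter, Finset.mem_univ, true_and]
    constructor
    · intro hP
      by_cases hPA : P = A
      · exact Or.inl hPA
      by_cases hadj : h.Adj A P
      · exact Or.inr (Or.inl (h.frob_at hz.mem.1 hz.ne_one hadj h.adj_AB hP hz.mem.2))
      · exact Or.inr (Or.inr ⟨⟨fun e => hPA e.symm, hadj⟩, hP⟩)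
    · rintro (rfl | rfl | hP)
      · exact hz.mem.1
      · exact hz.mem.2
      · exact hP.2
  rw [e, Finset.card_insert_of_notMem, Finset.card_insert_of_notMem]
  · omega
  · simp only [Finset.mem_filter, Finset.mem_univ, true_and]
    exact fun e => e.1.2 h.adj_AB
  · simp only [Finset.mem_insert, Finset.mem_filter, Finset.mem_univ, true_and, not_or]
    exact ⟨fun e => h.ne e.symm, fun e => e.1.1 rfl⟩

include hz in
theorem even_fNum : Even (h.fNum z) := by
  have h1 := h.even_fix hz.ne_one (Nat.Coprime.coprime_dvd_left (orderOf_dvd_of_pow_eq_one hz.sq)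
    (Nat.coprime_two_left.mpr (h.odd_ker hz)))
  rw [h.card_fix_z hz] at h1
  exact (Nat.even_add.mp h1).mp even_two

include hz in
/-- `f * |L_C| = |L|`. -/
theorem fNum_mul {C : X} (hC : h.Far A C) (hzC : z • C = C) :
    h.fNum z * Nat.card (h.Comp ⊓ stabilizer G C : Subgroup G) = Nat.card h.Comp := by
  have horb : orbit h.Comp C = {D | h.Far A D ∧ z • D = D} := by
    ext D
    constructor
    · rintro ⟨⟨x, hx⟩, rfl⟩
      refine ⟨?_, ?_⟩
      · have := (h.far_smul x).mpr hC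
        rwa [hx.1] at this
      · show z • x • C = x • C
        rw [← mul_smul, ← h.z_central hz hx, mul_smul, hzC]
    · rintro ⟨hD, hzD⟩
      obtain ⟨x, hx, hxD⟩ := h.fix_far_trans hz hC hzC hD hzD
      exact ⟨⟨x, hx⟩, hxD⟩
  have hst : (stabilizer h.Comp C).map h.Comp.subtype = h.Comp ⊓ stabilizer G C := by
    ext x
    constructor
    · rintro ⟨⟨y, hy⟩, hyC, rfl⟩; exact ⟨hy, hyC⟩
    · rintro ⟨hx, hxC⟩; exact ⟨⟨x, hx⟩, hxC, rfl⟩
  rw [← hst, Subgroup.card_map_of_injective h.Comp.subtype_injective, fNum,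
    show Nat.card {D // h.Far A D ∧ z • D = D} = (stabilizer h.Comp C).index by
      rw [index_stabilizer, horb, ← Nat.card_coe_set_eq]; rfl, mul_comm, Subgroup.card_mul_index]

/-- A split two-point stabiliser. -/
theorem card_split {C : X}
    (hsp : ∀ x : G, x • A = A → x • C = C → ∃ e ∈ h.Ker A, e • C = C ∧ e⁻¹ * x ∈ h.Comp ∧ (e⁻¹ * x) • C = C) :
    Nat.card (stabilizer G A ⊓ stabilizer G C : Subgroup G) =
      Nat.card (h.Ker A ⊓ stabilizer G C : Subgroup G) * Nat.card (h.Comp ⊓ stabilizer G C : Subgroup G) := by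
  set E := h.Ker A ⊓ stabilizer G C
  set L := h.Comp ⊓ stabilizer G C
  set M := stabilizer G A ⊓ stabilizer G C
  rw [← Nat.card_prod]
  refine (Nat.card_eq_of_bijective (fun p : E × L => (⟨(p.1 : G) * p.2,
    mul_mem (show (p.1 : G) ∈ M from ⟨h.ker_le p.1.2.1, p.1.2.2⟩) (show (p.2 : G) ∈ M from ⟨p.2.2.1.1, p.2.2.2⟩)⟩ : M))
    ⟨?_, ?_⟩).symm
  · rintro ⟨⟨e, he⟩, ⟨x, hx⟩⟩ ⟨⟨e', he'⟩, ⟨x', hx'⟩⟩ heq
    have h1 : e * x = e' * x' := congrArg Subtype.val heq
    have h2 : e'⁻¹ * e = x' * x⁻¹ := by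
      calc e'⁻¹ * e = e'⁻¹ * (e * x) * x⁻¹ := by group
        _ = x' * x⁻¹ := by rw [h1]; group
    have h3 := h.ker_inter_comp (mul_mem (inv_mem he'.1) he.1) (by rw [h2]; exact (h.Comp.mul_mem hx'.1 (h.Comp.inv_mem hx.1)).2)
    rw [inv_mul_eq_one] at h3
    subst h3
    rw [mul_left_cancel_iff] at h1
    subst h1
    rfl
  · rintro ⟨x, hxA, hxC⟩
    obtain ⟨e, he, heC, hl, hlC⟩ := hsp x hxA hxC
    exact ⟨(⟨e, he, heC⟩, ⟨e⁻¹ * x, hl, hlC⟩), Subtype.ext (mul_inv_cancel_left e x)⟩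

/-- A subgroup of the complement acts freely on the non-trivial elements of a normalised part of the kernel. -/
theorem dvd_card_sub_one {E S : Subgroup G} (hE : E ≤ h.Ker A) (hS : S ≤ h.Comp)
    (hn : ∀ s ∈ S, ∀ e ∈ E, s * e * s⁻¹ ∈ E) : Nat.card S ∣ Nat.card E - 1 := by
  classical
  let T := {e : E // e ≠ 1}
  letI : MulAction S T :=
    { smul := fun s e => ⟨⟨(s : G) * e.1 * (s : G)⁻¹, hn s s.2 e.1 e.1.2⟩, fun h1 => e.2 (Subtype.ext (by
        have h2 : (s : G) * e.1 * (s : G)⁻¹ = 1 := congrArg Subtype.val h1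
        rwa [conj_eq_one_iff] at h2))⟩
      one_smul := fun e => Subtype.ext (Subtype.ext (by show (1 : G) * e.1 * (1 : G)⁻¹ = e.1; group))
      mul_smul := fun s t e => Subtype.ext (Subtype.ext (by
        show ((s : G) * t) * e.1 * ((s : G) * t)⁻¹ = s * (t * e.1 * (t : G)⁻¹) * (s : G)⁻¹; group)) }
  have hfree : ∀ t : T, stabilizer S t = ⊥ := fun t => (Subgroup.eq_bot_iff_forall _).mpr fun s hs => by
    by_contra h1
    have h2 : (s : G) * t.1 * (s : G)⁻¹ = t.1 := congrArg (fun e : T => ((e.1 : E) : G)) hs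
    exact t.2 (Subtype.ext (h.fpf (hE t.1.2) (hS s.2) (fun e => h1 (Subtype.ext e))
      (mul_inv_eq_iff_eq_mul.mp h2)))
  haveI : Fintype E := Fintype.ofFinite E
  have hcard : Nat.card T = Nat.card E - 1 := by
    rw [Nat.card_eq_fintype_card, Nat.card_eq_fintype_card, Fintype.card_subtype_compl, Fintype.card_subtype_eq]
  rw [← hcard, Nat.card_congr (MulAction.selfEquivSigmaOrbitsQuotientStabilizer S T)]
  haveI : Fintype (orbitRel.Quotient S T) := Fintype.ofFinite _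
  rw [Nat.card_sigma]
  exact Finset.dvd_sum fun q _ => by
    rw [hfree, ← Subgroup.index, Subgroup.index_bot]

theorem dvd_ker_inter_sub_one (C : X) :
    Nat.card (h.Comp ⊓ stabilizer G C : Subgroup G) ∣ Nat.card (h.Ker A ⊓ stabilizer G C : Subgroup G) - 1 :=
  h.dvd_card_sub_one inf_le_left inf_le_left fun _ hs _ he =>
    ⟨h.ker_conj hs.1.1 he.1, (stabilizer G C).mul_mem ((stabilizer G C).mul_mem hs.2 he.2) ((stabilizer G C).inv_mem hs.2)⟩

end Hyp

end CfsgLib.RankThreeFrob
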