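import Cfsg.Agent.Lib.RankThreeFrob.EvenCount

/-!
Even complement: the conjugates of the central involution in a coset.

Blueprint: `blueprint/S2207.md`.
-/

set_option autoImplicit false
set_option linter.unusedSectionVars false
set_option linter.style.haveILetI false

namespace CfsgLib.RankThreeFrob

open MulAction
open scoped Pointwise

universe u v

variable {G : Type u} [Group G] [Finite G]

/-- The subgroup of elements commuting with everything inverted. -/
theorem inverted_commutes {M : Subgroup G} {w : G} (hww : w * w = 1) {S : Set G}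
    (hS : ∀ y ∈ S, y ∈ M ∧ w * y * w = y⁻¹) (hcard : 3 * Nat.card M < 4 * S.ncard) :
    ∀ a ∈ M, ∀ b ∈ M, a * b = b * a := by
  classical
  have hMcard : Nat.card M = (M : Set G).ncard := (Nat.card_coe_set_eq (M : Set G))
  have hS1 : S ⊆ (M : Set G) := fun y hy => (hS y hy).1
  have hSM : S.ncard ≤ Nat.card M := hMcard ▸ Set.ncard_le_ncard hS1 (Set.toFinite _)
  have hmpos : 0 < Nat.card M := Nat.card_pos
  -- elements of `S` are central
  have hcent : ∀ a ∈ S, ∀ b ∈ M, a * b = b * a := by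
    intro a ha
    set C := M ⊓ Subgroup.centralizer ({a} : Set G)
    have hsub : S ∩ (fun y => a * y) ⁻¹' S ⊆ (C : Set G) := by
      rintro y ⟨hy, hay⟩
      refine ⟨(hS y hy).1, Subgroup.mem_centralizer_singleton_iff.mpr ?_⟩
      have h1 := (hS _ hay).2
      have h2 : w * (a * y) * w = (w * a * w) * (w * y * w) := by
        rw [show (w * a * w) * (w * y * w) = w * a * (w * w) * y * w by group, hww]; group
      rw [h2, (hS a ha).2, (hS y hy).2, ← mul_inv_rev] at h1
      exact inv_injective h1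
    have hpre : ((fun y => a * y) ⁻¹' S).ncard = S.ncard :=
      Set.ncard_preimage_of_injective_subset_range (mul_right_injective a) (fun s _ => ⟨a⁻¹ * s, mul_inv_cancel_left a s⟩)
    have hpreM : (fun y => a * y) ⁻¹' S ⊆ (M : Set G) := fun y hy => by
      simpa using mul_mem (inv_mem (hS a ha).1) (hS _ hy).1
    have h1 := Set.ncard_union_add_ncard_inter S ((fun y => a * y) ⁻¹' S) (Set.toFinite _) (Set.toFinite _)
    have h2 : (S ∪ (fun y => a * y) ⁻¹' S).ncard ≤ Nat.card M :=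
      hMcard ▸ Set.ncard_le_ncard (Set.union_subset hS1 hpreM) (Set.toFinite _)
    have h3 : (S ∩ (fun y => a * y) ⁻¹' S).ncard ≤ Nat.card C :=
      (Set.ncard_le_ncard hsub (Set.toFinite _)).trans (Nat.card_coe_set_eq (C : Set G)).symm.le
    rw [hpre] at h1
    have hCtop : C = M := by
      refine Subgroup.eq_of_le_of_card_ge inf_le_left ?_
      obtain ⟨d, hd⟩ : Nat.card C ∣ Nat.card M := Subgroup.card_dvd_of_le inf_le_left
      rcases d with _ | _ | d
      · omega
      · omega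
      · have := Nat.mul_le_mul_left (Nat.card C) (show 2 ≤ d + 1 + 1 by omega)
        omega
    intro b hb
    exact (Subgroup.mem_centralizer_singleton_iff.mp (hCtop.symm ▸ hb : b ∈ C).2).symm
  -- so the centre is everything
  intro a ha b hb
  set Z := M ⊓ Subgroup.centralizer (M : Set G)
  have hsub : S ⊆ (Z : Set G) := fun y hy =>
    ⟨(hS y hy).1, Subgroup.mem_centralizer_iff.mpr fun x hx => (hcent y hy x hx).symm⟩
  have h1 : S.ncard ≤ Nat.card Z := (Set.ncard_le_ncard hsub (Set.toFinite _)).trans (Nat.card_coe_set_eq (Z : Set G)).symm.le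
  have hZtop : Z = M := by
    refine Subgroup.eq_of_le_of_card_ge inf_le_left ?_
    obtain ⟨d, hd⟩ : Nat.card Z ∣ Nat.card M := Subgroup.card_dvd_of_le inf_le_left
    rcases d with _ | _ | d
    · omega
    · omega
    · have := Nat.mul_le_mul_left (Nat.card Z) (show 2 ≤ d + 1 + 1 by omega)
      omega
  exact Subgroup.mem_centralizer_iff.mp (hZtop.symm ▸ hb : b ∈ Z).2 a ha

variable {X : Type v} [MulAction G X] [Finite X] {A B : X}

namespace Hyp

variable (h : Hyp G A B) {z : G} (hz : h.IsInvol z)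

include hz in
/-- Most of a coset, or all of it. -/
theorem swap_dichotomy {C : X} (hC : h.Far A C) (hzC : z • C = C)
    (hle : stabilizer G A ⊓ stabilizer G C ≤ h.Comp)
    (hbig : 3 * Nat.card (stabilizer G A ⊓ stabilizer G C : Subgroup G) < 4 * h.jNum z C ∨
      ((∀ a ∈ stabilizer G A ⊓ stabilizer G C, ∀ b ∈ stabilizer G A ⊓ stabilizer G C, a * b = b * a) ∧
        Nat.card (stabilizer G A ⊓ stabilizer G C : Subgroup G) < 2 * h.jNum z C)) :
    h.jNum z C = Nat.card (stabilizer G A ⊓ stabilizer G C : Subgroup G) := by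
  classical
  set M := stabilizer G A ⊓ stabilizer G C with hM
  have hmpos : 0 < Nat.card M := Nat.card_pos
  obtain ⟨w0, hw0⟩ : (conjSwap z A C).Nonempty := by
    rw [← Set.ncard_pos (Set.toFinite _)]
    show 0 < h.jNum z C
    omega
  have hww : w0 * w0 = 1 := by rw [← pow_two]; exact (h.conj_sq hz hw0.1).1
  have hw0C := h.conj_swap_back hz hw0
  set Y := {y : G | y ∈ M ∧ w0 * y ∈ conjSwap z A C} with hY
  have hYcard : Y.ncard = h.jNum z C := by
    rw [jNum, ← Set.ncard_image_of_injective Y (mul_right_injective w0)]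
    congr 1
    ext w
    refine ⟨fun ⟨y, hy, e⟩ => e ▸ hy.2, fun hw => ⟨w0 * w, ⟨⟨?_, ?_⟩, ?_⟩, ?_⟩⟩
    · show (w0 * w) • A = A
      rw [mul_smul, hw.2, hw0C]
    · show (w0 * w) • C = C
      rw [mul_smul, h.conj_swap_back hz hw, hw0.2]
    · rwa [← mul_assoc, hww, one_mul]
    · show w0 * (w0 * w) = w
      rw [← mul_assoc, hww, one_mul]
  have hYinv : ∀ y ∈ Y, y ∈ M ∧ w0 * y * w0 = y⁻¹ := fun y hy => ⟨hy.1, by
    have h1 := (h.conj_sq hz hy.2.1).1
    rw [pow_two] at h1
    exact eq_inv_of_mul_eq_one_left (by rw [← h1]; simp [mul_assoc])⟩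
  have hcomm : ∀ a ∈ M, ∀ b ∈ M, a * b = b * a := by
    rcases hbig with e | e
    · exact inverted_commutes hww hYinv (hYcard ▸ e)
    · exact e.1
  have hbig2 : Nat.card M < 2 * Y.ncard := by
    rw [hYcard]
    rcases hbig with e | e
    · omega
    · exact e.2
  let I : Subgroup G :=
    { carrier := {y | y ∈ M ∧ w0 * y * w0 = y⁻¹}
      one_mem' := ⟨one_mem _, by rw [mul_one, hww, inv_one]⟩
      mul_mem' := fun {a b} ha hb => ⟨mul_mem ha.1 hb.1, by
        calc w0 * (a * b) * w0 = w0 * a * (w0 * w0) * b * w0 := by rw [hww]; simp [mul_assoc]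
          _ = (w0 * a * w0) * (w0 * b * w0) := by simp [mul_assoc]
          _ = (a * b)⁻¹ := by rw [ha.2, hb.2, ← mul_inv_rev, hcomm b hb.1 a ha.1]⟩
      inv_mem' := fun {a} ha => ⟨inv_mem ha.1, by
        rw [inv_inv]
        calc w0 * a⁻¹ * w0 = (w0 * a * w0)⁻¹ := by
              rw [mul_inv_rev, mul_inv_rev, inv_eq_of_mul_eq_one_right hww, mul_assoc]
          _ = a := by rw [ha.2, inv_inv]⟩ }
  have hItop : I = M := by
    refine Subgroup.eq_of_le_of_card_ge (fun y hy => hy.1) ?_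
    have h1 : Y.ncard ≤ Nat.card I :=
      (Set.ncard_le_ncard (fun y hy => hYinv y hy) (Set.toFinite _)).trans (Nat.card_coe_set_eq (I : Set G)).symm.le
    obtain ⟨d, hd⟩ := Subgroup.card_dvd_of_le (fun y hy => hy.1 : I ≤ M)
    rcases d with _ | _ | d
    · omega
    · omega
    · have := Nat.mul_le_mul_left (Nat.card I) (show 2 ≤ d + 1 + 1 by omega)
      omega
  have hclosed : ∀ y ∈ Y, ∀ x ∈ M, y * x ^ 2 ∈ Y := by
    intro y hy x hx
    refine ⟨mul_mem hy.1 (pow_mem hx 2), hy.2.1.trans (isConj_iff.mpr ⟨x⁻¹, ?_⟩), ?_⟩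
    · have h1 : w0 * x⁻¹ * w0 = x := by
        have := (hItop.symm ▸ inv_mem hx : x⁻¹ ∈ I).2
        rwa [inv_inv] at this
      have h2 : x⁻¹ * w0 = w0 * x := by
        nth_rw 2 [← h1]; simp [← mul_assoc, hww]
      calc x⁻¹ * (w0 * y) * x⁻¹⁻¹ = (x⁻¹ * w0) * y * x := by rw [inv_inv, ← mul_assoc x⁻¹]
        _ = w0 * (x * y * x) := by rw [h2]; simp [mul_assoc]
        _ = w0 * (y * x ^ 2) := by rw [hcomm x hx y hy.1, pow_two, mul_assoc]
    · rw [pow_two, mul_smul, mul_smul, mul_smul, hx.1, hx.1, ← mul_smul, hy.2.2]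
  -- squares have index two
  let sq : M →* M := MonoidHom.mk' (fun x => x ^ 2) fun a b =>
    (show Commute a b from Subtype.ext (hcomm a a.2 b b.2)).mul_pow 2
  have hker : Nat.card sq.ker ≤ 2 := by
    have hsub : (sq.ker : Set M) ⊆ {1, ⟨z, hz.mem.1, hzC⟩} := by
      intro x hx
      by_cases hx1 : x = 1
      · exact Or.inl hx1
      · refine Or.inr (Subtype.ext (h.invol_unique hz (hle x.2) ?_ fun e => hx1 (Subtype.ext e)))
        exact congrArg Subtype.val (hx : x ^ 2 = 1)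
    refine (Nat.card_coe_set_eq (sq.ker : Set M)).le.trans ((Set.ncard_le_ncard hsub (Set.toFinite _)).trans ?_)
    exact (Set.ncard_insert_le _ _).trans (by rw [Set.ncard_singleton])
  set Q := sq.range
  have hidx : Q.index ≤ 2 := by
    have h1 := Subgroup.card_mul_index Q
    have h2 := Subgroup.card_mul_index sq.ker
    rw [Subgroup.index_ker] at h2
    have h3 : Nat.card Q * Q.index ≤ Nat.card Q * 2 := by
      rw [h1, ← h2, mul_comm (Nat.card Q)]
      exact Nat.mul_le_mul_right _ hker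
    exact Nat.le_of_mul_le_mul_left h3 Nat.card_pos
  have hclQ : ∀ y ∈ Y, ∀ q : M, q ∈ Q → y * q ∈ Y := by
    rintro y hy q ⟨x, rfl⟩
    exact hclosed y hy x x.2
  obtain ⟨y0, hy0⟩ : Y.Nonempty := by rw [← Set.ncard_pos (Set.toFinite _)]; omega
  have hall : (M : Set G) ⊆ Y := by
    intro x hx
    by_cases h1 : (⟨y0, hy0.1⟩ : M)⁻¹ * ⟨x, hx⟩ ∈ Q
    · have := hclQ y0 hy0 _ h1
      simpa using this
    have hidx2 : Q.index = 2 := by
      have h0 := Subgroup.index_ne_zero_of_finite (H := Q)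
      have h2 : Q.index ≠ 1 := fun e => h1 (Subgroup.index_eq_one.mp e ▸ Subgroup.mem_top _)
      omega
    obtain ⟨y1, hy1, hy1Q⟩ : ∃ y1, ∃ hy : y1 ∈ Y, (⟨y0, hy0.1⟩ : M)⁻¹ * ⟨y1, hy.1⟩ ∉ Q := by
      by_contra hno
      push Not at hno
      have hsub : Y ⊆ (fun q : M => y0 * q) '' (Q : Set M) := fun y hy =>
        ⟨_, hno y hy, by simp⟩
      have h3 := (Set.ncard_le_ncard hsub (Set.toFinite _)).trans (Set.ncard_image_le (Set.toFinite _))
      rw [← Nat.card_coe_set_eq (Q : Set M)] at h3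
      have h4 := Subgroup.card_mul_index Q
      rw [hidx2] at h4
      change Y.ncard ≤ Nat.card Q at h3
      omega
    have h5 : ((⟨y0, hy0.1⟩ : M)⁻¹ * ⟨y1, hy1.1⟩)⁻¹ * ((⟨y0, hy0.1⟩ : M)⁻¹ * ⟨x, hx⟩) ∈ Q := by
      rw [Subgroup.mul_mem_iff_of_index_two hidx2, inv_mem_iff]
      exact iff_of_false hy1Q h1
    rw [show ((⟨y0, hy0.1⟩ : M)⁻¹ * ⟨y1, hy1.1⟩)⁻¹ * ((⟨y0, hy0.1⟩ : M)⁻¹ * ⟨x, hx⟩) =
      (⟨y1, hy1.1⟩ : M)⁻¹ * ⟨x, hx⟩ by group] at h5
    have := hclQ y1 hy1 _ h5
    simpa using this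
  refine le_antisymm (h.jNum_le hz) ?_
  rw [← hYcard]
  exact (Nat.card_coe_set_eq (M : Set G)).le.trans (Set.ncard_le_ncard hall (Set.toFinite _))

end Hyp

end CfsgLib.RankThreeFrob
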