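import Cfsg.Agent.Lib.RankThreeFrob.EvenBasic

/-!
Even complement: counting pairs moved by involutions with fixed points.

Blueprint: `blueprint/S2207.md`.
-/

set_option autoImplicit false
set_option linter.unusedSectionVars false
set_option linter.style.haveILetI false

namespace CfsgLib.RankThreeFrob

open MulAction
open scoped Pointwise

universe u v

variable {G : Type u} {X : Type v} [Group G] [MulAction G X] [Finite G] [Finite X] {A B : X}

/-- The conjugates of `z` carrying `P` to `Q`. -/
def conjSwap (z : G) (P Q : X) : Set G := {w | IsConj z w ∧ w • P = Q}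

theorem conjSwap_smul (z g : G) (P Q : X) :
    (conjSwap z (g • P) (g • Q)).ncard = (conjSwap z P Q).ncard := by
  have e : conjSwap z (g • P) (g • Q) = (fun w => g * w * g⁻¹) '' conjSwap z P Q := by
    ext w
    constructor
    · rintro ⟨hw, hPQ⟩
      refine ⟨g⁻¹ * w * g, ⟨hw.trans (isConj_iff.mpr ⟨g⁻¹, by rw [inv_inv]⟩), ?_⟩, by group⟩
      rw [mul_smul, mul_smul, hPQ, inv_smul_smul]
    · rintro ⟨w, ⟨hw, hPQ⟩, rfl⟩
      exact ⟨hw.trans (isConj_iff.mpr ⟨g, rfl⟩), by rw [mul_smul, mul_smul, inv_smul_smul, hPQ]⟩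
  rw [e, Set.ncard_image_of_injective _ fun x y e => mul_left_cancel (mul_right_cancel e)]

/-- Double counting over a class and the points. -/
theorem class_point_count [Fintype G] [Fintype X] (z : G) (a : X) (htr : ∀ P : X, ∃ g : G, g • a = P)
    (R : X → X → Prop) [DecidableRel R] (hR : ∀ (g : G) P Q, R (g • P) (g • Q) ↔ R P Q)
    [DecidablePred (fun w => IsConj z w)] :
    (Finset.univ.filter fun w => IsConj z w).card * (Finset.univ.filter fun P : X => R P (z • P)).card =
      Fintype.card X * (Finset.univ.filter fun w => IsConj z w ∧ R a (w • a)).card := by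
  classical
  set U := Finset.univ.filter fun w => IsConj z w with hU
  have h1 := Finset.sum_card_bipartiteAbove_eq_sum_card_bipartiteBelow (s := U) (t := (Finset.univ : Finset X))
    (fun (w : G) (P : X) => R P (w • P))
  simp only [Finset.bipartiteAbove, Finset.bipartiteBelow] at h1
  have hw : ∀ w ∈ U, (Finset.univ.filter fun P : X => R P (w • P)).card =
      (Finset.univ.filter fun P : X => R P (z • P)).card := by
    intro w hw
    obtain ⟨c, rfl⟩ := isConj_iff.mp (Finset.mem_filter.mp hw).2
    refine (Finset.card_equiv (MulAction.toPerm c) fun P => ?_).symm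
    simp only [Finset.mem_filter, Finset.mem_univ, true_and, MulAction.toPerm_apply]
    rw [show (c * z * c⁻¹) • c • P = c • z • P by rw [mul_smul, mul_smul, inv_smul_smul], hR]
  have hP : ∀ P ∈ (Finset.univ : Finset X), (U.filter fun w => R P (w • P)).card =
      (Finset.univ.filter fun w => IsConj z w ∧ R a (w • a)).card := by
    intro P _
    obtain ⟨g, rfl⟩ := htr P
    rw [hU, Finset.filter_filter]
    refine Finset.card_equiv (MulAut.conj g⁻¹).toEquiv fun w => ?_
    simp only [Finset.mem_filter, Finset.mem_univ, true_and]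
    show IsConj z w ∧ R (g • a) (w • g • a) ↔ IsConj z (g⁻¹ * w * g⁻¹⁻¹) ∧ R a ((g⁻¹ * w * g⁻¹⁻¹) • a)
    have hc : IsConj w (g⁻¹ * w * g⁻¹⁻¹) := isConj_iff.mpr ⟨g⁻¹, rfl⟩
    have hr : R a ((g⁻¹ * w * g⁻¹⁻¹) • a) ↔ R (g • a) (w • g • a) := by
      rw [inv_inv, mul_smul, mul_smul]
      conv_lhs => rw [← hR g, smul_inv_smul]
    rw [hr]
    exact ⟨fun e => ⟨e.1.trans hc, e.2⟩, fun e => ⟨e.1.trans hc.symm, e.2⟩⟩
  rw [Finset.sum_congr rfl hw, Finset.sum_congr rfl hP, Finset.sum_const, Finset.sum_const, smul_eq_mul,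
    smul_eq_mul, Finset.card_univ] at h1
  exact h1

namespace Hyp

variable (h : Hyp G A B) {z : G} (hz : h.IsInvol z)

/-- The number of conjugates of `z` swapping the base pair. -/
noncomputable def uNum (_h : Hyp G A B) (z : G) : ℕ := (conjSwap z A B).ncard

/-- The number of conjugates of `z` swapping `A` and `C`. -/
noncomputable def jNum (_h : Hyp G A B) (z : G) (C : X) : ℕ := (conjSwap z A C).ncard

include hz in
theorem conj_sq {w : G} (hw : IsConj z w) : w ^ 2 = 1 ∧ w ≠ 1 := by
  obtain ⟨c, rfl⟩ := isConj_iff.mp hw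
  exact ⟨by rw [conj_pow, hz.sq, mul_one, mul_inv_cancel], fun e => hz.ne_one (by rwa [conj_eq_one_iff] at e)⟩

include hz in
theorem conj_swap_back {w : G} {P Q : X} (hw : w ∈ conjSwap z P Q) : w • Q = P := by
  rw [← hw.2, ← mul_smul, ← pow_two, (h.conj_sq hz hw.1).1, one_smul]

include hz in
theorem fixed_conj_self : conjSwap z A A = (fun e => e * z * e⁻¹) '' (h.Ker A : Set G) := by
  ext w
  constructor
  · rintro ⟨hw, hwA⟩
    obtain ⟨e, he, rfl⟩ := h.invol_at hz hwA (h.conj_sq hz hw).1 (h.conj_sq hz hw).2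
    exact ⟨e, he, rfl⟩
  · rintro ⟨e, he, rfl⟩
    have heA := (h.mem_ker.mp he).1
    exact ⟨isConj_iff.mpr ⟨e, rfl⟩, by rw [mul_smul, mul_smul, inv_smul_eq_iff.mpr heA.symm, hz.mem.1, heA]⟩

include hz in
theorem card_conj_self : (conjSwap z A A).ncard = Nat.card (h.Ker A) := by
  rw [h.fixed_conj_self hz, Set.ncard_image_of_injOn ?_]
  · exact (Nat.card_coe_set_eq (h.Ker A : Set G)).symm
  · intro a ha b hb e
    simp only at e
    rw [h.conj_ker_z hz ha, h.conj_ker_z hz hb, mul_left_inj] at e
    have e2 : (b⁻¹ * a) ^ 2 = 1 := by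
      rw [(show Commute b⁻¹ a from h.ker_comm hz (inv_mem hb) ha).mul_pow, inv_pow, e, inv_mul_cancel]
    exact (inv_mul_eq_one.mp (h.ker_sq_eq hz (mul_mem (inv_mem hb) ha) e2)).symm

include hz in
theorem count_eqs {C : X} (hC : h.Far A C) :
    (2 + h.fNum z) * (Nat.card (h.Ker A) * h.uNum z + Nat.card {D // h.Far A D} * h.jNum z C) +
        Nat.card (h.Ker A) * (2 + h.fNum z) = Nat.card (h.Ker A) * Nat.card X ∧
      Nat.card {P : X // h.Adj P (z • P)} = (2 + h.fNum z) * h.uNum z := by
  classical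
  haveI : Fintype X := Fintype.ofFinite X
  haveI : Fintype G := Fintype.ofFinite G
  set k := Nat.card (h.Ker A)
  set l := Nat.card {D // h.Far A D}
  set N := (Finset.univ.filter fun w => IsConj z w).card
  have hsplit : ∀ (R : X → X → Prop), (Finset.univ.filter fun w => IsConj z w ∧ R A (w • A)).card =
      ∑ Q ∈ Finset.univ.filter (fun Q => R A Q), (conjSwap z A Q).ncard := by
    intro R
    rw [Finset.card_eq_sum_card_fiberwise (f := fun w => w • A) (t := Finset.univ.filter fun Q => R A Q)
      (fun w hw => Finset.mem_filter.mpr ⟨Finset.mem_univ _, (Finset.mem_filter.mp hw).2.2⟩)]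
    refine Finset.sum_congr rfl fun Q hQ => ?_
    rw [← Set.ncard_coe_finset]
    congr 1
    ext w
    simp only [Finset.coe_filter, Finset.mem_filter, Finset.mem_univ, true_and, conjSwap, Set.mem_setOf_eq]
    exact ⟨fun e => ⟨e.1.1, e.2⟩, fun e => ⟨⟨e.1, by rw [e.2]; exact (Finset.mem_filter.mp hQ).2⟩, e.2⟩⟩
  have hI := class_point_count z A (h.trans' A) (fun P Q => Q = P)
    (fun g P Q => (MulAction.injective g).eq_iff)
  have hA := class_point_count z A (h.trans' A) h.Adj (fun g P Q => h.adj_smul g)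
  have hF := class_point_count z A (h.trans' A) h.Far (fun g P Q => h.far_smul g)
  have eI : (Finset.univ.filter fun P : X => z • P = P).card = 2 + h.fNum z := by
    rw [← h.card_fix_z hz, Nat.card_eq_fintype_card, Fintype.card_subtype]
  have hsI := hsplit (fun P Q => Q = P)
  beta_reduce at hsI
  rw [hsI, eI] at hI
  rw [hsplit] at hA hF
  have sI : ∑ Q ∈ Finset.univ.filter (fun Q => Q = A), (conjSwap z A Q).ncard = k := by
    rw [Finset.filter_eq' Finset.univ A, if_pos (Finset.mem_univ A), Finset.sum_singleton, h.card_conj_self hz]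
  have sA : ∑ Q ∈ Finset.univ.filter (fun Q => h.Adj A Q), (conjSwap z A Q).ncard = k * h.uNum z := by
    rw [Finset.sum_congr rfl (fun Q hQ => ?_), Finset.sum_const, ← Fintype.card_subtype, ← Nat.card_eq_fintype_card,
      h.card_adj, smul_eq_mul]
    obtain ⟨g, hgA, hgB⟩ := (Finset.mem_filter.mp hQ).2
    have := conjSwap_smul z g A B
    rwa [hgA, hgB] at this
  have sF : ∑ Q ∈ Finset.univ.filter (fun Q => h.Far A Q), (conjSwap z A Q).ncard = l * h.jNum z C := by
    rw [Finset.sum_congr rfl (fun Q hQ => ?_), Finset.sum_const, ← Fintype.card_subtype, ← Nat.card_eq_fintype_card,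
      smul_eq_mul]
    obtain ⟨g, hgA, hgC⟩ := h.far_trans hC (Finset.mem_filter.mp hQ).2
    have := conjSwap_smul z g A C
    rwa [hgA, hgC] at this
  rw [sI] at hI
  rw [sA] at hA
  rw [sF] at hF
  have eA : (Finset.univ.filter fun P : X => h.Adj P (z • P)).card = Nat.card {P : X // h.Adj P (z • P)} := by
    rw [Nat.card_eq_fintype_card, Fintype.card_subtype]
  have eF : (Finset.univ.filter fun P : X => h.Far P (z • P)).card = Nat.card {P : X // h.Far P (z • P)} := by
    rw [Nat.card_eq_fintype_card, Fintype.card_subtype]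
  rw [eA] at hA
  rw [eF] at hF
  rw [← Nat.card_eq_fintype_card (α := X)] at hI hA hF
  have hpart : (2 + h.fNum z) + Nat.card {P : X // h.Adj P (z • P)} + Nat.card {P : X // h.Far P (z • P)} = Nat.card X := by
    rw [← eI, Nat.card_eq_fintype_card, Nat.card_eq_fintype_card, Fintype.card_subtype, Fintype.card_subtype,
      Nat.card_eq_fintype_card, ← Finset.card_univ, ← Finset.card_union_of_disjoint, ← Finset.card_union_of_disjoint]
    · refine congrArg Finset.card (Finset.eq_univ_iff_forall.mpr fun P => ?_)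
      simp only [Finset.mem_union, Finset.mem_filter, Finset.mem_univ, true_and]
      by_cases h1 : z • P = P
      · exact Or.inl (Or.inl h1)
      by_cases h2 : h.Adj P (z • P)
      · exact Or.inl (Or.inr h2)
      · exact Or.inr ⟨fun e => h1 e.symm, h2⟩
    · rw [Finset.disjoint_left]
      intro P hP hP'
      simp only [Finset.mem_union, Finset.mem_filter, Finset.mem_univ, true_and] at hP hP'
      rcases hP with e | e
      · exact hP'.1 e.symm
      · exact hP'.2 e
    · rw [Finset.disjoint_left]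
      intro P hP hP'
      simp only [Finset.mem_filter, Finset.mem_univ, true_and] at hP hP'
      exact h.adj_ne hP' hP.symm
  have hv : 0 < Nat.card X := by
    haveI : Nonempty X := ⟨A⟩
    exact Nat.card_pos
  have hN : 0 < N := Finset.card_pos.mpr ⟨z, Finset.mem_filter.mpr ⟨Finset.mem_univ _, IsConj.refl z⟩⟩
  constructor
  · refine Nat.eq_of_mul_eq_mul_left hN ?_
    have e : N * (k * Nat.card X) = Nat.card X * k * k + Nat.card X * (k * h.uNum z) * k + Nat.card X * (l * h.jNum z C) * k := by
      rw [← hI, ← hA, ← hF]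
      nth_rw 1 [← hpart]
      ring
    rw [e]
    calc N * ((2 + h.fNum z) * (k * h.uNum z + l * h.jNum z C) + k * (2 + h.fNum z))
        = N * (2 + h.fNum z) * (k * h.uNum z + l * h.jNum z C + k) := by ring
      _ = _ := by rw [hI]; ring
  · refine Nat.eq_of_mul_eq_mul_left hN ?_
    rw [hA, ← mul_assoc, ← mul_assoc, hI]

include hz in
theorem uNum_le : h.uNum z ≤ Nat.card h.Comp := by
  by_cases he : (conjSwap z A B).Nonempty
  · obtain ⟨w0, hw0⟩ := he
    have h2 : conjSwap z A B ⊆ (fun x => w0 * x) '' (h.Comp : Set G) := fun w hw => by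
      refine ⟨w0⁻¹ * w, ⟨?_, ?_⟩, mul_inv_cancel_left _ _⟩
      · show (w0⁻¹ * w) • A = A
        rw [mul_smul, hw.2, inv_smul_eq_iff, hw0.2]
      · show (w0⁻¹ * w) • B = B
        rw [mul_smul, h.conj_swap_back hz hw, inv_smul_eq_iff, h.conj_swap_back hz hw0]
    refine (Set.ncard_le_ncard h2 (Set.toFinite _)).trans ?_
    rw [Set.ncard_image_of_injective _ (mul_right_injective w0)]
    exact le_of_eq (Nat.card_coe_set_eq _).symm
  · rw [Set.not_nonempty_iff_eq_empty] at he
    simp [uNum, he]

include hz in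
theorem jNum_le {C : X} : h.jNum z C ≤ Nat.card (stabilizer G A ⊓ stabilizer G C : Subgroup G) := by
  by_cases he : (conjSwap z A C).Nonempty
  · obtain ⟨w0, hw0⟩ := he
    have h2 : conjSwap z A C ⊆ (fun x => w0 * x) '' ((stabilizer G A ⊓ stabilizer G C : Subgroup G) : Set G) :=
      fun w hw => by
      refine ⟨w0⁻¹ * w, ⟨?_, ?_⟩, mul_inv_cancel_left _ _⟩
      · show (w0⁻¹ * w) • A = A
        rw [mul_smul, hw.2, inv_smul_eq_iff, hw0.2]
      · show (w0⁻¹ * w) • C = C
        rw [mul_smul, h.conj_swap_back hz hw, inv_smul_eq_iff, h.conj_swap_back hz hw0]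
    refine (Set.ncard_le_ncard h2 (Set.toFinite _)).trans ?_
    rw [Set.ncard_image_of_injective _ (mul_right_injective w0)]
    exact le_of_eq (Nat.card_coe_set_eq _).symm
  · rw [Set.not_nonempty_iff_eq_empty] at he
    simp [jNum, he]

include hz in
/-- The kernel does not fix a far point. -/
theorem ker_not_fix {C : X} (hC : h.Far A C) : ¬ h.Ker A ≤ stabilizer G C := by
  intro hle
  have heq : h.Ker A = h.Ker C := by
    refine Subgroup.eq_of_le_of_card_ge (fun e he => ?_) (h.card_ker C).le
    obtain ⟨g, hgA⟩ := h.trans' A C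
    have h1 := (h.move g).mem_ker_of_coprime (x := e) (by rw [hgA]; exact mem_stabilizer_iff.mp (hle he))
      (Nat.Coprime.coprime_dvd_left (Subgroup.orderOf_dvd_natCard _ he)
        (h.card_comp_move g ▸ h.coprime))
    rwa [h.move_ker g, hgA] at h1
  set N := Subgroup.normalizer (h.Ker A : Set G)
  have hN : ∀ P, h.Ker A = h.Ker P → stabilizer G P ≤ N := fun P e g hg => by
    rw [Subgroup.mem_normalizer_iff, e]
    intro x
    refine ⟨fun hx => h.ker_conj (mem_stabilizer_iff.mp hg) hx, fun hx => ?_⟩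
    have := h.ker_conj (g := g⁻¹) (inv_smul_eq_iff.mpr (mem_stabilizer_iff.mp hg).symm) hx
    simpa [mul_assoc] using this
  haveI := h.prim
  haveI : Nontrivial X := ⟨⟨B, A, h.ne⟩⟩
  have htop : N = ⊤ := by
    rcases (IsPreprimitive.isCoatom_stabilizer_of_isPreprimitive (G := G) (X := X) A).le_iff.mp (hN A rfl) with e | e
    · exact e
    · obtain ⟨g, hg⟩ := h.trans' A C
      have := (h.move g).eq_of_fixed (P := A) (by
        rw [hg]
        exact fun x hx => mem_stabilizer_iff.mp (e ▸ hN C heq (mem_stabilizer_iff.mpr hx)))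
      exact absurd (this.trans hg) hC.1
  have hk := h.one_lt_ker
  rw [Subgroup.eq_bot_iff_forall (h.Ker A) |>.mpr fun x hx => ?_, Subgroup.card_bot] at hk
  · omega
  haveI := h.faithful
  refine eq_of_smul_eq_smul (α := X) fun P => ?_
  rw [one_smul]
  obtain ⟨g, rfl⟩ := h.trans' A P
  have hgx := (Subgroup.mem_normalizer_iff.mp (htop ▸ Subgroup.mem_top g⁻¹ : g⁻¹ ∈ N) x).mp hx
  have h1 := (h.mem_ker.mp hgx).1
  rw [inv_inv, mul_smul, mul_smul, inv_smul_eq_iff] at h1
  exact h1

end Hyp

end CfsgLib.RankThreeFrob
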