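import Cfsg.Agent.Lib.RankThreeFrob.EvenCount

/-!
Even complement: the fixed point set of the kernel part of a far pair stabiliser.

Blueprint: `blueprint/S2207.md`.
-/

set_option autoImplicit false
set_option linter.unusedSectionVars false
set_option linter.style.haveILetI false

namespace CfsgLib.RankThreeFrob

open MulAction
open scoped Pointwise

universe u v

variable {G : Type u} {X : Type v} [Group G] [MulAction G X] [Finite G] [Finite X] {A B : X}

namespace Hyp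

variable (h : Hyp G A B) {z : G} (hz : h.IsInvol z)

include hz in
theorem ker_comm_at {P : X} {a b : G} (ha : a ∈ h.Ker P) (hb : b ∈ h.Ker P) : a * b = b * a := by
  obtain ⟨g, rfl⟩ := h.trans' A P
  have h1 : ∀ {x}, x ∈ h.Ker (g • A) → g⁻¹ * x * g ∈ h.Ker A := fun {x} hx => by
    simpa using h.ker_smul hx g⁻¹
  have h2 := h.ker_comm hz (h1 ha) (h1 hb)
  calc a * b = g * ((g⁻¹ * a * g) * (g⁻¹ * b * g)) * g⁻¹ := by group
    _ = b * a := by rw [h2]; group

theorem ker_mem_ker {e : G} (he : e ∈ h.Ker A) {P : X} (hP : e • P = P) : e ∈ h.Ker P := by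
  obtain ⟨g, rfl⟩ := h.trans' A P
  have h1 := (h.move g).mem_ker_of_coprime (x := e) hP
    (Nat.Coprime.coprime_dvd_left (Subgroup.orderOf_dvd_natCard _ he) (h.card_comp_move g ▸ h.coprime))
  rwa [h.move_ker g] at h1

/-- The part of the kernel at `A` fixing `C`. -/
abbrev KerPair (P Q : X) : Subgroup G := h.Ker P ⊓ stabilizer G Q

theorem kerPair_conj {P Q : X} {x : G} (hx : x ∈ h.KerPair P Q) (g : G) :
    g * x * g⁻¹ ∈ h.KerPair (g • P) (g • Q) := by
  refine ⟨h.ker_smul hx.1 g, ?_⟩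
  show (g * x * g⁻¹) • g • Q = g • Q
  rw [mul_smul, mul_smul, inv_smul_smul, mem_stabilizer_iff.mp hx.2]

theorem card_kerPair {P Q P' Q' : X} (h1 : h.Far P Q) (h2 : h.Far P' Q') :
    Nat.card (h.KerPair P Q) = Nat.card (h.KerPair P' Q') := by
  obtain ⟨g, hgP, hgQ⟩ := h.far_trans h1 h2
  subst hgP; subst hgQ
  refine Nat.card_congr ((MulAut.conj g).toEquiv.subtypeEquiv fun x => ⟨fun hx => h.kerPair_conj hx g, fun hx => ?_⟩)
  have := h.kerPair_conj (x := g * x * g⁻¹) hx g⁻¹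
  simpa [mul_assoc] using this

variable {C : X} (hC : h.Far A C) (hne : h.KerPair A C ≠ ⊥)

include hne in
theorem efix_far {P Q : X} (hP : ∀ e ∈ h.KerPair A C, e • P = P) (hQ : ∀ e ∈ h.KerPair A C, e • Q = Q)
    (hPQ : P ≠ Q) : h.Far P Q := by
  obtain ⟨⟨e, he⟩, he1⟩ := Subgroup.ne_bot_iff_exists_ne_one.mp hne
  refine ⟨hPQ, fun hadj => (h.mem_ker.mp (h.ker_mem_ker he.1 (hP e he))).2 (fun e' => he1 (Subtype.ext e')) Q hadj (hQ e he)⟩

include hC hne in
theorem efix_eq {P Q : X} (hP : ∀ e ∈ h.KerPair A C, e • P = P) (hQ : ∀ e ∈ h.KerPair A C, e • Q = Q)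
    (hPQ : P ≠ Q) : h.KerPair A C = h.KerPair P Q :=
  Subgroup.eq_of_le_of_card_ge (fun e he => ⟨h.ker_mem_ker he.1 (hP e he), hQ e he⟩)
    (h.card_kerPair (h.efix_far hne hP hQ hPQ) hC).le

include hC hne in
/-- The normaliser is two-transitive on the fixed points. -/
theorem efix_trans {P Q P' Q' : X} (hP : ∀ e ∈ h.KerPair A C, e • P = P) (hQ : ∀ e ∈ h.KerPair A C, e • Q = Q)
    (hPQ : P ≠ Q) (hP' : ∀ e ∈ h.KerPair A C, e • P' = P') (hQ' : ∀ e ∈ h.KerPair A C, e • Q' = Q')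
    (hPQ' : P' ≠ Q') :
    ∃ g : G, g ∈ Subgroup.normalizer (h.KerPair A C : Set G) ∧ g • P = P' ∧ g • Q = Q' := by
  obtain ⟨g, hgP, hgQ⟩ := h.far_trans (h.efix_far hne hP hQ hPQ) (h.efix_far hne hP' hQ' hPQ')
  refine ⟨g, Subgroup.mem_normalizer_fintype fun e he => ?_, hgP, hgQ⟩
  rw [SetLike.mem_coe, h.efix_eq hC hne hP' hQ' hPQ', ← hgP, ← hgQ]
  exact h.kerPair_conj ((h.efix_eq hC hne hP hQ hPQ) ▸ he) g

include hz hC hne in
/-- The fixed point set has the square of the number of its points fixed by `z`. -/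
theorem efix_card :
    Nat.card {P : X // ∀ e ∈ h.KerPair A C, e • P = P} =
      Nat.card {P : X // (∀ e ∈ h.KerPair A C, e • P = P) ∧ z • P = P} ^ 2 := by
  classical
  set E := h.KerPair A C with hE
  set N := Subgroup.normalizer (E : Set G) with hN
  let F := {P : X // ∀ e ∈ E, e • P = P}
  have hact : ∀ (g : N) (P : F), ∀ e ∈ E, e • (g : G) • P.1 = (g : G) • P.1 := fun g P e he => by
    have := P.2 _ ((Subgroup.mem_normalizer_iff.mp (inv_mem g.2) e).mp he)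
    rw [inv_inv, mul_smul, mul_smul, inv_smul_eq_iff] at this
    exact this
  letI iact : MulAction N F :=
    { smul := fun g P => ⟨(g : G) • P.1, hact g P⟩
      one_smul := fun P => Subtype.ext (one_smul G P.1)
      mul_smul := fun g g' P => Subtype.ext (mul_smul (g : G) (g' : G) P.1) }
  let ρ : N →* Equiv.Perm F := MulAction.toPermHom N F
  have hρ : ∀ (x : N) (P : F), ((ρ x P : F) : X) = (x : G) • P.1 := fun x P => rfl
  set M : Subgroup N := (Subgroup.centralizer (E : Set G)).subgroupOf N with hM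
  haveI hMn : M.Normal := by
    refine ⟨fun m hm g => Subgroup.mem_subgroupOf.mpr (Subgroup.mem_centralizer_iff.mpr fun e he => ?_)⟩
    have h1 := Subgroup.mem_centralizer_iff.mp (Subgroup.mem_subgroupOf.mp hm) ((g : G)⁻¹ * e * g) (by
      simpa using (Subgroup.mem_normalizer_iff.mp (inv_mem g.2) e).mp he)
    show e * ((g : G) * m * (g : G)⁻¹) = (g : G) * m * (g : G)⁻¹ * e
    calc e * ((g : G) * m * (g : G)⁻¹) = g * ((g : G)⁻¹ * e * g * m) * (g : G)⁻¹ := by group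
      _ = _ := by rw [h1]; group
  set Γ : Subgroup (Equiv.Perm F) := M.map ρ with hΓ
  -- kernels of fixed points centralise `E`
  have hkerM : ∀ (P : F) {x : G}, x ∈ h.Ker P.1 → ∃ m : N, (m : G) = x ∧ ρ m ∈ Γ := by
    intro P x hx
    have hc : ∀ e ∈ E, e * x = x * e := fun e he => h.ker_comm_at hz (h.ker_mem_ker he.1 (P.2 e he)) hx
    have hxN : x ∈ N := Subgroup.mem_normalizer_fintype fun e he => by
      rw [← hc e he, mul_inv_cancel_right]; exact he
    exact ⟨⟨x, hxN⟩, rfl, Subgroup.mem_map_of_mem ρ (Subgroup.mem_subgroupOf.mpr (Subgroup.mem_centralizer_iff.mpr hc))⟩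
  obtain ⟨⟨e0, he0⟩, he01⟩ := Subgroup.ne_bot_iff_exists_ne_one.mp hne
  have he01' : e0 ≠ 1 := fun e => he01 (Subtype.ext e)
  have hstab : ∀ (P : F) (m : N), m ∈ M → (m : G) • P.1 = P.1 → (m : G) ∈ h.Ker P.1 := by
    intro P m hm hfixP
    by_contra hk
    exact he01' (h.fpf_at (h.ker_mem_ker he0.1 (P.2 e0 he0)) hfixP hk
      (Subgroup.mem_centralizer_iff.mp (Subgroup.mem_subgroupOf.mp hm) e0 he0).symm)
  have hfree : ∀ w ∈ Γ, ∀ P Q : F, P ≠ Q → w P = P → w Q = Q → w = 1 := by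
    rintro _ ⟨m, hm, rfl⟩ P Q hPQ hP hQ
    have hP' : (m : G) • P.1 = P.1 := congrArg Subtype.val hP
    have hQ' : (m : G) • Q.1 = Q.1 := congrArg Subtype.val hQ
    have hmem : (m : G) ∈ E := by
      rw [hE, h.efix_eq hC hne P.2 Q.2 (fun e => hPQ (Subtype.ext e))]
      exact ⟨hstab P m hm hP', hQ'⟩
    exact Equiv.ext fun R => Subtype.ext (R.2 _ hmem)
  let a : F := ⟨A, fun e he => (h.mem_ker.mp he.1).1⟩
  let c : F := ⟨C, fun e he => he.2⟩
  have hac : a ≠ c := fun e => hC.1 (congrArg Subtype.val e)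
  have htwo : ∀ P Q P' Q' : F, P ≠ Q → P' ≠ Q' → ∃ g : N, ρ g P = P' ∧ ρ g Q = Q' := by
    intro P Q P' Q' hne' hne''
    obtain ⟨g, hg, h1, h2⟩ := h.efix_trans hC hne P.2 Q.2 (fun e => hne' (Subtype.ext e)) P'.2 Q'.2
      (fun e => hne'' (Subtype.ext e))
    exact ⟨⟨g, hg⟩, Subtype.ext h1, Subtype.ext h2⟩
  have hconjΓ : ∀ (g : N) {w}, w ∈ Γ → ρ g * w * (ρ g)⁻¹ ∈ Γ := by
    rintro g _ ⟨m, hm, rfl⟩
    rw [← map_inv, ← map_mul, ← map_mul]
    exact Subgroup.mem_map_of_mem ρ (hMn.conj_mem m hm g)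
  -- a non-trivial element at `a`
  obtain ⟨x0, hx0, hx0C⟩ := SetLike.not_le_iff_exists.mp (h.ker_not_fix hz hC)
  obtain ⟨m0, hm0, hm0Γ⟩ := hkerM a hx0
  have hm0a : ρ m0 a = a := Subtype.ext (by rw [hρ, hm0]; exact (h.mem_ker.mp hx0).1)
  have hm0ne : ρ m0 c ≠ c := fun e => hx0C (mem_stabilizer_iff.mpr (by
    have := congrArg Subtype.val e
    rwa [hρ, hm0] at this))
  -- transitivity
  have htrans : ∀ Q : F, ∃ w ∈ Γ, w a = Q := by
    intro Q
    by_cases hQ : Q = a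
    · exact ⟨1, one_mem _, hQ.symm⟩
    obtain ⟨g1, hg1c, hg1a⟩ := htwo a c c a hac hac.symm
    have hmove : (ρ g1 * ρ m0 * (ρ g1)⁻¹) a ≠ a := by
      simp only [Equiv.Perm.mul_apply]
      rw [show (ρ g1)⁻¹ a = c from (Equiv.symm_apply_eq _).mpr hg1a.symm]
      intro e
      exact hm0ne ((ρ g1).injective (e.trans hg1a.symm))
    obtain ⟨g2, hg2a, hg2b⟩ := htwo a _ a Q hmove.symm (Ne.symm hQ)
    refine ⟨_, hconjΓ g2 (hconjΓ g1 hm0Γ), ?_⟩
    conv_lhs => rw [← hg2a]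
    simp only [Equiv.Perm.mul_apply] at hg2b ⊢
    rw [show (ρ g2)⁻¹ (ρ g2 a) = a from Equiv.symm_apply_apply _ _]
    exact hg2b
  set H : Subgroup Γ := stabilizer Γ a with hH
  have hHfrob : Cfsg.IsFrobeniusComplement H := by
    refine ⟨fun e => ?_, fun e => ?_, fun g hg => ?_⟩
    · have h1 : (⟨ρ m0, hm0Γ⟩ : Γ) ∈ H := hm0a
      rw [e, Subgroup.mem_bot] at h1
      exact hm0ne (by rw [show ρ m0 = 1 from congrArg Subtype.val h1]; rfl)
    · obtain ⟨w, hw, hwa⟩ := htrans c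
      have h1 : (⟨w, hw⟩ : Γ) ∈ H := e ▸ Subgroup.mem_top _
      exact hac ((show w a = a from h1).symm.trans hwa)
    · refine (Subgroup.eq_bot_iff_forall _).mpr fun w hw => ?_
      obtain ⟨hw1, hw2⟩ := Subgroup.mem_inf.mp hw
      rw [Subgroup.mem_pointwise_smul_iff_inv_smul_mem] at hw2
      have h3 : (g⁻¹ * w * g) • a = a := by
        have := mem_stabilizer_iff.mp hw2
        simpa [MulAut.smul_def] using this
      rw [mul_smul, mul_smul, inv_smul_eq_iff] at h3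
      exact Subtype.ext (hfree w w.2 a ((g : Equiv.Perm F) a)
        (fun e => hg (mem_stabilizer_iff.mpr e.symm)) hw1 h3)
  obtain ⟨R0, hR0, -, hR0c⟩ := CfsgLib.Frob.exists_kernel hHfrob
  set R : Subgroup (Equiv.Perm F) := R0.map Γ.subtype with hR
  have hmemR : ∀ {w}, w ∈ R ↔ w ∈ Γ ∧ (w = 1 ∨ ∀ P, w P ≠ P) := by
    intro w
    constructor
    · rintro ⟨⟨y, hy⟩, hyR, rfl⟩
      refine ⟨hy, ?_⟩
      rw [SetLike.mem_coe, ← SetLike.mem_coe, hR0] at hyR
      rcases hyR with e | e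
      · exact Or.inl (congrArg Subtype.val e)
      · refine Or.inr fun P hP => ?_
        obtain ⟨w, hw, rfl⟩ := htrans P
        refine e ⟨w, hw⟩ ?_
        rw [Subgroup.mem_pointwise_smul_iff_inv_smul_mem, hH, mem_stabilizer_iff]
        show (w⁻¹ * y * w⁻¹⁻¹) a = a
        rw [inv_inv]
        simp only [Equiv.Perm.mul_apply]
        exact (Equiv.symm_apply_eq _).mpr hP
    · rintro ⟨hw, e⟩
      refine ⟨⟨w, hw⟩, ?_, rfl⟩
      rw [hR0]
      rcases e with e | e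
      · exact Or.inl (Subtype.ext e)
      · refine Or.inr fun g hg => ?_
        rw [Subgroup.mem_pointwise_smul_iff_inv_smul_mem, hH, mem_stabilizer_iff] at hg
        have h3 : (g⁻¹ * (⟨w, hw⟩ : Γ) * g) • a = a := by simpa [MulAut.smul_def] using hg
        rw [mul_smul, mul_smul, inv_smul_eq_iff] at h3
        exact e _ h3
  have hRconj : ∀ (g : N) {w}, w ∈ R → ρ g * w * (ρ g)⁻¹ ∈ R := by
    intro g w hw
    obtain ⟨hwΓ, e⟩ := hmemR.mp hw
    refine hmemR.mpr ⟨hconjΓ g hwΓ, ?_⟩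
    rcases e with e | e
    · exact Or.inl (by rw [e, mul_one, mul_inv_cancel])
    · refine Or.inr fun P hP => e ((ρ g)⁻¹ P) ?_
      simp only [Equiv.Perm.mul_apply] at hP
      exact (Equiv.eq_symm_apply _).mpr hP
  have hRfree : ∀ {r}, r ∈ R → ∀ P, r P = P → r = 1 := fun {r} hr P hP =>
    (hmemR.mp hr).2.resolve_right fun e => e P hP
  have hreg : Function.Bijective (fun r : R => (r : Equiv.Perm F) a) := by
    constructor
    · intro r s e
      simp only at e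
      refine Subtype.ext (inv_mul_eq_one.mp (hRfree (mul_mem (inv_mem s.2) r.2) a ?_)).symm
      rw [Equiv.Perm.mul_apply, e]
      exact Equiv.symm_apply_apply _ _
    · intro Q
      obtain ⟨w, hw, rfl⟩ := htrans Q
      obtain ⟨⟨⟨r, hr⟩, ⟨s, hs⟩⟩, e⟩ := hR0c.2 ⟨w, hw⟩
      refine ⟨⟨r, ⟨r, hr, rfl⟩⟩, ?_⟩
      show (r : Equiv.Perm F) a = w a
      have e' : (r : Equiv.Perm F) * (s : Equiv.Perm F) = w := congrArg Subtype.val e
      rw [← e', Equiv.Perm.mul_apply, show (s : Equiv.Perm F) a = a from hs]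
  have hcardR : Nat.card R = Nat.card F := Nat.card_eq_of_bijective _ hreg
  have hRtrans : ∀ r ∈ R, ∀ r' ∈ R, r ≠ 1 → r' ≠ 1 → ∃ g : N, ρ g * r * (ρ g)⁻¹ = r' := by
    intro r hr r' hr' hr1 hr1'
    have hra : ∀ {r}, r ∈ R → r ≠ 1 → r a ≠ a := fun {r} hr h1 e => h1 (hRfree hr a e)
    obtain ⟨g, hga, hgb⟩ := htwo a (r a) a (r' a) (hra hr hr1).symm (hra hr' hr1').symm
    refine ⟨g, congrArg Subtype.val (hreg.1 (a₁ := ⟨_, hRconj g hr⟩) (a₂ := ⟨r', hr'⟩) ?_)⟩
    show (ρ g * r * (ρ g)⁻¹) a = r' a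
    simp only [Equiv.Perm.mul_apply]
    rw [show (ρ g)⁻¹ a = a from (Equiv.symm_apply_eq _).mpr hga.symm]
    exact hgb
  have hRcomm : ∀ r ∈ R, ∀ s ∈ R, r * s = s * r := by
    haveI : Nontrivial R := by
      rw [← Finite.one_lt_card_iff_nontrivial, hcardR]
      exact Finite.one_lt_card_iff_nontrivial.mpr ⟨⟨a, c, hac⟩⟩
    obtain ⟨p, hp, hpd⟩ := Nat.exists_prime_and_dvd (n := Nat.card R) Finite.one_lt_card.ne'
    haveI := Fact.mk hp
    obtain ⟨⟨r1, hr1⟩, hr1o⟩ := exists_prime_orderOf_dvd_card' (G := R) p hpd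
    rw [Subgroup.orderOf_mk] at hr1o
    have hexp : ∀ r ∈ R, r ^ p = 1 := by
      intro r hr
      by_cases h1 : r = 1
      · rw [h1, one_pow]
      obtain ⟨g, hg⟩ := hRtrans r1 hr1 r hr (fun e => hp.ne_one (by rw [← hr1o, e, orderOf_one])) h1
      rw [← hg, conj_pow, ← hr1o, pow_orderOf_eq_one, mul_one, mul_inv_cancel]
    have hpg : IsPGroup p R := fun r => ⟨1, Subtype.ext (by rw [pow_one]; exact hexp r r.2)⟩
    haveI := hpg.center_nontrivial
    obtain ⟨⟨⟨c1, hc1⟩, hc1c⟩, hc11⟩ := exists_ne (1 : Subgroup.center R)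
    have hc1ne : c1 ≠ 1 := fun e => hc11 (Subtype.ext (Subtype.ext e))
    intro r hr s hs
    by_cases h1 : r = 1
    · rw [h1, one_mul, mul_one]
    obtain ⟨g, hg⟩ := hRtrans c1 hc1 r hr hc1ne h1
    have hs' : (ρ g)⁻¹ * s * ρ g ∈ R := by
      have := hRconj g⁻¹ hs
      rwa [map_inv, inv_inv] at this
    have h2 : c1 * ((ρ g)⁻¹ * s * ρ g) = ((ρ g)⁻¹ * s * ρ g) * c1 :=
      (congrArg Subtype.val (Subgroup.mem_center_iff.mp hc1c ⟨_, hs'⟩)).symm
    calc r * s = ρ g * (c1 * ((ρ g)⁻¹ * s * ρ g)) * (ρ g)⁻¹ := by rw [← hg]; group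
      _ = s * r := by rw [h2, ← hg]; group
  -- the involution
  have hzN : z ∈ N := Subgroup.mem_normalizer_fintype fun e he => by
    rw [IsInvol.inv_eq h hz, h.z_inv hz (he : e ∈ E).1]; exact inv_mem he
  set θ := ρ ⟨z, hzN⟩ with hθ
  have hθθ : θ * θ = 1 := by
    rw [hθ, ← map_mul, ← map_one ρ]; exact congrArg ρ (Subtype.ext (IsInvol.mul_self h hz))
  have hθi : θ⁻¹ = θ := inv_eq_of_mul_eq_one_right hθθ
  have hθa : θ a = a := Subtype.ext hz.mem.1
  have hθR : ∀ {r}, r ∈ R → θ * r * θ ∈ R := fun {r} hr => by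
    have := hRconj ⟨z, hzN⟩ hr
    rwa [← hθ, hθi] at this
  set x := ρ m0 with hx
  have hxθ : θ * x * θ = x⁻¹ := by
    rw [hx, hθ, ← map_mul, ← map_mul, ← map_inv]
    exact congrArg ρ (Subtype.ext (by
      show z * (m0 : G) * z = (m0 : G)⁻¹
      rw [hm0]; exact h.z_inv hz hx0))
  have hxR : ∀ {r}, r ∈ R → x * r * x⁻¹ ∈ R := fun {r} hr => hRconj m0 hr
  have hx2fix : ∀ r ∈ R, x * x * r = r * (x * x) → r = 1 := by
    intro r hr hc
    have hxx : x * x ∈ Γ := mul_mem hm0Γ hm0Γ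
    have h1 : x a = a := hm0a
    by_contra hr1
    have h2 : x * x = 1 := hfree _ hxx a (r a) (fun e => hr1 (hRfree hr a e.symm))
      (by rw [Equiv.Perm.mul_apply, h1, h1])
      (by rw [← Equiv.Perm.mul_apply (x * x) r, hc, Equiv.Perm.mul_apply, Equiv.Perm.mul_apply x x, h1, h1])
    have h3 : ρ (m0 ^ 2) c = c := by rw [map_pow, pow_two, ← hx, h2]; rfl
    have h4 : ((m0 : G) ^ 2) • C = C := congrArg Subtype.val h3
    exact hx0C (h.mem_of_sq_mem hz hx0 (mem_stabilizer_iff.mpr (hm0 ▸ h4)))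
  -- the two parts
  let Fx : Subgroup (Equiv.Perm F) :=
    { carrier := {r | r ∈ R ∧ θ * r * θ = r}
      one_mem' := ⟨one_mem _, by rw [mul_one, hθθ]⟩
      mul_mem' := fun {r s} hr hs => ⟨mul_mem hr.1 hs.1, by
        calc θ * (r * s) * θ = θ * r * θ * (θ * s * θ) := by
              rw [show θ * r * θ * (θ * s * θ) = θ * r * (θ * θ) * s * θ by group, hθθ, mul_one]; group
          _ = r * s := by rw [hr.2, hs.2]⟩
      inv_mem' := fun {r} hr => ⟨inv_mem hr.1, by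
        calc θ * r⁻¹ * θ = (θ * r * θ)⁻¹ := by rw [mul_inv_rev, mul_inv_rev, hθi]; group
          _ = r⁻¹ := by rw [hr.2]⟩ }
  let Iv : Subgroup (Equiv.Perm F) :=
    { carrier := {r | r ∈ R ∧ θ * r * θ = r⁻¹}
      one_mem' := ⟨one_mem _, by rw [mul_one, hθθ, inv_one]⟩
      mul_mem' := fun {r s} hr hs => ⟨mul_mem hr.1 hs.1, by
        calc θ * (r * s) * θ = θ * r * θ * (θ * s * θ) := by
              rw [show θ * r * θ * (θ * s * θ) = θ * r * (θ * θ) * s * θ by group, hθθ, mul_one]; group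
          _ = (r * s)⁻¹ := by rw [hr.2, hs.2, ← mul_inv_rev, hRcomm r hr.1 s hs.1]⟩
      inv_mem' := fun {r} hr => ⟨inv_mem hr.1, by
        calc θ * r⁻¹ * θ = (θ * r * θ)⁻¹ := by rw [mul_inv_rev, mul_inv_rev, hθi]; group
          _ = r⁻¹⁻¹ := by rw [hr.2]⟩ }
  have hswapx : ∀ r, θ * (x * r * x⁻¹) * θ = x⁻¹ * (θ * r * θ) * x := fun r => by
    calc θ * (x * r * x⁻¹) * θ = (θ * x * θ) * (θ * r * θ) * (θ * x * θ)⁻¹ := by
          rw [mul_inv_rev, mul_inv_rev, hθi]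
          simp only [mul_assoc]
          rw [← mul_assoc θ θ (r * (θ * _)), hθθ, one_mul, ← mul_assoc θ θ (x⁻¹ * θ), hθθ, one_mul]
      _ = x⁻¹ * (θ * r * θ) * x := by rw [hxθ, inv_inv]
  have hFx : ∀ r ∈ Fx, x * r * x⁻¹ ∈ Fx → r = 1 := by
    intro r hr hr'
    refine hx2fix r hr.1 ?_
    have h1 := hswapx r
    rw [hr'.2, hr.2] at h1
    calc x * x * r = x * (x * r * x⁻¹) * x := by group
      _ = x * (x⁻¹ * r * x) * x := by rw [h1]
      _ = r * (x * x) := by group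
  have hIv : ∀ r ∈ Iv, x * r * x⁻¹ ∈ Iv → r = 1 := by
    intro r hr hr'
    refine hx2fix r hr.1 ?_
    have h1 := hswapx r
    rw [hr'.2, hr.2] at h1
    have h2 : x * r * x⁻¹ = x⁻¹ * r * x := by
      have := congrArg (·⁻¹) h1
      simpa [mul_assoc] using this
    calc x * x * r = x * (x * r * x⁻¹) * x := by group
      _ = x * (x⁻¹ * r * x) * x := by rw [h2]
      _ = r * (x * x) := by group
  have hsq : ∀ (S : Subgroup (Equiv.Perm F)), S ≤ R → (∀ r ∈ S, x * r * x⁻¹ ∈ S → r = 1) →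
      Nat.card S * Nat.card S ≤ Nat.card R := by
    intro S hSR hS
    rw [← Nat.card_prod]
    refine Nat.card_le_card_of_injective (fun p : S × S => (⟨(p.1 : Equiv.Perm F) * (x * p.2 * x⁻¹),
      mul_mem (hSR p.1.2) (hxR (hSR p.2.2))⟩ : R)) ?_
    rintro ⟨r, s⟩ ⟨r', s'⟩ e
    have e' : (r : Equiv.Perm F) * (x * s * x⁻¹) = r' * (x * s' * x⁻¹) := congrArg Subtype.val e
    have h1 : x * ((s' : Equiv.Perm F) * (s : Equiv.Perm F)⁻¹) * x⁻¹ = (r' : Equiv.Perm F)⁻¹ * r := by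
      calc x * ((s' : Equiv.Perm F) * (s : Equiv.Perm F)⁻¹) * x⁻¹
          = (r' : Equiv.Perm F)⁻¹ * (r' * (x * s' * x⁻¹)) * (x * (s : Equiv.Perm F)⁻¹ * x⁻¹) := by group
        _ = _ := by rw [← e']; group
    have h2 := hS _ (mul_mem s'.2 (inv_mem s.2)) (h1 ▸ mul_mem (inv_mem r'.2) r.2)
    rw [h2, mul_one, mul_inv_cancel] at h1
    exact Prod.ext (Subtype.ext (inv_mul_eq_one.mp h1.symm).symm) (Subtype.ext (mul_inv_eq_one.mp h2).symm)
  have hle : Nat.card R ≤ Nat.card Fx * Nat.card Iv := by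
    let d : R →* R :=
      { toFun := fun r => ⟨(r : Equiv.Perm F)⁻¹ * (θ * r * θ), mul_mem (inv_mem r.2) (hθR r.2)⟩
        map_one' := Subtype.ext (by simp [hθθ])
        map_mul' := fun r s => Subtype.ext (by
          show ((r : Equiv.Perm F) * s)⁻¹ * (θ * (r * s) * θ) =
            (r : Equiv.Perm F)⁻¹ * (θ * r * θ) * ((s : Equiv.Perm F)⁻¹ * (θ * s * θ))
          have h1 := hRcomm _ (inv_mem s.2) _ (mul_mem (inv_mem r.2) (hθR r.2))
          calc ((r : Equiv.Perm F) * s)⁻¹ * (θ * (r * s) * θ)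
              = (s : Equiv.Perm F)⁻¹ * ((r : Equiv.Perm F)⁻¹ * (θ * r * θ)) * (θ * s * θ) := by
                rw [show θ * ((r : Equiv.Perm F) * s) * θ = θ * r * (θ * θ) * s * θ by rw [hθθ]; group]
                group
            _ = _ := by rw [h1]; group) }
    rw [← Subgroup.card_mul_index d.ker, Subgroup.index_ker]
    refine Nat.mul_le_mul ?_ ?_
    · refine Nat.card_le_card_of_injective (fun r : d.ker => (⟨((r : R) : Equiv.Perm F), (r : R).2, by
        have h1 : ((r : R) : Equiv.Perm F)⁻¹ * (θ * (r : R) * θ) = 1 := congrArg Subtype.val r.2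
        exact (inv_mul_eq_one.mp h1).symm⟩ : Fx)) fun r s e => ?_
      exact Subtype.ext (Subtype.ext (congrArg (fun y : Fx => (y : Equiv.Perm F)) e))
    · refine Nat.card_le_card_of_injective (fun r : d.range => (⟨((r : R) : Equiv.Perm F), by
        obtain ⟨_, s, rfl⟩ := r
        refine ⟨(d s).2, ?_⟩
        show θ * ((s : Equiv.Perm F)⁻¹ * (θ * s * θ)) * θ = ((s : Equiv.Perm F)⁻¹ * (θ * s * θ))⁻¹
        calc θ * ((s : Equiv.Perm F)⁻¹ * (θ * s * θ)) * θ = (θ * s * θ)⁻¹ * s * (θ * θ) := by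
              rw [mul_inv_rev, mul_inv_rev, hθi]; simp [mul_assoc]
          _ = _ := by rw [hθθ, mul_one, mul_inv_rev (s : Equiv.Perm F)⁻¹, inv_inv]⟩ : Iv)) fun r s e => ?_
      exact Subtype.ext (Subtype.ext (congrArg (fun y : Iv => (y : Equiv.Perm F)) e))
  have hc := hsq Fx (fun r hr => hr.1) hFx
  have hi := hsq Iv (fun r hr => hr.1) hIv
  have hR2 : Nat.card R = Nat.card Fx * Nat.card Fx := by
    rcases le_total (Nat.card Iv) (Nat.card Fx) with e | e
    · exact le_antisymm (hle.trans (Nat.mul_le_mul_left _ e)) hc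
    · have h1 : Nat.card Iv * Nat.card Iv ≤ Nat.card Fx * Nat.card Iv := hi.trans hle
      have h2 : Nat.card Iv ≤ Nat.card Fx := Nat.le_of_mul_le_mul_right h1 Nat.card_pos
      exact le_antisymm (hle.trans (Nat.mul_le_mul_left _ h2)) hc
  rw [← hcardR, hR2, sq]
  suffices hfx : Nat.card Fx = Nat.card {P : X // (∀ e ∈ E, e • P = P) ∧ z • P = P} by rw [hfx]
  refine Nat.card_eq_of_bijective
    (fun r : Fx => (⟨((r : Equiv.Perm F) a).1, ((r : Equiv.Perm F) a).2, ?_⟩ :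
      {P : X // (∀ e ∈ E, e • P = P) ∧ z • P = P})) ⟨fun r s e => ?_, fun P => ?_⟩
  · have h1 : θ ((r : Equiv.Perm F) a) = (r : Equiv.Perm F) a := by
      have h2 := congrFun (congrArg (fun w : Equiv.Perm F => (w : F → F)) r.2.2) a
      simpa only [Equiv.Perm.mul_apply, hθa] using h2
    exact congrArg Subtype.val h1
  · have h1 : ((r : Equiv.Perm F) a).1 = ((s : Equiv.Perm F) a).1 := (congrArg Subtype.val e :)
    exact Subtype.ext (congrArg (fun y : R => (y : Equiv.Perm F))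
      (hreg.1 (a₁ := ⟨(r : Equiv.Perm F), r.2.1⟩) (a₂ := ⟨(s : Equiv.Perm F), s.2.1⟩) (Subtype.ext h1)))
  · obtain ⟨r, hr⟩ := hreg.2 ⟨P.1, P.2.1⟩
    have hra : (r : Equiv.Perm F) a = ⟨P.1, P.2.1⟩ := hr
    refine ⟨⟨r, r.2, congrArg Subtype.val (hreg.1 (a₁ := ⟨_, hθR r.2⟩) (a₂ := r) ?_)⟩,
      Subtype.ext (congrArg Subtype.val hra :)⟩
    show (θ * (r : Equiv.Perm F) * θ) a = (r : Equiv.Perm F) a
    rw [Equiv.Perm.mul_apply, Equiv.Perm.mul_apply, hθa, hra]
    exact Subtype.ext P.2.2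

end Hyp

end CfsgLib.RankThreeFrob
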