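import Cfsg.Agent.Lib.RankThreeFrob.EvenCount

/-!
Even complement: the parameters of the graph of the Frobenius suborbit.

Blueprint: `blueprint/S2207.md`.
-/

set_option autoImplicit false
set_option linter.unusedSectionVars false
set_option linter.style.haveILetI false

namespace CfsgLib.RankThreeFrob

open MulAction
open scoped Pointwise

universe u v

variable {G : Type u} {X : Type v} [Group G] [MulAction G X] [Finite G] [Finite X] {A B : X}

namespace Hyp

variable (h : Hyp G A B)

/-- The common neighbours. -/
noncomputable def common (P Q : X) : ℕ := Nat.card {R : X // h.Adj P R ∧ h.Adj Q R}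

theorem common_smul (g : G) (P Q : X) : h.common (g • P) (g • Q) = h.common P Q := by
  refine (Nat.card_congr ((MulAction.toPerm g).subtypeEquiv fun R => ?_)).symm
  simp only [MulAction.toPerm_apply, h.adj_smul]

theorem common_adj {P Q : X} (hPQ : h.Adj P Q) : h.common P Q = h.common A B := by
  obtain ⟨g, rfl, rfl⟩ := hPQ
  exact h.common_smul g A B

theorem common_far {C P Q : X} (hC : h.Far A C) (hPQ : h.Far P Q) : h.common P Q = h.common A C := by
  obtain ⟨g, rfl, rfl⟩ := h.far_trans hC hPQ
  exact h.common_smul g A C

theorem card_adj_at (P : X) : Nat.card {R // h.Adj P R} = Nat.card (h.Ker A) := by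
  obtain ⟨g, rfl⟩ := h.trans' A P
  rw [← h.card_adj]
  exact (Nat.card_congr ((MulAction.toPerm g).subtypeEquiv fun R => by
    simp only [MulAction.toPerm_apply, h.adj_smul])).symm

theorem card_far_at (P : X) : Nat.card {R // h.Far P R} = Nat.card {R // h.Far A R} := by
  obtain ⟨g, rfl⟩ := h.trans' A P
  exact (Nat.card_congr ((MulAction.toPerm g).subtypeEquiv fun R => by
    simp only [MulAction.toPerm_apply, h.far_smul])).symm

theorem common_le {C : X} : h.common A C ≤ Nat.card (h.Ker A) := by
  rw [← h.card_adj]
  exact Nat.card_le_card_of_injective (fun R => (⟨R.1, R.2.1⟩ : {Q // h.Adj A Q}))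
    fun R R' e => Subtype.ext (congrArg Subtype.val e :)

include h in
theorem graph_params {C : X} (hC : h.Far A C) :
    ∃ e : ℕ, 1 ≤ e ∧ h.common A B + e * Nat.card h.Comp + 1 = Nat.card (h.Ker A) ∧
      h.common A C = Nat.card (stabilizer G A ⊓ stabilizer G C : Subgroup G) * e ∧
      Nat.card (h.Ker A) + 1 ≤ Nat.card {D // h.Far A D} + h.common A C := by
  classical
  haveI : Fintype X := Fintype.ofFinite X
  have hc : ∀ P Q, (Finset.univ.filter fun R => h.Adj P R ∧ h.Adj Q R).card = h.common P Q := fun P Q => by
    rw [common, Nat.card_eq_fintype_card, Fintype.card_subtype]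
  have hka : ∀ P, (Finset.univ.filter fun R => h.Adj P R).card = Nat.card (h.Ker A) := fun P => by
    rw [← h.card_adj_at P, Nat.card_eq_fintype_card, Fintype.card_subtype]
  -- neighbours of the base point outside the star of `B`
  set S := Finset.univ.filter fun R => h.Adj A R ∧ R ≠ B ∧ ¬ h.Adj B R with hS
  have hsplit : h.common A B + S.card + 1 = Nat.card (h.Ker A) := by
    have e : (Finset.univ.filter fun R => h.Adj A R) =
        insert B ((Finset.univ.filter fun R => h.Adj A R ∧ h.Adj B R) ∪ S) := by
      ext R
      simp only [Finset.mem_insert, Finset.mem_union, hS, Finset.mem_filter, Finset.mem_univ, true_and]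
      constructor
      · intro hR
        by_cases h1 : R = B
        · exact Or.inl h1
        by_cases h2 : h.Adj B R
        · exact Or.inr (Or.inl ⟨hR, h2⟩)
        · exact Or.inr (Or.inr ⟨hR, h1, h2⟩)
      · rintro (rfl | hR | hR)
        · exact h.adj_AB
        · exact hR.1
        · exact hR.1
    rw [← hka A, e, Finset.card_insert_of_notMem, Finset.card_union_of_disjoint, hc]
    · rw [Finset.disjoint_left]
      intro R hR hR'
      simp only [hS, Finset.mem_filter, Finset.mem_univ, true_and] at hR hR'
      exact hR'.2.2 hR.2
    · simp only [Finset.mem_union, hS, Finset.mem_filter, Finset.mem_univ, true_and, not_or]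
      exact ⟨fun e => h.adj_ne e.2 rfl, fun e => e.2.1 rfl⟩
  have hfree : Nat.card h.Comp ∣ S.card := by
    have hmem : ∀ (x : h.Comp) {R}, R ∈ S → (x : G) • R ∈ S := by
      intro x R hR
      simp only [hS, Finset.mem_filter, Finset.mem_univ, true_and] at hR ⊢
      refine ⟨?_, fun e => hR.2.1 ?_, fun e => hR.2.2 ?_⟩
      · have := (h.adj_smul (x : G)).mpr hR.1
        rwa [x.2.1] at this
      · exact MulAction.injective (x : G) (e.trans x.2.2.symm)
      · exact (h.adj_smul (x : G)).mp (by rw [x.2.2]; exact e)
    letI : MulAction h.Comp S :=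
      { smul := fun x R => ⟨(x : G) • R.1, hmem x R.2⟩
        one_smul := fun R => Subtype.ext (one_smul G R.1)
        mul_smul := fun x y R => Subtype.ext (mul_smul (x : G) (y : G) R.1) }
    have hst : ∀ R : S, stabilizer h.Comp R = ⊥ := fun R => (Subgroup.eq_bot_iff_forall _).mpr fun x hx => by
      have hR := (Finset.mem_filter.mp R.2).2
      by_contra h1
      exact hR.2.1 (h.frob_at x.2.1 (fun e => h1 (Subtype.ext e)) hR.1 h.adj_AB (congrArg Subtype.val hx) x.2.2)
    rw [← Fintype.card_coe, ← Nat.card_eq_fintype_card,
      Nat.card_congr (MulAction.selfEquivSigmaOrbitsQuotientStabilizer h.Comp S)]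
    haveI : Fintype (orbitRel.Quotient h.Comp S) := Fintype.ofFinite _
    rw [Nat.card_sigma]
    exact Finset.dvd_sum fun q _ => by
      rw [hst, ← Subgroup.index, Subgroup.index_bot]
  obtain ⟨e, he⟩ := hfree
  have hpos : S.Nonempty := by
    by_contra hno
    rw [Finset.not_nonempty_iff_eq_empty] at hno
    set T : X → Set X := fun P => insert P {R | h.Adj P R} with hT
    have hTsmul : ∀ (g : G) P, g • T P = T (g • P) := by
      intro g P
      simp only [hT, Set.smul_set_insert]
      congr 1
      ext R
      rw [Set.mem_smul_set_iff_inv_smul_mem]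
      show h.Adj P (g⁻¹ • R) ↔ h.Adj (g • P) R
      rw [← h.adj_smul g, smul_inv_smul]
    have hsub : T A ⊆ T B := by
      intro R hR
      rcases hR with rfl | hR
      · exact Or.inr (h.adj_symm h.adj_AB)
      · by_cases h1 : R = B
        · exact Or.inl h1
        refine Or.inr ?_
        by_contra h2
        have : R ∈ S := Finset.mem_filter.mpr ⟨Finset.mem_univ _, hR, h1, h2⟩
        rw [hno] at this
        exact absurd this (Finset.notMem_empty _)
    obtain ⟨g, hg⟩ := h.trans' A B
    have hTeq : T A = T B := by
      refine Set.eq_of_subset_of_ncard_le hsub (le_of_eq ?_) (Set.toFinite _)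
      rw [← hg, ← hTsmul, Set.ncard_smul_set]
    rcases h.no_block (S := T A) (Set.mem_insert _ _) (fun x hx => by rw [hTsmul, hx]) (g := g)
      (by rw [hg]; exact h.ne) (by rw [hTsmul, hg, hTeq]) C with e | e
    · exact hC.1 e.symm
    · exact hC.2 e
  have he1 : 1 ≤ e := by
    have := Finset.card_pos.mpr hpos
    rw [he] at this
    exact Nat.pos_of_mul_pos_left this
  -- pairs (neighbour, far point adjacent to it)
  have hkl : Nat.card {D // h.Far A D} * h.common A C = Nat.card (h.Ker A) * S.card := by
    have h1 := Finset.sum_card_bipartiteAbove_eq_sum_card_bipartiteBelow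
      (s := Finset.univ.filter fun R => h.Adj A R) (t := Finset.univ.filter fun D => h.Far A D)
      (fun R D => h.Adj R D)
    simp only [Finset.bipartiteAbove, Finset.bipartiteBelow, Finset.filter_filter] at h1
    have hR : ∀ R ∈ Finset.univ.filter (fun R => h.Adj A R),
        (Finset.univ.filter fun D => h.Far A D ∧ h.Adj R D).card = S.card := by
      intro R hR
      have hAR := (Finset.mem_filter.mp hR).2
      have e : (Finset.univ.filter fun D => h.Adj R D) =
          insert A ((Finset.univ.filter fun D => h.Adj A D ∧ h.Adj R D) ∪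
            (Finset.univ.filter fun D => h.Far A D ∧ h.Adj R D)) := by
        ext D
        simp only [Finset.mem_insert, Finset.mem_union, Finset.mem_filter, Finset.mem_univ, true_and]
        constructor
        · intro hD
          by_cases h1 : D = A
          · exact Or.inl h1
          by_cases h2 : h.Adj A D
          · exact Or.inr (Or.inl ⟨h2, hD⟩)
          · exact Or.inr (Or.inr ⟨⟨fun e => h1 e.symm, h2⟩, hD⟩)
        · rintro (rfl | hD | hD)
          · exact h.adj_symm hAR
          · exact hD.2
          · exact hD.2
      have h2 := hka R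
      rw [e, Finset.card_insert_of_notMem, Finset.card_union_of_disjoint, hc, h.common_adj hAR] at h2
      · omega
      · rw [Finset.disjoint_left]
        intro D hD hD'
        simp only [Finset.mem_filter, Finset.mem_univ, true_and] at hD hD'
        exact hD'.1.2 hD.1
      · simp only [Finset.mem_union, Finset.mem_filter, Finset.mem_univ, true_and, not_or]
        exact ⟨fun e => h.adj_ne e.1 rfl, fun e => e.1.1 rfl⟩
    have hD : ∀ D ∈ Finset.univ.filter (fun D => h.Far A D),
        (Finset.univ.filter fun R => h.Adj A R ∧ h.Adj R D).card = h.common A C := by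
      intro D hD
      rw [← h.common_far hC (Finset.mem_filter.mp hD).2, ← hc]
      refine congrArg Finset.card (Finset.filter_congr fun R _ => ?_)
      exact and_congr_right fun _ => ⟨h.adj_symm, h.adj_symm⟩
    rw [Finset.sum_congr rfl hR, Finset.sum_congr rfl hD, Finset.sum_const, Finset.sum_const, smul_eq_mul,
      smul_eq_mul, hka] at h1
    rw [h1, Nat.card_eq_fintype_card, Fintype.card_subtype]
  have hlpos : 0 < Nat.card {D // h.Far A D} := by
    haveI : Nonempty {D // h.Far A D} := ⟨⟨C, hC⟩⟩
    exact Nat.card_pos
  refine ⟨e, he1, ?_, ?_, ?_⟩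
  · rw [mul_comm, ← he]; exact hsplit
  · refine Nat.eq_of_mul_eq_mul_left hlpos ?_
    rw [hkl, he, ← mul_assoc, ← mul_assoc, ← h.card_far hC]
  · have e : (Finset.univ.filter fun R => h.Adj A R) =
        (Finset.univ.filter fun R => h.Adj A R ∧ h.Adj C R) ∪
          (Finset.univ.filter fun R => h.Adj A R ∧ ¬ h.Adj C R) := by
      ext R
      simp only [Finset.mem_union, Finset.mem_filter, Finset.mem_univ, true_and]
      tauto
    have h2 := hka A
    rw [e, Finset.card_union_of_disjoint, hc] at h2
    · have h3 : insert A (Finset.univ.filter fun R => h.Adj A R ∧ ¬ h.Adj C R) ⊆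
          Finset.univ.filter fun R => h.Far C R := by
        intro R hR
        simp only [Finset.mem_insert, Finset.mem_filter, Finset.mem_univ, true_and] at hR ⊢
        rcases hR with rfl | hR
        · exact h.far_symm hC
        · exact ⟨fun e => hC.2 (e ▸ hR.1), hR.2⟩
      have h4 := Finset.card_le_card h3
      rw [Finset.card_insert_of_notMem (by
        simp only [Finset.mem_filter, Finset.mem_univ, true_and]
        exact fun e => h.adj_ne e.1 rfl)] at h4
      have h5 : (Finset.univ.filter fun R => h.Far C R).card = Nat.card {D // h.Far A D} := by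
        rw [← h.card_far_at C, Nat.card_eq_fintype_card (α := {R // h.Far C R}), Fintype.card_subtype]
      omega
    · rw [Finset.disjoint_left]
      intro R hR hR'
      simp only [Finset.mem_filter, Finset.mem_univ, true_and] at hR hR'
      exact hR'.2 hR.2

end Hyp

end CfsgLib.RankThreeFrob
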