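import Cfsg.Agent.Lib.RankThreeFrob.EvenGraph
import Cfsg.Agent.Lib.FeitHigman.Spectral

/-!
The adjacency algebra of the suborbit graph: integrality and a second moment.

Blueprint: `blueprint/S2207.md`.
-/

set_option autoImplicit false
set_option linter.unusedSectionVars false
set_option linter.style.haveILetI false

namespace CfsgLib.RankThreeFrob

open MulAction Matrix

universe u v

section Mats

variable {G : Type u} {X : Type v} [Group G] [MulAction G X] [Fintype G] [Fintype X] [DecidableEq X]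

/-- The zero-one matrix of a relation. -/
noncomputable def relMat (R : X → X → Prop) [DecidableRel R] : Matrix X X ℂ :=
  fun P Q => if R P Q then 1 else 0

theorem orbit_sum (R : X → X → Prop) [DecidableRel R] (hR : ∀ (g : G) P Q, R (g • P) (g • Q) ↔ R P Q)
    (htr : ∀ P Q P' Q', R P Q → R P' Q' → ∃ g : G, g • P = P' ∧ g • Q = Q') (F : X → X → ℂ) {P Q : X}
    (hPQ : R P Q) :
    (∑ g : G, F (g • P) (g • Q)) * (∑ P' : X, ∑ Q' : X, relMat R P' Q') =
      (Fintype.card G : ℂ) * ∑ P' : X, ∑ Q' : X, relMat R P' Q' * F P' Q' := by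
  calc (∑ g : G, F (g • P) (g • Q)) * (∑ P' : X, ∑ Q' : X, relMat R P' Q')
      = ∑ P' : X, ∑ Q' : X, relMat R P' Q' * ∑ g : G, F (g • P') (g • Q') := by
        rw [Finset.mul_sum]
        refine Finset.sum_congr rfl fun P' _ => ?_
        rw [Finset.mul_sum]
        refine Finset.sum_congr rfl fun Q' _ => ?_
        unfold relMat
        by_cases h : R P' Q'
        · rw [if_pos h, mul_one, one_mul]
          obtain ⟨g0, rfl, rfl⟩ := htr P Q P' Q' hPQ h
          symm
          refine Fintype.sum_equiv (Equiv.mulRight g0) _ _ fun g => ?_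
          simp [mul_smul]
        · rw [if_neg h, mul_zero, zero_mul]
    _ = ∑ g : G, ∑ P' : X, ∑ Q' : X, relMat R P' Q' * F (g • P') (g • Q') := by
        simp only [Finset.mul_sum]
        rw [Finset.sum_comm (γ := G)]
        exact Finset.sum_congr rfl fun P' _ => Finset.sum_comm
    _ = ∑ _g : G, ∑ P' : X, ∑ Q' : X, relMat R P' Q' * F P' Q' := by
        refine Finset.sum_congr rfl fun g _ => ?_
        refine Fintype.sum_equiv (MulAction.toPerm g) _ _ fun P' => ?_
        refine Fintype.sum_equiv (MulAction.toPerm g) _ _ fun Q' => ?_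
        simp only [MulAction.toPerm_apply, relMat, hR]
    _ = _ := by rw [Finset.sum_const, Finset.card_univ, nsmul_eq_mul]

theorem sum_relMat_quad (R : X → X → Prop) [DecidableRel R] (hR : ∀ (g : G) P Q, R (g • P) (g • Q) ↔ R P Q)
    (htr : ∀ P Q P' Q', R P Q → R P' Q' → ∃ g : G, g • P = P' ∧ g • Q = Q') (hsymm : ∀ P Q, R P Q → R Q P)
    (M : Matrix X X ℂ) (hM : ∀ P Q, M P Q = M Q P) :
    (∑ g : G, ∑ P : X, ∑ Q : X, relMat R P Q * (M P (g • P) * M Q (g • Q))) *
        (∑ P : X, ∑ Q : X, relMat R P Q) =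
      (Fintype.card G : ℂ) * ((M * relMat R) * (M * relMat R)).trace := by
  have h1 : ∑ g : G, ∑ P : X, ∑ Q : X, relMat R P Q * (M P (g • P) * M Q (g • Q)) =
      ∑ P : X, ∑ Q : X, relMat R P Q * ∑ g : G, M P (g • P) * M Q (g • Q) := by
    rw [Finset.sum_comm]
    refine Finset.sum_congr rfl fun P _ => ?_
    rw [Finset.sum_comm]
    exact Finset.sum_congr rfl fun Q _ => by rw [Finset.mul_sum]
  rw [h1]
  calc (∑ P : X, ∑ Q : X, relMat R P Q * ∑ g : G, M P (g • P) * M Q (g • Q)) * (∑ P : X, ∑ Q : X, relMat R P Q)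
      = ∑ P : X, ∑ Q : X, relMat R P Q *
          ((Fintype.card G : ℂ) * ∑ P' : X, ∑ Q' : X, relMat R P' Q' * (M P P' * M Q Q')) := by
        rw [Finset.sum_mul]
        refine Finset.sum_congr rfl fun P _ => ?_
        rw [Finset.sum_mul]
        refine Finset.sum_congr rfl fun Q _ => ?_
        by_cases h : R P Q
        · rw [mul_assoc, orbit_sum R hR htr (fun P' Q' => M P P' * M Q Q') h]
        · simp [relMat, h]
    _ = (Fintype.card G : ℂ) * ((M * relMat R) * (M * relMat R)).trace := by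
        simp only [Matrix.trace, Matrix.diag, Matrix.mul_apply, Finset.mul_sum, Finset.sum_mul]
        refine Finset.sum_congr rfl fun P _ => ?_
        conv_lhs => arg 2; ext Q; rw [Finset.sum_comm]
        rw [Finset.sum_comm]
        refine Finset.sum_congr rfl fun Q' _ => Finset.sum_congr rfl fun Q _ => Finset.sum_congr rfl fun P' _ => ?_
        rw [hM Q' Q, show relMat R Q P = relMat R P Q by simp only [relMat]; exact if_congr ⟨hsymm _ _, hsymm _ _⟩ rfl rfl]
        ring

end Mats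

variable {G : Type u} {X : Type v} [Group G] [MulAction G X] [Finite G] [Finite X] {A B : X}

namespace Hyp

variable (h : Hyp G A B)

/-- The number of points carried to a neighbour. -/
noncomputable def nbMoved (g : G) : ℕ := Nat.card {P : X // h.Adj P (g • P)}

section Alg

variable [Fintype X] [DecidableEq X] [DecidableRel h.Adj] [DecidableRel h.Far]

theorem relMat_add : 1 + relMat h.Adj + relMat h.Far = (Matrix.of fun _ _ => (1 : ℂ)) := by
  ext P Q
  simp only [Matrix.add_apply, Matrix.one_apply, relMat, Matrix.of_apply]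
  by_cases h1 : P = Q
  · subst h1
    rw [if_pos rfl, if_neg (fun e => h.adj_ne e rfl), if_neg (show ¬ h.Far P P from fun e => e.1 rfl)]
    simp
  · by_cases h2 : h.Adj P Q
    · rw [if_neg h1, if_pos h2, if_neg (show ¬ h.Far P Q from fun e => e.2 h2)]; simp
    · rw [if_neg h1, if_neg h2, if_pos (show h.Far P Q from ⟨h1, h2⟩)]; simp

theorem row_adj (P : X) : ∑ Q : X, relMat h.Adj P Q = (Nat.card (h.Ker A) : ℂ) := by
  simp only [relMat]
  rw [Finset.sum_boole, ← h.card_adj_at P, Nat.card_eq_fintype_card, Fintype.card_subtype]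

theorem row_far (P : X) : ∑ Q : X, relMat h.Far P Q = (Nat.card {D // h.Far A D} : ℂ) := by
  simp only [relMat]
  rw [Finset.sum_boole, ← h.card_far_at P, Nat.card_eq_fintype_card, Fintype.card_subtype]

theorem adj_sq {C : X} (hC : h.Far A C) :
    relMat h.Adj * relMat h.Adj = (Nat.card (h.Ker A) : ℂ) • (1 : Matrix X X ℂ) +
      (h.common A B : ℂ) • relMat h.Adj + (h.common A C : ℂ) • relMat h.Far := by
  ext P Q
  have e : (relMat h.Adj * relMat h.Adj) P Q = (Nat.card {R : X // h.Adj P R ∧ h.Adj Q R} : ℂ) := by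
    rw [Matrix.mul_apply, Nat.card_eq_fintype_card, Fintype.card_subtype, ← Finset.sum_boole]
    refine Finset.sum_congr rfl fun R _ => ?_
    simp only [relMat]
    have hs : h.Adj Q R ↔ h.Adj R Q := ⟨h.adj_symm, h.adj_symm⟩
    by_cases h1 : h.Adj P R <;> by_cases h2 : h.Adj R Q <;> simp [h1, h2, hs]
  rw [e]
  simp only [Matrix.add_apply, Matrix.smul_apply, Matrix.one_apply, relMat, smul_eq_mul]
  by_cases h1 : P = Q
  · subst h1
    rw [if_pos rfl, if_neg (fun e => h.adj_ne e rfl), if_neg (show ¬ h.Far P P from fun e => e.1 rfl), ← h.card_adj_at P]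
    simp only [mul_one, mul_zero, add_zero]
    congr 1
    exact Nat.card_congr (Equiv.subtypeEquivRight fun R => and_self_iff)
  · by_cases h2 : h.Adj P Q
    · rw [if_neg h1, if_pos h2, if_neg (show ¬ h.Far P Q from fun e => e.2 h2), ← h.common_adj h2]
      simp [common]
    · rw [if_neg h1, if_neg h2, if_pos (show h.Far P Q from ⟨h1, h2⟩), ← h.common_far hC ⟨h1, h2⟩]
      simp [common]

theorem adj_mul_ones : relMat h.Adj * (Matrix.of fun _ _ => (1 : ℂ)) =
    (Nat.card (h.Ker A) : ℂ) • (Matrix.of fun _ _ => (1 : ℂ)) := by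
  ext P Q
  simp [Matrix.mul_apply, h.row_adj P]

theorem ones_mul_adj : (Matrix.of fun _ _ => (1 : ℂ)) * relMat h.Adj =
    (Nat.card (h.Ker A) : ℂ) • (Matrix.of fun _ _ => (1 : ℂ)) := by
  ext P Q
  simp only [Matrix.mul_apply, Matrix.of_apply, one_mul, Matrix.smul_apply, smul_eq_mul, mul_one]
  rw [← h.row_adj Q]
  exact Finset.sum_congr rfl fun R _ => by
    simp only [relMat]; exact if_congr ⟨h.adj_symm, h.adj_symm⟩ rfl rfl

end Alg

include h in
/-- Integrality of the eigenvalues. -/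
theorem eigen_square {C : X} (hC : h.Far A C) (hv : Even (Nat.card X)) :
    ∃ δ t : ℤ, Odd t ∧ δ ^ 2 = ((h.common A B : ℤ) - h.common A C) ^ 2 +
        4 * ((Nat.card (h.Ker A) : ℤ) - h.common A C) ∧
      δ * t = ((h.common A B : ℤ) - h.common A C) * ((Nat.card X : ℤ) - 1) + 2 * (Nat.card (h.Ker A) : ℤ) := by
  classical
  haveI : Fintype X := Fintype.ofFinite X
  obtain ⟨e, -, hlam, hmu, -⟩ := h.graph_params hC
  have hlm := h.card_far hC
  set k := Nat.card (h.Ker A)
  set hh := Nat.card h.Comp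
  set l := Nat.card {D // h.Far A D}
  set lam := h.common A B
  set mu := h.common A C
  have hml : mu * l = k * (e * hh) := by
    rw [hmu, mul_right_comm, mul_comm (Nat.card _) l, hlm]; ring
  set M := relMat h.Adj
  set J : Matrix X X ℂ := Matrix.of fun _ _ => (1 : ℂ) with hJ
  have hX : (Nat.card X : ℂ) = 1 + k + l := by
    rw [h.card_points]; push_cast; rfl
  have hvne : (Nat.card X : ℂ) ≠ 0 := by
    haveI : Nonempty X := ⟨A⟩
    exact Nat.cast_ne_zero.mpr Nat.card_pos.ne'
  obtain ⟨δ, hδ⟩ := IsAlgClosed.exists_pow_nat_eq (((lam : ℂ) - mu) ^ 2 + 4 * ((k : ℂ) - mu)) (n := 2) (by norm_num)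
  set N : ℤ := ((lam : ℤ) - mu) * ((Nat.card X : ℤ) - 1) + 2 * (k : ℤ) with hN
  set Q : ℤ := ((lam : ℤ) - mu) ^ 2 + 4 * ((k : ℤ) - mu) with hQ
  suffices key : ∃ t : ℤ, Odd t ∧ δ * (t : ℂ) = (N : ℂ) by
    obtain ⟨t, ht, hδt⟩ := key
    have h1 : N ^ 2 = Q * t ^ 2 := by
      have h2 : ((N ^ 2 : ℤ) : ℂ) = ((Q * t ^ 2 : ℤ) : ℂ) := by
        push_cast
        rw [← hδt, mul_pow, hδ, hQ]
        push_cast
        ring
      exact_mod_cast h2
    have ht0 : t ≠ 0 := fun e => by rw [e] at ht; exact absurd ht (by decide)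
    obtain ⟨δ0, hδ0⟩ : t ∣ N := (Int.pow_dvd_pow_iff (n := 2) (by norm_num)).mp ⟨Q, by rw [h1, mul_comm]⟩
    refine ⟨δ0, t, ht, ?_, by rw [hδ0, mul_comm]⟩
    refine mul_right_cancel₀ (pow_ne_zero 2 ht0) ?_
    rw [← h1, hδ0, mul_pow, mul_comm]
  by_cases hδ0 : δ = 0
  · exfalso
    rw [hδ0, zero_pow (by norm_num)] at hδ
    have hQ0 : Q = 0 := by
      have h2 : ((Q : ℤ) : ℂ) = ((0 : ℤ) : ℂ) := by
        rw [hQ]; push_cast; exact hδ.symm
      exact_mod_cast h2
    have h1 : mu ≤ k := h.common_le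
    have h2 : ((lam : ℤ) - mu) ^ 2 = 0 := by nlinarith [sq_nonneg ((lam : ℤ) - mu)]
    have h3 : (k : ℤ) = mu := by nlinarith
    have h4 : (lam : ℤ) = mu := by
      have := pow_eq_zero_iff (n := 2) two_ne_zero |>.mp h2
      omega
    omega
  set s : ℂ := (((lam : ℂ) - mu) - δ) / 2 with hs
  set c : ℂ := ((k : ℂ) - s) / Nat.card X with hc
  have hJJ : J * J = (Nat.card X : ℂ) • J := by
    ext P R; simp [hJ, Matrix.mul_apply, Nat.card_eq_fintype_card]
  have hMM : M * M = ((lam : ℂ) - mu) • M + ((k : ℂ) - mu) • 1 + (mu : ℂ) • J := by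
    rw [h.adj_sq hC, hJ, ← h.relMat_add]
    module
  have hvc : (Nat.card X : ℂ) * c = (k : ℂ) - s := by
    rw [hc, mul_div_cancel₀ _ hvne]
  have h2c : (k : ℂ) = lam + e * hh + 1 := by exact_mod_cast hlam.symm
  have hml' : (mu : ℂ) * l = k * (e * hh) := by exact_mod_cast hml
  have hkey : (mu : ℂ) - 2 * c * k + 2 * c * s + c ^ 2 * Nat.card X = -δ * c := by
    refine mul_left_cancel₀ hvne ?_
    have hv2 : (mu : ℂ) * Nat.card X = ((k : ℂ) - s) * ((k : ℂ) - s - δ) := by
      have hsd : ((k : ℂ) - s) * ((k : ℂ) - s - δ) = ((k : ℂ) - ((lam : ℂ) - mu) / 2) ^ 2 - δ ^ 2 / 4 := by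
        rw [hs]; ring
      rw [hsd, hδ, hX]
      linear_combination hml' - (k : ℂ) * h2c
    linear_combination hv2 + ((Nat.card X : ℂ) * c - 2 * k + 2 * s + δ + ((k : ℂ) - s)) * hvc
  set T := M - s • (1 : Matrix X X ℂ) - c • J with hT
  have hTT : T * T = δ • T := by
    have h1 : (c * (k : ℂ)) • J = c • ((k : ℂ) • J) := by rw [smul_smul]
    calc T * T = M * M - (2 * s) • M + (s ^ 2) • (1 : Matrix X X ℂ) + (-2 * c * k + 2 * c * s + c ^ 2 * Nat.card X) • J := by
          rw [hT]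
          simp only [sub_mul, mul_sub, Matrix.smul_mul, Matrix.mul_smul, one_mul, mul_one,
            h.adj_mul_ones, h.ones_mul_adj, hJJ, M, J]
          module
      _ = (((lam : ℂ) - mu) - 2 * s) • M + (((k : ℂ) - mu) + s ^ 2) • (1 : Matrix X X ℂ) +
          ((mu : ℂ) - 2 * c * k + 2 * c * s + c ^ 2 * Nat.card X) • J := by
          rw [hMM]; module
      _ = δ • T := by
          rw [hkey, hT, show ((k : ℂ) - mu) + s ^ 2 = δ * -s by rw [hs]; linear_combination (-1 / 4 : ℂ) * hδ,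
            show ((lam : ℂ) - mu) - 2 * s = δ by rw [hs]; ring]
          module
  obtain ⟨n, hn⟩ := CfsgLib.FeitHigman.trace_idempotent (δ⁻¹ • T) (by
    rw [Matrix.smul_mul, Matrix.mul_smul, hTT, smul_smul, smul_smul, mul_assoc, inv_mul_cancel₀ hδ0, mul_one])
  rw [Matrix.trace_smul, hT, Matrix.trace_sub, Matrix.trace_sub, Matrix.trace_smul, Matrix.trace_smul,
    Matrix.trace_one, smul_eq_mul, smul_eq_mul, smul_eq_mul, ← Nat.card_eq_fintype_card] at hn
  have hM0 : M.trace = 0 := by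
    simp only [Matrix.trace, Matrix.diag, M, relMat]
    exact Finset.sum_eq_zero fun P _ => if_neg fun e => h.adj_ne e rfl
  have hJtr : J.trace = Nat.card X := by simp [hJ, Matrix.trace, Nat.card_eq_fintype_card]
  rw [hM0, hJtr, inv_mul_eq_iff_eq_mul₀ hδ0] at hn
  refine ⟨(Nat.card X : ℤ) - 1 - 2 * n, ?_, ?_⟩
  · obtain ⟨r, hr⟩ := hv
    exact ⟨(r : ℤ) - 1 - n, by rw [hr]; push_cast; ring⟩
  · rw [hN]
    push_cast
    have hc' : c * (Nat.card X : ℂ) = (k : ℂ) - s := by rw [mul_comm, hvc]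
    rw [hc'] at hn
    rw [hs] at hn
    linear_combination 2 * hn

include h in
/-- The second moment of the number of points moved to neighbours. -/
theorem second_moment [Fintype G] {C : X} (hC : h.Far A C) (hlam : h.common A B = 0) :
    ∑ g : G, ((h.nbMoved g : ℤ) - Nat.card (h.Ker A)) ^ 2 =
      (Nat.card G : ℤ) * ((h.common A C : ℤ) ^ 2 + 2 * ((Nat.card (h.Ker A) : ℤ) - h.common A C)) := by
  classical
  haveI : Fintype X := Fintype.ofFinite X
  obtain ⟨e, -, he, hmu, -⟩ := h.graph_params hC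
  rw [hlam, zero_add] at he
  have hlm := h.card_far hC
  set k := Nat.card (h.Ker A) with hk
  set l := Nat.card {D // h.Far A D} with hl
  set mu := h.common A C
  have hml : mu * l = k * (k - 1) := by
    rw [hmu, mul_right_comm, mul_comm (Nat.card _) l, hlm, ← he, Nat.add_sub_cancel]; ring
  set M := relMat h.Adj with hM
  set O := relMat h.Far with hO
  have hMsym : ∀ P Q, M P Q = M Q P := fun P Q => by
    simp only [hM, relMat]; exact if_congr ⟨h.adj_symm, h.adj_symm⟩ rfl rfl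
  have ha1 : ∀ g : G, (h.nbMoved g : ℂ) = ∑ P : X, M P (g • P) := fun g => by
    simp only [hM, relMat]
    rw [Finset.sum_boole, nbMoved, Nat.card_eq_fintype_card, Fintype.card_subtype]
  have hMM : M * M = (k : ℂ) • 1 + (mu : ℂ) • O := by
    rw [hM, h.adj_sq hC, hlam, Nat.cast_zero, zero_smul, add_zero]
  have hMO : M * O = ((k : ℂ) - 1) • M + ((k : ℂ) - mu) • O := by
    have h1 : O = (Matrix.of fun _ _ => (1 : ℂ)) - 1 - M := by rw [← h.relMat_add, hM, hO]; abel
    rw [h1, mul_sub, mul_sub, hM, h.adj_mul_ones, mul_one, ← hM, hMM, ← h1, ← h.relMat_add, ← hM, ← hO]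
    module
  have htr1 : (1 : Matrix X X ℂ).trace = Nat.card X := by rw [Matrix.trace_one, Nat.card_eq_fintype_card]
  have htrO : O.trace = 0 := by
    simp only [Matrix.trace, Matrix.diag, hO, relMat]
    exact Finset.sum_eq_zero fun P _ => if_neg fun e => e.1 rfl
  have hOsym : ∀ P Q, O P Q = O Q P := fun P Q => by
    simp only [hO, relMat]; exact if_congr ⟨h.far_symm, h.far_symm⟩ rfl rfl
  have htrOO : (O * O).trace = (Nat.card X : ℂ) * l := by
    rw [Nat.card_eq_fintype_card, ← nsmul_eq_mul, ← Finset.card_univ, ← Finset.sum_const]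
    simp only [Matrix.trace, Matrix.diag, Matrix.mul_apply]
    refine Finset.sum_congr rfl fun P _ => ?_
    rw [hl, ← h.row_far P]
    refine Finset.sum_congr rfl fun Q _ => ?_
    rw [hOsym Q P, hO]
    simp [relMat]
  have htrMM : (M * M).trace = (Nat.card X : ℂ) * k := by
    rw [hMM, Matrix.trace_add, Matrix.trace_smul, Matrix.trace_smul, htr1, htrO, smul_zero, add_zero, smul_eq_mul, mul_comm]
  have htrMO : (M * O).trace = 0 := by
    simp only [Matrix.trace, Matrix.diag, Matrix.mul_apply]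
    refine Finset.sum_eq_zero fun P _ => Finset.sum_eq_zero fun Q _ => ?_
    simp only [hM, hO, relMat]
    by_cases h1 : h.Adj P Q
    · rw [if_neg (fun e : h.Far Q P => e.2 (h.adj_symm h1)), mul_zero]
    · rw [if_neg h1, zero_mul]
  have htrOM : (O * M).trace = 0 := by rw [Matrix.trace_mul_comm, htrMO]
  -- the three relations
  have htrE : ∀ P Q P' Q' : X, P = Q → P' = Q' → ∃ g : G, g • P = P' ∧ g • Q = Q' := by
    rintro P _ P' _ rfl rfl
    obtain ⟨g, hg⟩ := h.trans' P P'
    exact ⟨g, hg, hg⟩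
  have htrA : ∀ P Q P' Q', h.Adj P Q → h.Adj P' Q' → ∃ g : G, g • P = P' ∧ g • Q = Q' := by
    rintro _ _ _ _ ⟨a, rfl, rfl⟩ ⟨b, rfl, rfl⟩
    exact ⟨b * a⁻¹, by rw [mul_smul, inv_smul_smul], by rw [mul_smul, inv_smul_smul]⟩
  have hI : relMat (fun P Q : X => P = Q) = (1 : Matrix X X ℂ) := by
    ext P Q; simp [relMat, Matrix.one_apply]
  have qI := sum_relMat_quad (G := G) (fun P Q : X => P = Q) (fun g P Q => (MulAction.injective g).eq_iff)
    htrE (fun _ _ => Eq.symm) M hMsym
  have qA := sum_relMat_quad (G := G) h.Adj (fun g P Q => h.adj_smul g) htrA (fun _ _ => h.adj_symm) M hMsym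
  have qF := sum_relMat_quad (G := G) h.Far (fun g P Q => h.far_smul g)
    (fun P Q P' Q' => h.far_trans) (fun _ _ => h.far_symm) M hMsym
  rw [hI, mul_one, htrMM] at qI
  rw [← hM, hMM] at qA
  rw [← hO, hMO] at qF
  simp only [Matrix.add_mul, Matrix.mul_add, Matrix.smul_mul, Matrix.mul_smul, mul_one, one_mul,
    Matrix.trace_add, Matrix.trace_smul, htr1, htrO, htrOO, htrMM, htrMO, htrOM, smul_eq_mul, mul_zero,
    add_zero, zero_add] at qA qF
  have sumI : ∑ P : X, ∑ Q : X, (1 : Matrix X X ℂ) P Q = Nat.card X := by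
    simp [Matrix.one_apply, Nat.card_eq_fintype_card]
  have sumA : ∑ P : X, ∑ Q : X, M P Q = (Nat.card X : ℂ) * k := by
    rw [Finset.sum_congr rfl fun P _ => (h.row_adj P), Finset.sum_const, Finset.card_univ, nsmul_eq_mul,
      ← Nat.card_eq_fintype_card]
  have sumF : ∑ P : X, ∑ Q : X, O P Q = (Nat.card X : ℂ) * l := by
    rw [Finset.sum_congr rfl fun P _ => (h.row_far P), Finset.sum_const, Finset.card_univ, nsmul_eq_mul,
      ← Nat.card_eq_fintype_card]
  rw [sumI] at qI
  rw [sumA] at qA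
  rw [sumF] at qF
  -- the moments
  set G' : ℂ := (Fintype.card G : ℂ) with hG'
  set SI := ∑ g : G, ∑ P : X, ∑ Q : X, (1 : Matrix X X ℂ) P Q * (M P (g • P) * M Q (g • Q))
  set SA := ∑ g : G, ∑ P : X, ∑ Q : X, M P Q * (M P (g • P) * M Q (g • Q))
  set SF := ∑ g : G, ∑ P : X, ∑ Q : X, O P Q * (M P (g • P) * M Q (g • Q))
  have hS2 : ∑ g : G, (h.nbMoved g : ℂ) ^ 2 = SI + SA + SF := by
    simp only [SI, SA, SF, ← Finset.sum_add_distrib]
    refine Finset.sum_congr rfl fun g _ => ?_
    rw [ha1, pow_two, Finset.sum_mul]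
    refine Finset.sum_congr rfl fun P _ => ?_
    rw [Finset.mul_sum]
    refine Finset.sum_congr rfl fun Q _ => ?_
    have h1 : (1 : Matrix X X ℂ) P Q + M P Q + O P Q = 1 := by
      have := congrFun (congrFun h.relMat_add P) Q
      simpa [hM, hO] using this
    rw [← add_mul, ← add_mul, h1, one_mul]
  have hS1 : ∑ g : G, (h.nbMoved g : ℂ) = G' * k := by
    simp only [ha1]
    rw [Finset.sum_comm]
    have hP : ∀ P : X, (∑ g : G, M P (g • P)) * (Nat.card X : ℂ) = G' * k := fun P => by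
      have := orbit_sum (G := G) (fun P Q : X => P = Q) (fun g P Q => (MulAction.injective g).eq_iff)
        htrE (fun P' _ => M P P') (P := P) (Q := P) rfl
      rw [hI, sumI] at this
      rw [this]
      congr 1
      rw [← h.row_adj P]
      exact Finset.sum_congr rfl fun P' _ => by simp [Matrix.one_apply, hM]
    have hv0 : (Nat.card X : ℂ) ≠ 0 := by
      haveI : Nonempty X := ⟨A⟩
      exact Nat.cast_ne_zero.mpr Nat.card_pos.ne'
    refine mul_right_cancel₀ hv0 ?_
    rw [Finset.sum_mul, Finset.sum_congr rfl fun P _ => hP P, Finset.sum_const, Finset.card_univ, nsmul_eq_mul,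
      ← Nat.card_eq_fintype_card]
    ring
  have hv0 : (Nat.card X : ℂ) ≠ 0 := by
    haveI : Nonempty X := ⟨A⟩
    exact Nat.cast_ne_zero.mpr Nat.card_pos.ne'
  have hk0 : (k : ℂ) ≠ 0 := Nat.cast_ne_zero.mpr Nat.card_pos.ne'
  have hl0 : (l : ℂ) ≠ 0 := by
    haveI : Nonempty {D // h.Far A D} := ⟨⟨C, hC⟩⟩
    exact Nat.cast_ne_zero.mpr Nat.card_pos.ne'
  have hml' : (mu : ℂ) * l = k * ((k : ℂ) - 1) := by
    have h1 : ((mu * l : ℕ) : ℂ) = ((k * (k - 1) : ℕ) : ℂ) := by rw [hml]
    rw [Nat.cast_mul, Nat.cast_mul, Nat.cast_sub (by omega)] at h1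
    simpa using h1
  have eI : SI = G' * k := by
    refine mul_right_cancel₀ hv0 ?_
    linear_combination qI
  have eA : SA = G' * (k + mu * ((k : ℂ) - 1)) := by
    refine mul_right_cancel₀ (mul_ne_zero hv0 hk0) ?_
    linear_combination qA + G' * (Nat.card X : ℂ) * mu * hml'
  have eF : SF = G' * (mu * ((k : ℂ) - 1) + ((k : ℂ) - mu) ^ 2) := by
    refine mul_right_cancel₀ (mul_ne_zero hv0 hl0) ?_
    linear_combination qF - G' * (Nat.card X : ℂ) * ((k : ℂ) - 1) * hml'
  have hfin : ((∑ g : G, ((h.nbMoved g : ℤ) - k) ^ 2 : ℤ) : ℂ) =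
      (((Nat.card G : ℤ) * ((mu : ℤ) ^ 2 + 2 * ((k : ℤ) - mu)) : ℤ) : ℂ) := by
    push_cast
    simp only [sub_sq, Finset.sum_add_distrib, Finset.sum_sub_distrib, Finset.sum_const, Finset.card_univ,
      nsmul_eq_mul]
    rw [← Finset.sum_mul, ← Finset.mul_sum, hS1, hS2, eI, eA, eF, Nat.card_eq_fintype_card, ← hG']
    ring
  exact_mod_cast hfin

end Hyp

end CfsgLib.RankThreeFrob
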