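import Cfsg.Agent.Lib.RankThreeFrob.EvenFrob
import Cfsg.Agent.Lib.RankThreeFrob.EvenSpectral

/-!
Even complement, semiregular kernel: the orbit structure and the moment inequality.

Blueprint: `blueprint/S2207.md`.
-/

set_option autoImplicit false
set_option linter.unusedSectionVars false
set_option linter.style.haveILetI false

namespace CfsgLib.RankThreeFrob

open MulAction
open scoped Pointwise

universe u v

variable {G : Type u} {X : Type v} [Group G] [MulAction G X] [Finite G] [Finite X] {A B : X}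

namespace Hyp

variable (h : Hyp G A B) {z : G} (hz : h.IsInvol z)

theorem nbMoved_conj (g x : G) : h.nbMoved (g * x * g⁻¹) = h.nbMoved x := by
  refine (Nat.card_congr ((MulAction.toPerm g).subtypeEquiv fun P => ?_)).symm
  simp only [MulAction.toPerm_apply]
  rw [show (g * x * g⁻¹) • g • P = g • x • P by rw [mul_smul, mul_smul, inv_smul_smul], h.adj_smul]

theorem nbMoved_one : h.nbMoved 1 = 0 :=
  Nat.card_eq_zero.mpr (Or.inl ⟨fun P => h.adj_ne P.2 (one_smul G P.1).symm⟩)

include hz in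
theorem semi_params {C : X} (hC : h.Far A C) (hzC : z • C = C) (hE : h.KerPair A C = ⊥) :
    stabilizer G A ⊓ stabilizer G C ≤ h.Comp ∧
      h.fNum z * Nat.card (stabilizer G A ⊓ stabilizer G C : Subgroup G) = Nat.card h.Comp ∧
      Nat.card {D // h.Far A D} = Nat.card (h.Ker A) * h.fNum z ∧
      2 ∣ Nat.card (stabilizer G A ⊓ stabilizer G C : Subgroup G) := by
  have hle : stabilizer G A ⊓ stabilizer G C ≤ h.Comp := fun x hx => by
    obtain ⟨e, he, heC, hl, -⟩ := h.decomp_at hz hzC (mem_stabilizer_iff.mp hx.1) (mem_stabilizer_iff.mp hx.2)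
    have h1 : e ∈ h.KerPair A C := ⟨he, heC⟩
    rw [hE, Subgroup.mem_bot] at h1
    rwa [h1, inv_one, one_mul] at hl
  have heq : h.Comp ⊓ stabilizer G C = stabilizer G A ⊓ stabilizer G C :=
    le_antisymm (inf_le_inf_right _ inf_le_left) (le_inf hle inf_le_right)
  have hfm := h.fNum_mul hz hC hzC
  rw [heq] at hfm
  refine ⟨hle, hfm, ?_, ?_⟩
  · refine Nat.eq_of_mul_eq_mul_right (Nat.card_pos (α := (stabilizer G A ⊓ stabilizer G C : Subgroup G))) ?_
    rw [h.card_far hC, mul_assoc, hfm]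
  · haveI : Fact (Nat.Prime 2) := ⟨Nat.prime_two⟩
    exact (orderOf_eq_prime hz.sq hz.ne_one) ▸ Subgroup.orderOf_dvd_natCard _
      (show z ∈ stabilizer G A ⊓ stabilizer G C from ⟨hz.mem.1, hzC⟩)

include hz in
theorem semi_free {C : X} (hC : h.Far A C) (hE : h.KerPair A C = ⊥) {P Q : X} (hne : P ≠ Q) {x : G}
    (hP : x ∈ h.Ker P) (hQ : x • Q = Q) : x = 1 := by
  by_contra h1
  by_cases hadj : h.Adj P Q
  · exact (h.mem_ker.mp hP).2 h1 Q hadj hQ
  · have h2 := h.card_kerPair (P := P) (Q := Q) ⟨hne, hadj⟩ hC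
    rw [hE, Subgroup.card_bot] at h2
    haveI := (Nat.card_eq_one_iff_unique.mp h2).1
    exact h1 (congrArg Subtype.val (Subsingleton.elim (⟨x, hP, hQ⟩ : h.KerPair P Q) 1))

include hz in
theorem z_in_orbit {C : X} (hC : h.Far A C) (hzC : z • C = C) (hE : h.KerPair A C = ⊥) (P : X) :
    ∃ c ∈ h.Ker A, z • P = c • P := by
  obtain ⟨-, -, hl, -⟩ := h.semi_params hz hC hzC hE
  have hzi : ∀ {e : G}, e ∈ h.Ker A → z * e * z = e⁻¹ := fun he => h.z_inv hz he
  have hzz := IsInvol.mul_self h hz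
  by_cases hPA : P = A
  · exact ⟨1, one_mem _, by rw [one_smul, hPA]; exact hz.mem.1⟩
  by_cases hadj : h.Adj A P
  · obtain ⟨e, he, rfl⟩ := h.exists_ker_smul hadj
    refine ⟨e⁻¹ * e⁻¹, mul_mem (inv_mem he) (inv_mem he), ?_⟩
    rw [← mul_smul, show z * e = (z * e * z) * z by simp [mul_assoc, hzz], hzi he, mul_smul, hz.mem.2,
      mul_smul, inv_smul_smul]
  -- the map from kernel and fixed points onto the far points
  let T := {D : X // h.Far A D ∧ z • D = D}
  let φ : h.Ker A × T → {D // h.Far A D} := fun p => ⟨(p.1 : G) • p.2.1, by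
    have := (h.far_smul (p.1 : G)).mpr p.2.2.1
    rwa [(h.mem_ker.mp p.1.2).1] at this⟩
  have hφ : Function.Injective φ := by
    rintro ⟨⟨e, he⟩, D⟩ ⟨⟨e', he'⟩, D'⟩ heq
    have h1 : e • D.1 = e' • D'.1 := congrArg Subtype.val heq
    have hw : e'⁻¹ * e ∈ h.Ker A := mul_mem (inv_mem he') he
    have h2 : (e'⁻¹ * e) • D.1 = D'.1 := by rw [mul_smul, h1, inv_smul_smul]
    have h3 : (e'⁻¹ * e)⁻¹ • D.1 = D'.1 := by
      rw [← D'.2.2, ← h2, ← mul_smul z, show z * (e'⁻¹ * e) = (z * (e'⁻¹ * e) * z) * z by simp [mul_assoc, hzz],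
        hzi hw, mul_smul, D.2.2]
    have h4 : (e'⁻¹ * e) ^ 2 ∈ stabilizer G D.1 := by
      rw [mem_stabilizer_iff, pow_two, mul_smul, h2, ← h3, smul_inv_smul]
    have h5 : (e'⁻¹ * e) • D.1 = D.1 := mem_stabilizer_iff.mp (h.mem_of_sq_mem hz hw h4)
    have h6 := h.semi_free hz hC hE D.2.1.1 hw h5
    have h7 : D = D' := Subtype.ext (h5.symm.trans h2)
    subst h7
    exact Prod.ext (Subtype.ext (inv_mul_eq_one.mp h6).symm) rfl
  have hbij := (Nat.bijective_iff_injective_and_card φ).mpr ⟨hφ, by rw [Nat.card_prod, hl]; rfl⟩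
  obtain ⟨⟨⟨e, he⟩, D⟩, hD⟩ := hbij.2 ⟨P, fun e => hPA e.symm, hadj⟩
  have h1 : e • D.1 = P := congrArg Subtype.val hD
  refine ⟨e⁻¹ * e⁻¹, mul_mem (inv_mem he) (inv_mem he), ?_⟩
  rw [← h1, ← mul_smul, show z * e = (z * e * z) * z by simp [mul_assoc, hzz], hzi he, mul_smul, D.2.2,
    mul_smul, inv_smul_smul]

include hz in
theorem sum_ker_moved {C : X} (hC : h.Far A C) (hzC : z • C = C) (hE : h.KerPair A C = ⊥) [Fintype (h.Ker A)] :
    ∑ e : h.Ker A, (h.nbMoved (e : G)) = Nat.card (h.Ker A) * ((2 + h.fNum z) * h.uNum z) := by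
  classical
  haveI : Fintype X := Fintype.ofFinite X
  have hz1 : h.nbMoved z = (2 + h.fNum z) * h.uNum z := (h.count_eqs hz hC).2
  have e1 : ∀ g : G, h.nbMoved g = ∑ P : X, if h.Adj P (g • P) then 1 else 0 := fun g => by
    rw [nbMoved, Nat.card_eq_fintype_card, Fintype.card_subtype, Finset.card_filter]
  have e2 : ∑ e : h.Ker A, h.nbMoved (e : G) = ∑ e : h.Ker A, h.nbMoved ((e : G) * z) := by
    simp only [e1]
    rw [Finset.sum_comm, Finset.sum_comm (γ := h.Ker A)]
    refine Finset.sum_congr rfl fun P _ => ?_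
    obtain ⟨c, hc, hzP⟩ := h.z_in_orbit hz hC hzC hE P
    refine (Fintype.sum_equiv (Equiv.mulRight (⟨c, hc⟩ : h.Ker A)) _ _ fun e => ?_).symm
    simp only [Equiv.coe_mulRight, Subgroup.coe_mul, mul_smul, hzP]
  have e3 : ∀ e : h.Ker A, h.nbMoved ((e : G) * z) = h.nbMoved z := fun e => by
    obtain ⟨d, hd, hd2, -⟩ := h.exists_sqrt hz e.2
    rw [← hd2, ← h.conj_ker_z hz hd, h.nbMoved_conj]
  rw [e2, Finset.sum_congr rfl fun e _ => e3 e, Finset.sum_const, Finset.card_univ, smul_eq_mul,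
    ← Nat.card_eq_fintype_card, hz1]

include hz in
theorem moment_bound {C : X} (hC : h.Far A C) (hzC : z • C = C) (hE : h.KerPair A C = ⊥)
    (hlam : h.common A B = 0) :
    (Nat.card (h.Ker A) : ℤ) * (((2 + h.fNum z : ℕ) : ℤ) * h.uNum z - ((Nat.card (h.Ker A) : ℤ) - 1)) ^ 2 ≤
      ((Nat.card (h.Ker A) : ℤ) - 1) * Nat.card h.Comp *
        ((h.common A C : ℤ) ^ 2 + 2 * ((Nat.card (h.Ker A) : ℤ) - h.common A C)) := by
  classical
  haveI : Fintype X := Fintype.ofFinite X
  haveI : Fintype G := Fintype.ofFinite G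
  haveI : Nonempty X := ⟨A⟩
  haveI : Fintype (h.Ker A) := Fintype.ofFinite _
  set k := Nat.card (h.Ker A) with hk
  set F : G → ℤ := fun g => ((h.nbMoved g : ℤ) - k) ^ 2 with hF
  set S : X → Finset G := fun P => Finset.univ.filter fun g => g ∈ h.Ker P ∧ g ≠ 1 with hS
  have hdisj : (Set.univ : Set X).PairwiseDisjoint S := by
    intro P _ Q _ hne
    rw [Function.onFun, Finset.disjoint_left]
    intro g hg hg'
    simp only [hS, Finset.mem_filter, Finset.mem_univ, true_and] at hg hg'
    exact hg.2 (h.semi_free hz hC hE hne hg.1 (h.mem_ker.mp hg'.1).1)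
  have hle : ∑ P : X, ∑ g ∈ S P, F g ≤ ∑ g : G, F g := by
    rw [← Finset.sum_biUnion (hdisj.subset (Set.subset_univ _))]
    exact Finset.sum_le_sum_of_subset_of_nonneg (Finset.subset_univ _) fun g _ _ => sq_nonneg _
  have hconst : ∀ P, ∑ g ∈ S P, F g = ∑ g ∈ S A, F g := by
    intro P
    obtain ⟨x, rfl⟩ := h.trans' A P
    refine (Finset.sum_equiv (MulAut.conj x).toEquiv (fun g => ?_) (fun g _ => ?_)).symm
    · simp only [hS, Finset.mem_filter, Finset.mem_univ, true_and, MulEquiv.toEquiv_eq_coe, EquivLike.coe_coe,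
        MulAut.conj_apply, ne_eq, conj_eq_one_iff]
      refine and_congr_left fun _ => ⟨fun hg => h.ker_smul hg x, fun hg => ?_⟩
      have := h.ker_smul hg x⁻¹
      simpa [mul_assoc] using this
    · show F g = F (x * g * x⁻¹)
      simp only [hF, h.nbMoved_conj]
  rw [Finset.sum_congr rfl fun P _ => hconst P, Finset.sum_const, Finset.card_univ, nsmul_eq_mul,
    ← Nat.card_eq_fintype_card, h.second_moment hC hlam, h.card_group, Nat.cast_mul, Nat.cast_mul] at hle
  rw [mul_assoc (Nat.card X : ℤ)] at hle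
  have hv : (0 : ℤ) < Nat.card X := by exact_mod_cast Nat.card_pos
  have hT := le_of_mul_le_mul_left hle hv
  -- Cauchy-Schwarz on the kernel
  have hsum : ∑ g ∈ S A, ((h.nbMoved g : ℤ) - k) =
      (k : ℤ) * (((2 + h.fNum z : ℕ) : ℤ) * h.uNum z - ((k : ℤ) - 1)) := by
    have h1 : S A = (Finset.univ.filter fun g : G => g ∈ h.Ker A).erase 1 := by
      ext g; simp [hS, and_comm]
    have h2 : ∑ g ∈ Finset.univ.filter (fun g : G => g ∈ h.Ker A), ((h.nbMoved g : ℤ) - k) =
        ∑ e : h.Ker A, ((h.nbMoved (e : G) : ℤ) - k) := by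
      rw [Finset.sum_subtype (p := fun g => g ∈ h.Ker A)]
      intro g; simp
    rw [h1, Finset.sum_erase_eq_sub (by simp), h2, h.nbMoved_one, Finset.sum_sub_distrib, ← Nat.cast_sum,
      h.sum_ker_moved hz hC hzC hE, Finset.sum_const, Finset.card_univ, ← Nat.card_eq_fintype_card,
      nsmul_eq_mul, ← hk]
    push_cast
    ring
  have hcard : ((S A).card : ℤ) = (k : ℤ) - 1 := by
    have h1 : S A = (Finset.univ.filter fun g : G => g ∈ h.Ker A).erase 1 := by
      ext g; simp [hS, and_comm]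
    rw [h1, Finset.card_erase_of_mem (by simp), ← Fintype.card_subtype, ← Nat.card_eq_fintype_card,
      Nat.cast_sub Nat.card_pos]
    rfl
  have hcs := sq_sum_le_card_mul_sum_sq (s := S A) (f := fun g => (h.nbMoved g : ℤ) - k)
  rw [hsum, hcard] at hcs
  set D : ℤ := ((2 + h.fNum z : ℕ) : ℤ) * h.uNum z - ((k : ℤ) - 1)
  set W : ℤ := (h.common A C : ℤ) ^ 2 + 2 * ((k : ℤ) - h.common A C)
  have hk1 : (0 : ℤ) ≤ (k : ℤ) - 1 := by
    have := h.one_lt_ker
    omega
  have h3 : ((k : ℤ) * D) ^ 2 ≤ ((k : ℤ) - 1) * ((k : ℤ) * Nat.card h.Comp * W) :=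
    hcs.trans (mul_le_mul_of_nonneg_left hT hk1)
  refine le_of_mul_le_mul_left ?_ (show (0 : ℤ) < k by have := h.one_lt_ker; omega)
  calc (k : ℤ) * ((k : ℤ) * D ^ 2) = ((k : ℤ) * D) ^ 2 := by ring
    _ ≤ _ := h3
    _ = _ := by ring

include hz in
/-- No strongly regular graph with parameters (28, 9, 0, 4). -/
theorem not_twentyeight {C : X} (hC : h.Far A C) (hlam : h.common A B = 0)
    (hk : Nat.card (h.Ker A) = 9) (hl : Nat.card {D // h.Far A D} = 18) (hmu : h.common A C = 4) : False := by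
  classical
  haveI : Fintype X := Fintype.ofFinite X
  set S4 := Finset.univ.filter fun Q => h.Adj A Q ∧ h.Adj C Q with hS4
  set W := Finset.univ.filter fun D => h.Far A D ∧ D ≠ C ∧ ¬ h.Adj C D with hW
  have hc : ∀ P Q, (Finset.univ.filter fun R => h.Adj P R ∧ h.Adj Q R).card = h.common P Q := fun P Q => by
    rw [common, Nat.card_eq_fintype_card, Fintype.card_subtype]
  have hka : ∀ P, (Finset.univ.filter fun R => h.Adj P R).card = 9 := fun P => by
    rw [← hk, ← h.card_adj_at P, Nat.card_eq_fintype_card, Fintype.card_subtype]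
  have hnone : ∀ {P Q R : X}, h.Adj P Q → h.Adj P R → h.Adj Q R → False := fun {P Q R} h1 h2 h3 => by
    have h4 := h.common_adj h1
    rw [hlam, ← hc] at h4
    have : R ∈ Finset.univ.filter fun R => h.Adj P R ∧ h.Adj Q R := Finset.mem_filter.mpr ⟨Finset.mem_univ _, h2, h3⟩
    rw [Finset.card_eq_zero.mp h4] at this
    exact absurd this (Finset.notMem_empty _)
  have hS4c : S4.card = 4 := by rw [hS4, hc, hmu]
  have hWc : W.card = 12 := by
    have h1 : (Finset.univ.filter fun R => h.Adj C R).card = S4.card + (Finset.univ.filter fun R => h.Far A R ∧ h.Adj C R).card := by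
      rw [hS4, ← Finset.card_union_of_disjoint]
      · congr 1
        ext R
        simp only [Finset.mem_union, Finset.mem_filter, Finset.mem_univ, true_and]
        constructor
        · intro hR
          by_cases h2 : h.Adj A R
          · exact Or.inl ⟨h2, hR⟩
          · exact Or.inr ⟨⟨fun e => hC.2 (h.adj_symm (e.symm ▸ hR)), h2⟩, hR⟩
        · rintro (hR | hR) <;> exact hR.2
      · rw [Finset.disjoint_left]
        intro R hR hR'
        simp only [Finset.mem_filter, Finset.mem_univ, true_and] at hR hR'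
        exact hR'.1.2 hR.1
    rw [hka, hS4c] at h1
    have h2 : (Finset.univ.filter fun R => h.Far A R) =
        insert C (W ∪ Finset.univ.filter fun R => h.Far A R ∧ h.Adj C R) := by
      ext R
      simp only [Finset.mem_insert, Finset.mem_union, hW, Finset.mem_filter, Finset.mem_univ, true_and]
      constructor
      · intro hR
        by_cases h3 : R = C
        · exact Or.inl h3
        by_cases h4 : h.Adj C R
        · exact Or.inr (Or.inr ⟨hR, h4⟩)
        · exact Or.inr (Or.inl ⟨hR, h3, h4⟩)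
      · rintro (rfl | hR | hR)
        · exact hC
        · exact hR.1
        · exact hR.1
    have h3 : (Finset.univ.filter fun R => h.Far A R).card = 18 := by
      rw [← hl, Nat.card_eq_fintype_card, Fintype.card_subtype]
    rw [h2, Finset.card_insert_of_notMem, Finset.card_union_of_disjoint] at h3
    · omega
    · rw [Finset.disjoint_left]
      intro R hR hR'
      simp only [hW, Finset.mem_filter, Finset.mem_univ, true_and] at hR hR'
      exact hR.2.2 hR'.2
    · simp only [Finset.mem_union, hW, Finset.mem_filter, Finset.mem_univ, true_and, not_or]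
      exact ⟨fun e => e.2.1 rfl, fun e => h.adj_ne e.2 rfl⟩
  -- common neighbours in `W`
  have hpair : ∀ Q ∈ S4, ∀ R ∈ S4, (Finset.univ.filter fun D => h.Adj Q D ∧ h.Adj R D) =
      insert A (insert C (W.filter fun D => h.Adj Q D ∧ h.Adj R D)) := by
    intro Q hQ R hR
    obtain ⟨-, hAQ, hCQ⟩ := Finset.mem_filter.mp hQ
    obtain ⟨-, hAR, hCR⟩ := Finset.mem_filter.mp hR
    ext D
    simp only [Finset.mem_insert, hW, Finset.mem_filter, Finset.mem_univ, true_and]
    constructor
    · intro hD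
      by_cases h1 : D = A
      · exact Or.inl h1
      by_cases h2 : D = C
      · exact Or.inr (Or.inl h2)
      refine Or.inr (Or.inr ⟨⟨⟨fun e => h1 e.symm, fun e => hnone hAQ e hD.1⟩, h2, fun e => hnone hCQ e hD.1⟩, hD⟩)
    · rintro (rfl | rfl | hD)
      · exact ⟨h.adj_symm hAQ, h.adj_symm hAR⟩
      · exact ⟨h.adj_symm hCQ, h.adj_symm hCR⟩
      · exact hD.2
  have hin : ∀ Q ∈ S4, ∀ R ∈ S4, (W.filter fun D => h.Adj Q D ∧ h.Adj R D).card + 2 = if Q = R then 9 else 4 := by
    intro Q hQ R hR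
    have h1 := congrArg Finset.card (hpair Q hQ R hR)
    rw [Finset.card_insert_of_notMem, Finset.card_insert_of_notMem] at h1
    rotate_left
    · simp only [hW, Finset.mem_filter, Finset.mem_univ, true_and]
      exact fun e => e.1.2.1 rfl
    · simp only [Finset.mem_insert, hW, Finset.mem_filter, Finset.mem_univ, true_and, not_or]
      exact ⟨hC.1, fun e => e.1.1.1 rfl⟩
    split
    · rename_i e
      subst e
      rw [show (Finset.univ.filter fun D => h.Adj Q D ∧ h.Adj Q D) = Finset.univ.filter fun D => h.Adj Q D by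
        simp only [and_self], hka] at h1
      omega
    · rename_i e
      have hfar : h.Far Q R := ⟨e, fun e' => hnone (Finset.mem_filter.mp hQ).2.1 (Finset.mem_filter.mp hR).2.1 e'⟩
      rw [hc, h.common_far hC hfar, hmu] at h1
      omega
  have hsq := sq_sum_le_card_mul_sum_sq (s := W) (f := fun D => (((S4.filter fun Q => h.Adj Q D).card : ℕ) : ℤ))
  have s1 : ∑ D ∈ W, (S4.filter fun Q => h.Adj Q D).card = 28 := by
    have h1 := Finset.sum_card_bipartiteAbove_eq_sum_card_bipartiteBelow (s := W) (t := S4) (fun D Q => h.Adj Q D)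
    simp only [Finset.bipartiteAbove, Finset.bipartiteBelow] at h1
    rw [h1, Finset.sum_congr rfl (fun Q hQ => (?_ : _ = 7)), Finset.sum_const, hS4c]
    · rfl
    · have h2 := hin Q hQ Q hQ
      rw [if_pos rfl] at h2
      simp only [and_self] at h2
      omega
  have s2 : ∑ D ∈ W, (S4.filter fun Q => h.Adj Q D).card ^ 2 = 52 := by
    have h1 : ∀ D, (S4.filter fun Q => h.Adj Q D).card ^ 2 =
        ∑ Q ∈ S4, ∑ R ∈ S4, if h.Adj Q D ∧ h.Adj R D then 1 else 0 := fun D => by
      rw [pow_two, Finset.card_filter, Finset.sum_mul_sum]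
      refine Finset.sum_congr rfl fun Q _ => Finset.sum_congr rfl fun R _ => ?_
      by_cases hQ : h.Adj Q D <;> by_cases hR : h.Adj R D <;> simp [hQ, hR]
    have h2 : ∀ Q ∈ S4, ∑ R ∈ S4, (W.filter fun D => h.Adj Q D ∧ h.Adj R D).card = 13 := by
      intro Q hQ
      rw [← Finset.add_sum_erase _ _ hQ, Finset.sum_congr rfl (fun R hR => (?_ : _ = 2)), Finset.sum_const,
        Finset.card_erase_of_mem hQ, hS4c]
      · have h3 := hin Q hQ Q hQ
        rw [if_pos rfl] at h3
        simp only [smul_eq_mul]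
        omega
      · have h3 := hin Q hQ R (Finset.mem_of_mem_erase hR)
        rw [if_neg (Finset.ne_of_mem_erase hR).symm] at h3
        omega
    simp only [h1]
    rw [Finset.sum_comm, Finset.sum_congr rfl fun Q hQ => (?_ : _ = 13), Finset.sum_const, hS4c]
    · rfl
    · rw [Finset.sum_comm, ← h2 Q hQ]
      exact Finset.sum_congr rfl fun R _ => by rw [Finset.card_filter]
  rw [← Nat.cast_sum, s1, hWc] at hsq
  rw [show ∑ D ∈ W, ((((S4.filter fun Q => h.Adj Q D).card : ℕ) : ℤ)) ^ 2 = ((52 : ℕ) : ℤ) by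
    rw [← s2]; push_cast; rfl] at hsq
  norm_num at hsq

end Hyp

end CfsgLib.RankThreeFrob
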