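import Mathlib

/-!
Arithmetic for the semiregular case.

Blueprint: `blueprint/S2207.md`.
-/

set_option autoImplicit false

namespace CfsgLib.RankThreeFrob

theorem suborbit_ratio_le {a f : ℕ} (hf : 2 ≤ f) (h : a * (1 + f) ≤ 2 * (2 + f)) : a ≤ 2 := by
  by_contra hlt
  have : 3 * (1 + f) ≤ a * (1 + f) := Nat.mul_le_mul_right _ (by omega)
  omega

theorem no_square_two {m g d : ℕ} (hm : Even m) (hm0 : 0 < m) (hg : 1 ≤ g)
    (h : d ^ 2 = (m * g) ^ 2 + 4 * m * (2 * g + 1) + 4) : False := by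
  have hlt : m * g < d := by nlinarith
  obtain ⟨c, rfl⟩ : ∃ c, d = m * g + c := ⟨d - m * g, by omega⟩
  have hc : 0 < c := by omega
  obtain ⟨r, rfl⟩ := hm
  have h1 : 2 * c * ((r + r) * g) + c ^ 2 = 4 * (r + r) * (2 * g + 1) + 4 := by nlinarith
  have hce : Even c := by
    have h2 : Even (c ^ 2) := by
      have h3 : Even (2 * c * ((r + r) * g) + c ^ 2) := by
        rw [h1]; exact ⟨4 * r * (2 * g + 1) + 2, by ring⟩
      exact (Nat.even_add.mp h3).mp ⟨c * ((r + r) * g), by ring⟩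
    exact (Nat.even_pow.mp h2).1
  obtain ⟨b, rfl⟩ := hce
  rcases b with _ | _ | _ | b
  · omega
  · nlinarith
  · have h4 : 8 * r = 12 := by nlinarith
    omega
  · have h5 : 6 * ((r + r) * g) ≤ (b + 1 + 1 + 1 + (b + 1 + 1 + 1)) * ((r + r) * g) :=
      Nat.mul_le_mul_right _ (by omega)
    have h6 : (r + r) * 1 ≤ (r + r) * g := Nat.mul_le_mul_left _ hg
    have h7 : 36 ≤ (b + 1 + 1 + 1 + (b + 1 + 1 + 1)) ^ 2 := by nlinarith
    have h8 : 4 * (r + r) * (2 * g + 1) = 8 * ((r + r) * g) + 4 * (r + r) := by ring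
    have h9 : 2 * (b + 1 + 1 + 1 + (b + 1 + 1 + 1)) * ((r + r) * g) =
        2 * ((b + 1 + 1 + 1 + (b + 1 + 1 + 1)) * ((r + r) * g)) := by ring
    omega

theorem delta_form {mu f d : ℕ} (hmu : Even mu) (hmu0 : 0 < mu) (hf : 2 ≤ f)
    (h : (d : ℤ) ^ 2 = (mu : ℤ) ^ 2 + 4 * mu * ((f : ℤ) - 1) + 4) :
    ∃ i, d = mu + 2 + 2 * i ∧ mu * f = mu * (2 + i) + i * (i + 2) := by
  have h2 : ((mu : ℤ) + 2) ^ 2 ≤ (d : ℤ) ^ 2 := by rw [h]; nlinarith
  have hle : mu + 2 ≤ d := by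
    by_contra hlt
    have h3 : (d : ℤ) < (mu : ℤ) + 2 := by exact_mod_cast not_le.mp hlt
    nlinarith
  have hde : Even d := by
    have h3 : Even ((d : ℤ) ^ 2) := by
      obtain ⟨r, rfl⟩ := hmu
      rw [h]
      exact ⟨2 * (r : ℤ) ^ 2 + 4 * (r : ℤ) * ((f : ℤ) - 1) + 2, by push_cast; ring⟩
    exact Int.even_coe_nat _ |>.mp (Int.even_pow.mp h3).1
  obtain ⟨i, hi⟩ : ∃ i, d = mu + 2 + 2 * i := by
    obtain ⟨r, rfl⟩ := hmu
    obtain ⟨s, rfl⟩ := hde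
    exact ⟨s - r - 1, by omega⟩
  subst hi
  refine ⟨i, rfl, ?_⟩
  push_cast at h
  have h3 : (mu : ℤ) * f = mu * (2 + i) + i * (i + 2) := by
    have h4 : 4 * ((mu : ℤ) * f) = 4 * (mu * (2 + i) + i * (i + 2)) := by linear_combination -h
    linarith
  exact_mod_cast h3

theorem two_cases {mu T : ℕ} (hmu : Even mu) (hmu0 : 0 < mu) (hT : Odd T)
    (h : (mu + 2) * T = (2 * mu + 1) * (3 * mu - 2)) : mu = 2 ∨ mu = 4 ∨ mu = 10 := by
  obtain ⟨n, rfl⟩ : ∃ n, mu = n + 1 := ⟨mu - 1, by omega⟩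
  have h24 : n + 1 + 2 ∣ 24 := by
    have e : 3 * (n + 1) - 2 = 3 * n + 1 := by omega
    rw [e] at h
    have h1 : (n + 1 + 2) * (T + 13) = (n + 1 + 2) * (6 * (n + 1)) + 24 := by
      rw [mul_add, h]; ring
    exact (Nat.dvd_add_right (dvd_mul_right _ _)).mp (h1 ▸ dvd_mul_right _ _)
  have hle : n + 1 + 2 ≤ 24 := Nat.le_of_dvd (by norm_num) h24
  obtain ⟨r, rfl⟩ := hT
  obtain ⟨s, hs⟩ := hmu
  have hn : n ≤ 21 := by omega
  interval_cases n <;> omega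

/-- The finite search. -/
theorem search_thirty : ∀ f ∈ List.range 30, ∀ i ∈ List.range 30, i + 2 < f → f % 2 = 0 →
    i * (i + 2) % (f - 2 - i) = 0 → i * (i + 2) / (f - 2 - i) % 2 = 0 → 0 < i * (i + 2) / (f - 2 - i) →
    (1 + i * (i + 2) / (f - 2 - i) * f) * (f - 6) ^ 2 ≤
      16 * ((i * (i + 2) / (f - 2 - i)) ^ 2 + 2 * (1 + i * (i + 2) / (f - 2 - i) * f - i * (i + 2) / (f - 2 - i))) →
    ((1 + i * (i + 2) / (f - 2 - i) * f) * (i * (i + 2) / (f - 2 - i) * (1 + f) - 2)) %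
      (i * (i + 2) / (f - 2 - i) + 2 + 2 * i) = 0 →
    ((1 + i * (i + 2) / (f - 2 - i) * f) * (i * (i + 2) / (f - 2 - i) * (1 + f) - 2)) /
      (i * (i + 2) / (f - 2 - i) + 2 + 2 * i) % 2 = 1 → f = 6 ∧ i = 2 := by
  decide +kernel

theorem eq_case {mu f i : ℕ} (hmu : 0 < mu) (hrel : mu * f = mu * (2 + i) + i * (i + 2)) (hf : 2 < f) :
    0 < i ∧ i + 2 < f ∧ i * (i + 2) % (f - 2 - i) = 0 ∧ i * (i + 2) / (f - 2 - i) = mu := by
  have hi : 0 < i := by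
    by_contra h0
    rw [show i = 0 by omega] at hrel
    nlinarith
  have hlt : i + 2 < f := by
    by_contra hge
    have h1 : mu * f ≤ mu * (2 + i) := Nat.mul_le_mul_left _ (by omega)
    have h2 : 0 < i * (i + 2) := by positivity
    omega
  have he : i * (i + 2) = (f - 2 - i) * mu := by
    obtain ⟨r, rfl⟩ : ∃ r, f = r + 2 + i := ⟨f - 2 - i, by omega⟩
    rw [show r + 2 + i - 2 - i = r by omega]
    nlinarith
  refine ⟨hi, hlt, ?_, ?_⟩
  · rw [he, Nat.mul_mod_right]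
  · rw [he, Nat.mul_div_cancel_left _ (by omega)]

theorem mu_le {mu f i : ℕ} (hrel : mu * f = mu * (2 + i) + i * (i + 2)) (hlt : i + 2 < f) :
    mu + 4 * f ≤ f * f + 3 := by
  have h1 : mu * (2 + i + 1) ≤ mu * f := Nat.mul_le_mul_left _ (by omega)
  have h2 : mu ≤ i * (i + 2) := by nlinarith
  obtain ⟨r, rfl⟩ : ∃ r, f = r + 3 + i := ⟨f - 3 - i, by omega⟩
  nlinarith

theorem search_one {mu f i T : ℕ} (hmu : Even mu) (hmu0 : 0 < mu) (hf : Even f) (hf4 : 4 ≤ f) (hT : Odd T)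
    (hrel : mu * f = mu * (2 + i) + i * (i + 2))
    (hdiv : (mu + 2 + 2 * i) * T = (1 + mu * f) * (mu * (1 + f) - 2))
    (hbd : 6 ≤ f → (1 + mu * f) * (f - 6) ^ 2 ≤ 16 * (mu ^ 2 + 2 * (1 + mu * f - mu))) :
    f = 6 ∧ i = 2 ∧ mu = 4 := by
  obtain ⟨hi, hlt, hmod, hdivmu⟩ := eq_case hmu0 hrel (by omega)
  obtain ⟨r, rfl⟩ := hf
  have hf6 : 6 ≤ r + r := by
    by_contra h5
    have h1 : i = 1 := by omega
    subst h1
    rw [show r + r = 4 by omega] at hrel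
    obtain ⟨s, rfl⟩ := hmu
    omega
  have hb := hbd hf6
  have h30 : r + r < 30 := by
    by_contra hge
    obtain ⟨g, hg⟩ : ∃ g, r + r = g + 30 := ⟨r + r - 30, by omega⟩
    rw [hg] at hb hrel hlt
    rw [show g + 30 - 6 = g + 24 by omega] at hb
    have hm := mu_le hrel hlt
    have h1 : mu * ((g + 30) * (g + 24) ^ 2) ≤ mu * (16 * mu + 32 * (g + 30) + 32) := by
      have h2 : 1 + mu * (g + 30) - mu ≤ 1 + mu * (g + 30) := Nat.sub_le _ _
      nlinarith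
    have h3 := Nat.le_of_mul_le_mul_left h1 hmu0
    nlinarith
  have hres := search_thirty (r + r) (List.mem_range.mpr h30) i (List.mem_range.mpr (by omega)) hlt (by omega) hmod
    (by rw [hdivmu]; exact Nat.even_iff.mp hmu) (by rw [hdivmu]; exact hmu0)
    (by rw [hdivmu]; exact hb)
    (by rw [hdivmu, ← hdiv, Nat.mul_mod_right])
    (by rw [hdivmu, ← hdiv, Nat.mul_div_cancel_left _ (by omega)]; exact Nat.odd_iff.mp hT)
  obtain ⟨h6, h2⟩ := hres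
  refine ⟨h6, h2, ?_⟩
  rw [h6, h2] at hrel
  omega

theorem search_two {mu f i : ℕ} (hmu : Even mu) (hmu0 : 0 < mu) (hf : Even f) (hf4 : 4 ≤ f)
    (hrel : mu * f = mu * (2 + i) + i * (i + 2))
    (hbd : (1 + mu * f) * (f - 2) ^ 2 ≤ 2 * (mu ^ 2 + 2 * (1 + mu * f - mu))) : False := by
  obtain ⟨hi, hlt, -, -⟩ := eq_case hmu0 hrel (by omega)
  have hf6 : f ≤ 6 := by
    by_contra h7
    obtain ⟨g, rfl⟩ : ∃ g, f = g + 7 := ⟨f - 7, by omega⟩
    rw [show g + 7 - 2 = g + 5 by omega] at hbd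
    have hm := mu_le hrel hlt
    have h1 : mu * ((g + 7) * (g + 5) ^ 2) ≤ mu * (2 * mu + 4 * (g + 7) + 4) := by
      have h2 : 1 + mu * (g + 7) - mu ≤ 1 + mu * (g + 7) := Nat.sub_le _ _
      nlinarith
    have h3 := Nat.le_of_mul_le_mul_left h1 hmu0
    nlinarith
  obtain ⟨r, rfl⟩ := hf
  obtain ⟨s, rfl⟩ := hmu
  have hi3 : i ≤ 3 := by omega
  have hr : r ≤ 3 := by omega
  interval_cases r <;> interval_cases i <;> first | omega | (obtain rfl : s = 2 := by omega) <;> norm_num at hbd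

end CfsgLib.RankThreeFrob
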