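import Cfsg.Agent.Lib.RankThreeFrob.EvenFrob
import Cfsg.Agent.Lib.RankThreeFrob.EvenGraph

/-!
Even complement, non-trivial kernel part at a fixed far pair: sixteen points.

Blueprint: `blueprint/S2207.md`.
-/

set_option autoImplicit false
set_option linter.unusedSectionVars false
set_option linter.style.haveILetI false

namespace CfsgLib.RankThreeFrob

open MulAction
open scoped Pointwise

universe u v

theorem pair_case_numeric {a f mK : ℕ} (h3 : 3 * mK = 1 + 2 * a * f) (hf : Even f) (hf0 : 0 < f)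
    (hfa : f ≤ 2 * a) (hmK : mK + 1 ≤ 3 * f) :
    (a = 2 ∧ f = 2 ∧ mK = 3) ∨ (a = 4 ∧ f = 4 ∧ mK = 11) := by
  have ha : a ≤ 4 := by
    by_contra hlt
    have : 5 * f ≤ a * f := Nat.mul_le_mul_right _ (by omega)
    have h4 : 2 * a * f = 2 * (a * f) := by ring
    omega
  obtain ⟨r, rfl⟩ := hf
  have hr : r ≤ 4 := by omega
  interval_cases a <;> interval_cases r <;> omega

variable {G : Type u} {X : Type v} [Group G] [MulAction G X] [Finite G] [Finite X] {A B : X}

namespace Hyp

variable (h : Hyp G A B) {z : G} (hz : h.IsInvol z)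

include hz in
/-- The structure of the fixed point set of the kernel part: `κ d + 1 = (1 + d)²` and `d = 1`. -/
theorem pair_local {C : X} (hC : h.Far A C) (hzC : z • C = C) (hE : h.KerPair A C ≠ ⊥) :
    Nat.card (h.Ker A) = 3 * Nat.card (h.KerPair A C) ∧
    Nat.card (h.Comp ⊓ stabilizer G C : Subgroup G) = 2 ∧
    Nat.card {P : X // ∀ e ∈ h.KerPair A C, e • P = P} = 4 ∧
    Nat.card {P : X // (∀ e ∈ h.KerPair A C, e • P = P) ∧ z • P = P} = 2 := by
  classical
  set E := h.KerPair A C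
  set K := h.Ker A
  let F := {P : X // (∀ e ∈ E, e • P = P)}
  let T := {D : X // (∀ e ∈ E, e • D = D) ∧ z • D = D ∧ D ≠ A}
  have hAF : ∀ e ∈ E, e • A = A := fun e he => (h.mem_ker.mp he.1).1
  have hCF : ∀ e ∈ E, e • C = C := fun e he => he.2
  have hKE : ∀ x ∈ K, ∀ e ∈ E, x * e = e * x := fun x hx e he => h.ker_comm hz hx he.1
  -- unique representation
  have hrep : ∀ (w : G), w ∈ K → ∀ D D' : T, w • D.1 = D'.1 → w ∈ E ∧ D = D' := by
    intro w hw D D' hwD
    have hzD' : z • D'.1 = D'.1 := D'.2.2.1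
    have h1 : (w⁻¹) • D.1 = D'.1 := by
      rw [← hzD', ← hwD]
      conv_rhs => rw [← mul_smul]
      rw [show z * w = (z * w * z) * z by simp [mul_assoc, IsInvol.mul_self h hz], h.z_inv hz hw, mul_smul,
        D.2.2.1]
    have h2 : w ^ 2 ∈ stabilizer G D.1 := by
      rw [mem_stabilizer_iff, pow_two, mul_smul, hwD, ← h1, smul_inv_smul]
    have h3 : w • D.1 = D.1 := mem_stabilizer_iff.mp (h.mem_of_sq_mem hz hw h2)
    refine ⟨?_, Subtype.ext (h3.symm.trans hwD)⟩
    show w ∈ h.KerPair A C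
    rw [h.efix_eq hC hE hAF D.2.1 D.2.2.2.symm]
    exact ⟨hw, mem_stabilizer_iff.mpr h3⟩
  have hnormC : ∀ x ∈ h.Comp, x • C = C → x ∈ Subgroup.normalizer (E : Set G) := fun x hx hxC =>
    Subgroup.mem_normalizer_fintype fun e he => by
      have := h.kerPair_conj (P := A) (Q := C) (x := e) he x
      rwa [hx.1, hxC] at this
  set NL := h.Comp ⊓ Subgroup.normalizer (E : Set G) with hNL
  have hsurj : ∀ P : F, P.1 ≠ A → ∃ x ∈ K, ∃ n ∈ NL, x • n • C = P.1 := by
    intro P hP
    obtain ⟨g, hg, hgA, hgC⟩ := h.efix_trans hC hE hAF hCF hC.1 hAF P.2 (fun e => hP e.symm)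
    obtain ⟨x, hx, hl⟩ := h.exists_decomp hgA
    refine ⟨x, hx, x⁻¹ * g, ⟨hl, (Subgroup.normalizer (E : Set G)).mul_mem ((Subgroup.normalizer (E : Set G)).inv_mem ?_) hg⟩, by rw [mul_smul, smul_inv_smul, hgC]⟩
    exact Subgroup.mem_normalizer_fintype fun e he => by
      rw [hKE x hx e he, mul_inv_cancel_right]; exact he
  have hNT : ∀ n ∈ NL, (∀ e ∈ E, e • n • C = n • C) ∧ z • n • C = n • C ∧ n • C ≠ A := by
    intro n hn
    refine ⟨fun e he => ?_, ?_, fun e => hC.1 ?_⟩
    · have h1 := hCF _ ((Subgroup.mem_normalizer_iff.mp (inv_mem hn.2) e).mp he)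
      rw [inv_inv, mul_smul, mul_smul, inv_smul_eq_iff] at h1
      exact h1
    · rw [← mul_smul, ← h.z_central hz hn.1, mul_smul, hzC]
    · exact MulAction.injective n (hn.1.1.trans e.symm)
  let C' : T := ⟨C, hCF, hzC, hC.1.symm⟩
  -- the complement part is transitive on `T`
  have hNLtrans : ∀ D : T, ∃ n ∈ NL, n • C = D.1 := by
    intro D
    obtain ⟨x, hx, n, hn, e⟩ := hsurj ⟨D.1, D.2.1⟩ D.2.2.2
    obtain ⟨-, h2⟩ := hrep x hx ⟨n • C, hNT n hn⟩ D e
    exact ⟨n, hn, congrArg Subtype.val h2⟩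
  have hcardT : Nat.card T * Nat.card (h.Comp ⊓ stabilizer G C : Subgroup G) = Nat.card NL := by
    letI : MulAction NL T :=
      { smul := fun n D => ⟨(n : G) • D.1, by
          obtain ⟨n', hn', e⟩ := hNLtrans D
          rw [← e, ← mul_smul]
          exact hNT _ (mul_mem n.2 hn')⟩
        one_smul := fun D => Subtype.ext (one_smul G D.1)
        mul_smul := fun n n' D => Subtype.ext (mul_smul (n : G) (n' : G) D.1) }
    have horb : orbit NL C' = Set.univ := Set.eq_univ_of_forall fun D => by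
      obtain ⟨n, hn, e⟩ := hNLtrans D
      exact ⟨⟨n, hn⟩, Subtype.ext e⟩
    have hst : (stabilizer NL C').map NL.subtype = h.Comp ⊓ stabilizer G C := by
      ext x
      constructor
      · rintro ⟨⟨y, hy⟩, hyC, rfl⟩
        exact ⟨hy.1, congrArg Subtype.val (mem_stabilizer_iff.mp hyC)⟩
      · rintro ⟨hx, hxC⟩
        exact ⟨⟨x, hx, hnormC x hx hxC⟩, Subtype.ext hxC, rfl⟩
    rw [← hst, Subgroup.card_map_of_injective NL.subtype_injective, ← Subgroup.card_mul_index (stabilizer NL C'),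
      index_stabilizer, horb, Set.ncard_univ, mul_comm]
  -- counting the fixed point set
  have hcount : (Nat.card F - 1) * Nat.card E = Nat.card K * Nat.card T := by
    let F' := {P : F // P ≠ ⟨A, hAF⟩}
    have hF' : Nat.card F' = Nat.card F - 1 := by
      haveI : Fintype F := Fintype.ofFinite F
      rw [Nat.card_eq_fintype_card, Nat.card_eq_fintype_card, Fintype.card_subtype_compl, Fintype.card_subtype_eq]
    let φ : K × T → F' := fun p => ⟨⟨(p.1 : G) • p.2.1, fun e he => by
      rw [← mul_smul, ← hKE _ p.1.2 e he, mul_smul, p.2.2.1 e he]⟩, fun e => p.2.2.2.2 (by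
        have h1 : (p.1 : G) • p.2.1 = A := congrArg Subtype.val e
        exact MulAction.injective (p.1 : G) (h1.trans (h.mem_ker.mp p.1.2).1.symm))⟩
    have hφ : Function.Surjective φ := fun P => by
      obtain ⟨x, hx, n, hn, e⟩ := hsurj P.1 (fun e => P.2 (Subtype.ext e))
      exact ⟨(⟨x, hx⟩, ⟨n • C, hNT n hn⟩), Subtype.ext (Subtype.ext e)⟩
    choose s hs using hφ
    rw [← hF', ← Nat.card_prod, ← Nat.card_prod]
    refine Nat.card_eq_of_bijective (fun q : F' × E => ((⟨((s q.1).1 : G) * q.2, mul_mem (s q.1).1.2 q.2.2.1⟩ : K), (s q.1).2))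
      ⟨?_, ?_⟩
    · rintro ⟨P, e⟩ ⟨P', e'⟩ hq
      have h1 : ((s P).1 : G) * e = (s P').1 * e' := (congrArg (fun p : K × T => (p.1 : G)) hq :)
      have h2 : (s P).2 = (s P').2 := (congrArg (fun p : K × T => p.2) hq :)
      have hP : P = P' := by
        rw [← hs P, ← hs P']
        refine Subtype.ext (Subtype.ext ?_)
        show ((s P).1 : G) • (s P).2.1 = ((s P').1 : G) • (s P').2.1
        conv_lhs => rw [← (s P).2.2.1 e e.2, ← mul_smul, h1, h2, mul_smul, (s P').2.2.1 e' e'.2]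
      subst hP
      exact Prod.ext rfl (Subtype.ext (mul_left_cancel h1))
    · rintro ⟨x, D⟩
      set P := φ (x, D) with hP
      have h1 : ((s P).1 : G) • (s P).2.1 = (x : G) • D.1 := congrArg (fun Q : F' => Q.1.1) (hs P)
      obtain ⟨hw, hD⟩ := hrep (((s P).1 : G)⁻¹ * x) (mul_mem (inv_mem (s P).1.2) x.2) D (s P).2
        (by rw [mul_smul, ← h1, inv_smul_smul])
      exact ⟨(P, ⟨_, hw⟩), Prod.ext (Subtype.ext (mul_inv_cancel_left _ _)) hD.symm⟩
  have hFz : Nat.card {P : X // (∀ e ∈ E, e • P = P) ∧ z • P = P} = Nat.card T + 1 := by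
    haveI : Fintype X := Fintype.ofFinite X
    rw [Nat.card_eq_fintype_card, Nat.card_eq_fintype_card, Fintype.card_subtype, Fintype.card_subtype,
      show (Finset.univ.filter fun P : X => (∀ e ∈ E, e • P = P) ∧ z • P = P) =
        insert A (Finset.univ.filter fun D : X => (∀ e ∈ E, e • D = D) ∧ z • D = D ∧ D ≠ A) by
        ext P
        simp only [Finset.mem_insert, Finset.mem_filter, Finset.mem_univ, true_and]
        constructor
        · intro hP
          by_cases hPA : P = A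
          · exact Or.inl hPA
          · exact Or.inr ⟨hP.1, hP.2, hPA⟩
        · rintro (rfl | hP)
          · exact ⟨hAF, hz.mem.1⟩
          · exact ⟨hP.1, hP.2.1⟩, Finset.card_insert_of_notMem (by simp)]
  have hsq := h.efix_card hz hC hE
  rw [hFz] at hsq
  set d := Nat.card T
  set mK := Nat.card E
  set mL := Nat.card (h.Comp ⊓ stabilizer G C : Subgroup G)
  have hd : 0 < d := by
    haveI : Nonempty T := ⟨C'⟩
    exact Nat.card_pos
  obtain ⟨κ, hκ⟩ : mK ∣ Nat.card K := Subgroup.card_dvd_of_le inf_le_left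
  have hmK : 0 < mK := Nat.card_pos
  have hκd : κ = d + 2 := by
    have h1 : mK * ((d + 1) ^ 2 - 1) = mK * (κ * d) := by
      rw [← hsq]
      calc mK * (Nat.card F - 1) = (Nat.card F - 1) * mK := mul_comm _ _
        _ = Nat.card K * d := hcount
        _ = _ := by rw [hκ]; ring
    have h2 := Nat.eq_of_mul_eq_mul_left hmK h1
    have h3 : (d + 1) ^ 2 = d * (d + 2) + 1 := by ring
    rw [h3, Nat.add_sub_cancel, mul_comm κ] at h2
    exact (Nat.eq_of_mul_eq_mul_left hd h2).symm
  have hdvd : d * mL ∣ κ - 1 := by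
    have h1 : Nat.card NL ∣ Nat.card K - 1 := (Subgroup.card_dvd_of_le inf_le_left).trans h.dvd_sub_one
    have h2 : Nat.card NL ∣ mK - 1 := h.dvd_card_sub_one inf_le_left inf_le_left
      fun n hn e he => (Subgroup.mem_normalizer_iff.mp hn.2 e).mp he
    have h3 : Nat.card NL ∣ mK * (κ - 1) := by
      have h4 : (Nat.card K - 1) - (mK - 1) = mK * (κ - 1) := by
        rw [Nat.mul_sub, mul_one, ← hκ]; omega
      rw [← h4]
      exact Nat.dvd_sub h1 h2
    rw [hcardT]
    exact ((h.coprime.coprime_dvd_left (Subgroup.card_dvd_of_le inf_le_left)).coprime_dvd_right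
      (Subgroup.card_dvd_of_le inf_le_left)).symm.dvd_of_dvd_mul_left h3
  rw [hκd, show d + 2 - 1 = d + 1 by omega] at hdvd
  have hd1 : d = 1 := Nat.dvd_one.mp ((Nat.dvd_add_right (dvd_refl d)).mp ((dvd_mul_right d mL).trans hdvd))
  rw [hd1, one_mul] at hdvd
  have hmL2 : mL = 2 := by
    refine Nat.dvd_antisymm hdvd ?_
    haveI : Fact (Nat.Prime 2) := ⟨Nat.prime_two⟩
    exact (orderOf_eq_prime hz.sq hz.ne_one) ▸ Subgroup.orderOf_dvd_natCard _
      (show z ∈ h.Comp ⊓ stabilizer G C from ⟨hz.mem, hzC⟩)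
  refine ⟨?_, hmL2, ?_, ?_⟩
  · show Nat.card K = 3 * mK
    rw [hκ, hκd, hd1, mul_comm]
  · rw [hsq, hd1]; norm_num
  · rw [hFz, hd1]

include hz in
theorem pair_case {C : X} (hC : h.Far A C) (hzC : z • C = C) (hE : h.KerPair A C ≠ ⊥) :
    Nat.card X = 16 ∧ Nat.card G = 576 := by
  classical
  obtain ⟨hk, hmL, hF4, hF2⟩ := h.pair_local hz hC hzC hE
  set k := Nat.card (h.Ker A)
  set hh := Nat.card h.Comp
  set l := Nat.card {D // h.Far A D}
  set E := h.KerPair A C
  set mK := Nat.card E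
  set f := h.fNum z
  have hm : Nat.card (stabilizer G A ⊓ stabilizer G C : Subgroup G) = mK * 2 := by
    rw [h.card_split fun x hxA hxC => h.decomp_at hz hzC hxA hxC, hmL]
  have hmKpos : 0 < mK := Nat.card_pos
  have hfh : f * 2 = hh := hmL ▸ h.fNum_mul hz hC hzC
  have hlm : l * (mK * 2) = k * hh := hm ▸ h.card_far hC
  have hl : l = 3 * f := by
    refine Nat.eq_of_mul_eq_mul_right (show 0 < mK * 2 by omega) ?_
    rw [hlm, hk, ← hfh]; ring
  obtain ⟨e, he1, -, hμ, hkl⟩ := h.graph_params hC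
  rw [hm] at hμ
  have he : e = 1 := by
    have h1 : mK * 2 * e ≤ 3 * mK := by rw [← hμ, ← hk]; exact h.common_le
    by_contra hne
    have : mK * 2 * 2 ≤ mK * 2 * e := Nat.mul_le_mul_left _ (by omega)
    omega
  rw [he, mul_one] at hμ
  have hmK3f : mK + 1 ≤ 3 * f := by
    change k + 1 ≤ l + _ at hkl
    omega
  -- an involution with fixed points swapping the pair
  have hj : mK ≤ h.jNum z C := by
    obtain ⟨P, hP⟩ : ∃ P : {P : X // ∀ e ∈ E, e • P = P}, z • P.1 ≠ P.1 := by
      by_contra hno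
      push Not at hno
      have : Nat.card {P : X // ∀ e ∈ E, e • P = P} ≤ Nat.card {P : X // (∀ e ∈ E, e • P = P) ∧ z • P = P} :=
        Nat.card_le_card_of_injective (fun P => ⟨P.1, P.2, hno P⟩)
          fun P Q e => Subtype.ext (congrArg Subtype.val e :)
      omega
    have hzP : ∀ e ∈ E, e • z • P.1 = z • P.1 := fun e he => by
      have h1 : z * e * z ∈ E := by rw [h.z_inv hz he.1]; exact inv_mem he
      have h2 := P.2 _ h1
      rw [mul_smul, mul_smul] at h2
      rw [← inv_smul_eq_iff.mpr h2.symm, IsInvol.inv_eq h hz]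
    have hAF : ∀ e ∈ E, e • A = A := fun e he => (h.mem_ker.mp he.1).1
    obtain ⟨g, hg, hgP, hgz⟩ := h.efix_trans hC hE P.2 hzP (fun e => hP e.symm) hAF (fun e he => he.2) hC.1
    set w := g * z * g⁻¹ with hw
    have hwA : w • A = C := by rw [hw, ← hgP, mul_smul, mul_smul, inv_smul_smul, hgz]
    have hwR : w • g • A = g • A := by rw [hw, mul_smul, mul_smul, inv_smul_smul, hz.mem.1]
    have hgF : ∀ e ∈ E, e • g • A = g • A := fun e he => by
      have h1 := hAF _ ((Subgroup.mem_normalizer_iff.mp (inv_mem hg) e).mp he)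
      rw [inv_inv, mul_smul, mul_smul, inv_smul_eq_iff] at h1
      exact h1
    have hsub : (fun e => e * w * e⁻¹) '' (E : Set G) ⊆ conjSwap z A C := by
      rintro _ ⟨e, he, rfl⟩
      refine ⟨(isConj_iff.mpr ⟨g, rfl⟩ : IsConj z w).trans (isConj_iff.mpr ⟨e, rfl⟩), ?_⟩
      rw [mul_smul, mul_smul, inv_smul_eq_iff.mpr (hAF e he).symm, hwA]
      exact he.2
    refine le_trans (le_of_eq ?_) (Set.ncard_le_ncard hsub (Set.toFinite _))
    rw [Set.ncard_image_of_injOn, ← Nat.card_coe_set_eq]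
    · rfl
    intro x hx y hy exy
    simp only at exy
    have hc : w * (y⁻¹ * x) = (y⁻¹ * x) * w := by
      calc w * (y⁻¹ * x) = y⁻¹ * (y * w * y⁻¹) * x := by group
        _ = (y⁻¹ * x) * w := by rw [← exy]; group
    have h1 := h.fpf_at (h.ker_mem_ker (mul_mem (inv_mem hy.1) hx.1) (hgF _ (mul_mem (inv_mem hy) hx))) hwR
      (fun hK => (h.conj_sq hz (isConj_iff.mpr ⟨g, rfl⟩ : IsConj z w)).2 (orderOf_eq_one_iff.mp
        (Nat.eq_one_of_dvd_coprimes (Nat.coprime_two_left.mpr (h.odd_ker hz))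
          (orderOf_dvd_of_pow_eq_one (h.conj_sq hz (isConj_iff.mpr ⟨g, rfl⟩ : IsConj z w)).1)
          (h.card_ker (g • A) ▸ Subgroup.orderOf_dvd_natCard _ hK)))) hc
    exact (inv_mul_eq_one.mp h1).symm
  obtain ⟨hcnt, -⟩ := h.count_eqs hz hC
  rw [h.card_points] at hcnt
  change (2 + f) * (k * h.uNum z + l * h.jNum z C) + k * (2 + f) = k * (1 + k + l) at hcnt
  have hineq : (2 + f) * f + (2 + f) ≤ 1 + k + 3 * f := by
    have h1 : (2 + f) * (k * f) ≤ (2 + f) * (k * h.uNum z + l * h.jNum z C) := by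
      refine Nat.mul_le_mul_left _ (le_trans ?_ (Nat.le_add_left _ _))
      rw [hk, hl]
      calc 3 * mK * f = 3 * f * mK := by ring
        _ ≤ 3 * f * h.jNum z C := Nat.mul_le_mul_left _ hj
    refine Nat.le_of_mul_le_mul_left ?_ (show 0 < k by omega)
    calc k * ((2 + f) * f + (2 + f)) = (2 + f) * (k * f) + k * (2 + f) := by ring
      _ ≤ k * (1 + k + l) := by omega
      _ = _ := by rw [hl]
  obtain ⟨a, ha⟩ := h.dvd_sub_one
  change k - 1 = hh * a at ha
  have hk1 : k = 1 + 2 * a * f := by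
    have h1 : k - 1 = 2 * a * f := by rw [ha, ← hfh]; ring
    have : 1 < k := h.one_lt_ker
    omega
  have hfa : f ≤ 2 * a := by
    have h1 : f * f ≤ 2 * a * f := by
      have h2 : (2 + f) * f + (2 + f) = f * f + 3 * f + 2 := by ring
      omega
    by_contra hlt
    exact absurd h1 (not_le.mpr (Nat.mul_lt_mul_of_pos_right (by omega) (by omega)))
  have hf0 : 0 < f := by
    have := h.one_lt_comp
    change 1 < hh at this
    omega
  rcases pair_case_numeric (hk ▸ hk1) (h.even_fNum hz) hf0 hfa hmK3f with ⟨-, hf2, hm3⟩ | ⟨-, hf4, hm11⟩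
  · have hX : Nat.card X = 16 := by
      rw [h.card_points]
      show 1 + k + l = 16
      omega
    refine ⟨hX, ?_⟩
    rw [h.card_group, hX]
    show 16 * (k * hh) = 576
    rw [hk, hm3, ← hfh, show f = 2 from hf2]
  · exfalso
    haveI : Fact (Nat.Prime 3) := ⟨Nat.prime_three⟩
    set P : Subgroup G := ((default : Sylow 3 (h.Ker A)) : Subgroup (h.Ker A)).map (h.Ker A).subtype with hP
    have hPcard : Nat.card P = 3 := by
      rw [hP, Subgroup.card_map_of_injective (h.Ker A).subtype_injective, Sylow.card_eq_multiplicity]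
      show 3 ^ k.factorization 3 = 3
      rw [show k = 3 * 11 by omega, Nat.factorization_mul (by norm_num) (by norm_num), Finsupp.add_apply,
        Nat.prime_three.factorization, (show Nat.Prime 11 by norm_num).factorization,
        Finsupp.single_eq_same, Finsupp.single_eq_of_ne (by norm_num), add_zero, pow_one]
    have hd := h.dvd_card_sub_one (E := P) (S := h.Comp) (Subgroup.map_subtype_le _) le_rfl (by
      rintro s hs _ ⟨e, he, rfl⟩
      haveI := h.nilpotent A
      refine ⟨⟨s * (e : G) * s⁻¹, h.ker_conj hs.1 e.2⟩, ?_, rfl⟩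
      obtain ⟨n, hn⟩ := IsPGroup.iff_orderOf.mp (default : Sylow 3 (h.Ker A)).isPGroup' ⟨e, he⟩
      have hz2 : IsPGroup 3 (Subgroup.zpowers (⟨s * (e : G) * s⁻¹, h.ker_conj hs.1 e.2⟩ : h.Ker A)) := by
        refine IsPGroup.of_card (n := n) ?_
        rw [Nat.card_zpowers, ← hn, Subgroup.orderOf_mk, Subgroup.orderOf_mk, ← Subgroup.orderOf_coe e]
        exact orderOf_injective (MulAut.conj s).toMonoidHom (MulAut.conj s).injective (e : G)
      obtain ⟨Q, hQ⟩ := hz2.exists_le_sylow
      obtain ⟨c, hc⟩ := MulAction.exists_smul_eq (h.Ker A) (default : Sylow 3 (h.Ker A)) Q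
      rw [Sylow.smul_eq_of_normal] at hc
      exact hc ▸ hQ (Subgroup.mem_zpowers _))
    rw [hPcard] at hd
    change hh ∣ 3 - 1 at hd
    have := Nat.le_of_dvd (by omega) hd
    omega

end Hyp

end CfsgLib.RankThreeFrob
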