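import Cfsg.Agent.Lib.RankThreeFrob.EvenNumeric
import Cfsg.Agent.Lib.RankThreeFrob.EvenMoment
import Cfsg.Agent.Lib.RankThreeFrob.EvenCoset

/-!
Even complement, semiregular kernel: sixteen points.

Blueprint: `blueprint/S2207.md`.
-/

set_option autoImplicit false
set_option linter.unusedSectionVars false
set_option linter.style.haveILetI false

namespace CfsgLib.RankThreeFrob

open MulAction
open scoped Pointwise

universe u v

variable {G : Type u} {X : Type v} [Group G] [MulAction G X] [Finite G] [Finite X] {A B : X}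

namespace Hyp

variable (h : Hyp G A B) {z : G} (hz : h.IsInvol z)

include h in
theorem comp_dvd_prime_sub_one {p : ℕ} [Fact p.Prime] (hp : (Nat.card (h.Ker A)).factorization p = 1) :
    Nat.card h.Comp ∣ p - 1 := by
  haveI := h.nilpotent A
  set S : Sylow p (h.Ker A) := default
  set P : Subgroup G := (S : Subgroup (h.Ker A)).map (h.Ker A).subtype with hP
  have hPcard : Nat.card P = p := by
    rw [hP, Subgroup.card_map_of_injective (h.Ker A).subtype_injective, Sylow.card_eq_multiplicity, hp, pow_one]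
  have hd := h.dvd_card_sub_one (E := P) (S := h.Comp) (Subgroup.map_subtype_le _) le_rfl (by
    rintro s hs _ ⟨e, he, rfl⟩
    refine ⟨⟨s * (e : G) * s⁻¹, h.ker_conj hs.1 e.2⟩, ?_, rfl⟩
    obtain ⟨n, hn⟩ := IsPGroup.iff_orderOf.mp S.isPGroup' ⟨e, he⟩
    have hz2 : IsPGroup p (Subgroup.zpowers (⟨s * (e : G) * s⁻¹, h.ker_conj hs.1 e.2⟩ : h.Ker A)) := by
      refine IsPGroup.of_card (n := n) ?_
      rw [Nat.card_zpowers, ← hn, Subgroup.orderOf_mk, Subgroup.orderOf_mk, ← Subgroup.orderOf_coe e]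
      exact orderOf_injective (MulAut.conj s).toMonoidHom (MulAut.conj s).injective (e : G)
    obtain ⟨Q, hQ⟩ := hz2.exists_le_sylow
    obtain ⟨c, hc⟩ := MulAction.exists_smul_eq (h.Ker A) S Q
    rw [Sylow.smul_eq_of_normal] at hc
    exact hc ▸ hQ (Subgroup.mem_zpowers _))
  rwa [hPcard] at hd

include hz in
theorem semi_case {C : X} (hC : h.Far A C) (hzC : z • C = C) (hE : h.KerPair A C = ⊥) :
    Nat.card X = 16 ∧ Nat.card G = 320 := by
  classical
  haveI : Fintype X := Fintype.ofFinite X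
  obtain ⟨hle, hfm, hl, h2m⟩ := h.semi_params hz hC hzC hE
  obtain ⟨hcount, -⟩ := h.count_eqs hz hC
  obtain ⟨e, he1, hlam, hmu, -⟩ := h.graph_params hC
  obtain ⟨a, ha⟩ := h.dvd_sub_one
  have hdich := h.swap_dichotomy hz hC hzC hle
  have hjle := h.jNum_le hz (C := C)
  have hule := h.uNum_le hz
  have hfev := h.even_fNum hz
  set k := Nat.card (h.Ker A) with hk
  set hh := Nat.card h.Comp with hhh
  set l := Nat.card {D // h.Far A D} with hldef
  set m := Nat.card (stabilizer G A ⊓ stabilizer G C : Subgroup G) with hm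
  set f := h.fNum z with hfdef
  set u := h.uNum z with hu
  set j := h.jNum z C with hj
  have hmev : Even m := even_iff_two_dvd.mpr h2m
  have hmpos : 0 < m := Nat.card_pos
  have hhpos : 1 < hh := h.one_lt_comp
  have hkpos : 1 < k := h.one_lt_ker
  have hf0 : 0 < f := by
    rcases Nat.eq_zero_or_pos f with e0 | e0
    · rw [e0, zero_mul] at hfm; omega
    · exact e0
  have hf2 : 2 ≤ f := by
    obtain ⟨r, hr⟩ := hfev
    omega
  have hk1 : k = 1 + a * (m * f) := by
    have : k - 1 = a * (m * f) := by rw [ha, ← hfm]; ring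
    omega
  have hX : Nat.card X = 1 + k + k * f := by rw [h.card_points, ← hk, ← hldef, hl]
  have heq : (2 + f) * (u + f * j) = a * (m * f) * (1 + f) := by
    rw [hl, hX] at hcount
    have h1 : k * ((2 + f) * (u + f * j) + (2 + f)) = k * (1 + k + k * f) := by
      rw [← hcount]; ring
    have h2 := Nat.eq_of_mul_eq_mul_left (by omega) h1
    have h3 : k * f = f + a * (m * f) * f := by rw [hk1]; ring
    have h4 : a * (m * f) * (1 + f) = a * (m * f) + a * (m * f) * f := by ring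
    omega
  have hule' : u ≤ f * m := by omega
  have ha2 : a ≤ 2 := by
    refine suborbit_ratio_le hf2 (Nat.le_of_mul_le_mul_left ?_ (Nat.mul_pos hf0 hmpos))
    calc f * m * (a * (1 + f)) = (2 + f) * (u + f * j) := by rw [heq]; ring
      _ ≤ (2 + f) * (f * m + f * m) := by
          refine Nat.mul_le_mul_left _ (Nat.add_le_add hule' (Nat.mul_le_mul_left _ hjle))
      _ = _ := by ring
  have hea : e ≤ a := by
    have h1 : e * (m * f) ≤ a * (m * f) := by
      have h2 : e * hh = e * (m * f) := by rw [← hfm]; ring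
      omega
    exact Nat.le_of_mul_le_mul_right h1 (Nat.mul_pos hmpos hf0)
  have ha1 : 1 ≤ a := le_trans he1 hea
  have hvev : Even (Nat.card X) := by
    rw [hX]
    refine (Even.add ?_ ((hfev.mul_left k)))
    exact (odd_one.add_odd (h.odd_ker hz))
  obtain ⟨δ, t, htodd, hδ2, hδt⟩ := h.eigen_square hC hvev
  have hd2 : ((δ.natAbs : ℤ)) ^ 2 = δ ^ 2 := Int.natAbs_sq δ
  rcases Nat.lt_or_ge e a with hlt | hge
  · exfalso
    have hea2 : a = 2 ∧ e = 1 := by omega
    obtain ⟨rfl, rfl⟩ := hea2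
    rw [one_mul, ← hfm] at hlam
    rw [mul_one] at hmu
    have hlam2 : h.common A B = f * m := by
      have : 2 * (m * f) = f * m + f * m := by ring
      omega
    obtain ⟨g, hg⟩ : ∃ g, f = g + 1 := ⟨f - 1, by omega⟩
    refine no_square_two (d := δ.natAbs) (g := g) hmev hmpos (by omega) ?_
    have h1 : ((δ.natAbs ^ 2 : ℕ) : ℤ) = (((m * g) ^ 2 + 4 * m * (2 * g + 1) + 4 : ℕ) : ℤ) := by
      push_cast
      rw [sq_abs, hδ2, hlam2, hmu, ← hk, hk1, hg]
      push_cast
      ring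
    exact_mod_cast h1
  have hae : e = a := le_antisymm hea hge
  subst hae
  have hlam0 : h.common A B = 0 := by
    have : e * hh = e * (m * f) := by rw [← hfm]; ring
    omega
  set mu := h.common A C with hmudef
  have hkmu : k = 1 + mu * f := by rw [hk1, hmu]; ring
  have hmuev : Even mu := by rw [hmu]; exact hmev.mul_right e
  have hmu0 : 0 < mu := by rw [hmu]; positivity
  have hmule : mu ≤ k := h.common_le
  obtain ⟨i, hdi, hrel⟩ := delta_form (d := δ.natAbs) hmuev hmu0 hf2 (by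
    rw [hd2, hδ2, hlam0, ← hk, hkmu]; push_cast; ring)
  have hdiv : (mu + 2 + 2 * i) * t.natAbs = (1 + mu * f) * (mu * (1 + f) - 2) := by
    rw [← hdi, ← hkmu, ← Int.natAbs_mul]
    have hN : δ * t = -((k : ℤ) * ((mu : ℤ) * (1 + f) - 2)) := by
      rw [hδt, hlam0, hX, ← hk]; push_cast; ring
    have h2 : 2 ≤ mu * (1 + f) := by
      calc 2 ≤ 1 * (1 + f) := by omega
        _ ≤ _ := Nat.mul_le_mul_right _ hmu0
    rw [hN, Int.natAbs_neg, show ((k : ℤ) * ((mu : ℤ) * (1 + f) - 2)) = ((k * (mu * (1 + f) - 2) : ℕ) : ℤ) by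
      rw [Nat.cast_mul, Nat.cast_sub h2]; push_cast; ring, Int.natAbs_natCast]
  have hTodd : Odd t.natAbs := Int.natAbs_odd.mpr htodd
  have hmom := h.moment_bound hz hC hzC hE hlam0
  rw [← hk, ← hhh, ← hfdef, ← hu, ← hmudef, ← hfm] at hmom
  rcases Nat.lt_or_ge f 4 with hf4 | hf4
  · have hf : f = 2 := by
      obtain ⟨r, hr⟩ := hfev
      omega
    rw [hf] at hrel hdiv hkmu hX hfm
    have hi0 : i = 0 := by
      by_contra hne
      have h1 : mu * 3 ≤ mu * (2 + i) := Nat.mul_le_mul_left _ (by omega)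
      omega
    subst hi0
    rw [mul_zero, add_zero, show mu * (1 + 2) - 2 = 3 * mu - 2 by omega, show 1 + mu * 2 = 2 * mu + 1 by ring] at hdiv
    have hcases := two_cases hmuev hmu0 hTodd hdiv
    rcases hmev with ⟨mr, hmr⟩
    rcases hcases with e0 | e0 | e0
    · have hm2 : m = 2 ∧ e = 1 := by
        rcases (show e = 1 ∨ e = 2 by omega) with rfl | rfl <;> omega
      refine ⟨by rw [hX, hkmu, e0], ?_⟩
      rw [h.card_group, hX]
      show (1 + k + k * 2) * (k * hh) = 320
      rw [hkmu, e0, ← hfm, hm2.1]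
    · exfalso
      refine h.not_twentyeight hz hC hlam0 (by rw [← hk, hkmu, e0]) (by rw [← hldef, hl, hkmu, e0, hf]) ?_
      exact e0
    · exfalso
      have hm10 : m = 10 ∧ e = 1 := by
        rcases (show e = 1 ∨ e = 2 by omega) with rfl | rfl <;> omega
      haveI : Fact (Nat.Prime 3) := ⟨Nat.prime_three⟩
      have hd := h.comp_dvd_prime_sub_one (p := 3) (by
        rw [← hk, show k = 3 * 7 by omega, Nat.factorization_mul (by norm_num) (by norm_num), Finsupp.add_apply,
          Nat.prime_three.factorization, (show Nat.Prime 7 by norm_num).factorization, Finsupp.single_eq_same,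
          Finsupp.single_eq_of_ne (by norm_num), add_zero])
      rw [← hhh, ← hfm] at hd
      have := Nat.le_of_dvd (by norm_num) hd
      omega
  exfalso
  set W : ℤ := (mu : ℤ) ^ 2 + 2 * ((k : ℤ) - mu) with hW
  have hWnat : ((mu ^ 2 + 2 * (k - mu) : ℕ) : ℤ) = W := by
    rw [hW]; push_cast [Nat.cast_sub hmule]; ring
  have heqZ : ((2 : ℤ) + f) * ((u : ℤ) + f * j) = e * (m * f) * (1 + f) := by exact_mod_cast heq
  have hkZ : (k : ℤ) - 1 = e * (m * f) := by
    have : (k : ℤ) = 1 + e * (m * f) := by exact_mod_cast hk1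
    linarith
  have hD : ((2 + f : ℕ) : ℤ) * u - ((k : ℤ) - 1) = (f : ℤ) * ((e : ℤ) * (m * f) - (2 + f) * j) := by
    rw [hkZ]; push_cast; linear_combination heqZ
  rw [hD, hkZ] at hmom
  push_cast at hmom
  have hmZ : (0 : ℤ) < m := by exact_mod_cast hmpos
  have hfZ : (0 : ℤ) < f := by exact_mod_cast hf0
  have hf4Z : (4 : ℤ) ≤ f := by exact_mod_cast hf4
  have hjZ : (j : ℤ) ≤ m := by exact_mod_cast hjle
  rcases (show e = 1 ∨ e = 2 by omega) with rfl | rfl
  · rw [mul_one] at hmu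
    push_cast at hmom heqZ
    have hjne : j ≠ m := by
      intro ej
      rw [ej] at heq
      have h1 : (2 + f) * (f * m) ≤ (2 + f) * (u + f * m) := Nat.mul_le_mul_left _ (Nat.le_add_left _ _)
      have h2 : (2 + f) * (f * m) = 1 * (m * f) * (1 + f) + f * m := by ring
      have h3 : 0 < f * m := Nat.mul_pos hf0 hmpos
      omega
    have hj34 : 4 * j ≤ 3 * m := by
      by_contra hlt
      exact hjne (hdich (Or.inl (by omega)))
    have hbd : 6 ≤ f → (1 + mu * f) * (f - 6) ^ 2 ≤ 16 * (mu ^ 2 + 2 * (1 + mu * f - mu)) := by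
      intro hf6
      rw [← hkmu]
      have hj34Z : 4 * (j : ℤ) ≤ 3 * m := by exact_mod_cast hj34
      have hlow : (m : ℤ) * ((f : ℤ) - 6) ≤ 4 * ((m : ℤ) * f - (2 + f) * j) := by nlinarith
      have hsq : ((m : ℤ) * ((f : ℤ) - 6)) ^ 2 ≤ (4 * ((m : ℤ) * f - (2 + f) * j)) ^ 2 := by
        have : (0 : ℤ) ≤ (f : ℤ) - 6 := by
          have : (6 : ℤ) ≤ f := by exact_mod_cast hf6
          linarith
        exact pow_le_pow_left₀ (by positivity) hlow 2
      have hfin : (k : ℤ) * ((f : ℤ) - 6) ^ 2 ≤ 16 * W := by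
        refine le_of_mul_le_mul_left ?_ (show (0 : ℤ) < (m : ℤ) ^ 2 * f ^ 2 by positivity)
        have hk0 : (0 : ℤ) ≤ k := Int.natCast_nonneg _
        calc (m : ℤ) ^ 2 * f ^ 2 * ((k : ℤ) * ((f : ℤ) - 6) ^ 2)
            = (k : ℤ) * f ^ 2 * ((m : ℤ) * ((f : ℤ) - 6)) ^ 2 := by ring
          _ ≤ (k : ℤ) * f ^ 2 * (4 * ((m : ℤ) * f - (2 + f) * j)) ^ 2 :=
              mul_le_mul_of_nonneg_left hsq (by positivity)
          _ = 16 * ((k : ℤ) * ((f : ℤ) * (1 * ((m : ℤ) * f) - (2 + f) * j)) ^ 2) := by ring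
          _ ≤ 16 * (1 * ((m : ℤ) * f) * ((f : ℤ) * m) * W) := by linarith
          _ = _ := by ring
      rw [← hWnat] at hfin
      rw [← Nat.cast_ofNat (n := 6), ← Nat.cast_sub hf6] at hfin
      exact_mod_cast hfin
    obtain ⟨hf6, hi2, hmu4⟩ := search_one hmuev hmu0 hfev hf4 hTodd hrel hdiv hbd
    have hm4 : m = 4 := by omega
    have hk25 : k = 25 := by rw [hkmu, hmu4, hf6]
    rw [hW, hmu4, hk25, hm4, hf6] at hmom
    rw [hm4, hf6] at heq
    have hjge : 3 ≤ j := by
      by_contra hlt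
      interval_cases j <;> norm_num at hmom
    have hj3 : j = 3 := by omega
    refine hjne (hdich (Or.inr ⟨?_, by omega⟩))
    haveI : Fact (Nat.Prime 2) := ⟨Nat.prime_two⟩
    have hc : IsMulCommutative (stabilizer G A ⊓ stabilizer G C : Subgroup G) :=
      IsPGroup.isMulCommutative_of_card_eq_prime_sq (p := 2) (by rw [← hm, hm4]; norm_num)
    exact fun x hx y hy => congrArg Subtype.val (hc.is_comm.comm ⟨x, hx⟩ ⟨y, hy⟩)
  · refine search_two hmuev hmu0 hfev hf4 hrel ?_
    rw [← hkmu]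
    push_cast at hmom
    have hlow : (m : ℤ) * ((f : ℤ) - 2) ≤ 2 * ((m : ℤ) * f) - (2 + f) * j := by nlinarith
    have hsq : ((m : ℤ) * ((f : ℤ) - 2)) ^ 2 ≤ (2 * ((m : ℤ) * f) - (2 + f) * j) ^ 2 := by
      have : (0 : ℤ) ≤ (f : ℤ) - 2 := by linarith
      exact pow_le_pow_left₀ (by positivity) hlow 2
    have hfin : (k : ℤ) * ((f : ℤ) - 2) ^ 2 ≤ 2 * W := by
      refine le_of_mul_le_mul_left ?_ (show (0 : ℤ) < (m : ℤ) ^ 2 * f ^ 2 by positivity)
      calc (m : ℤ) ^ 2 * f ^ 2 * ((k : ℤ) * ((f : ℤ) - 2) ^ 2)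
          = (k : ℤ) * f ^ 2 * ((m : ℤ) * ((f : ℤ) - 2)) ^ 2 := by ring
        _ ≤ (k : ℤ) * f ^ 2 * (2 * ((m : ℤ) * f) - (2 + f) * j) ^ 2 :=
            mul_le_mul_of_nonneg_left hsq (by positivity)
        _ = (k : ℤ) * ((f : ℤ) * (2 * ((m : ℤ) * f) - (2 + f) * j)) ^ 2 := by ring
        _ ≤ _ := hmom
        _ = _ := by ring
    rw [← hWnat] at hfin
    rw [← Nat.cast_ofNat (n := 2), ← Nat.cast_sub (by omega : 2 ≤ f)] at hfin
    exact_mod_cast hfin

end Hyp

end CfsgLib.RankThreeFrob
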