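import Mathlib

/-!
Counting involutions with one fixed point through the pairs they swap.

Blueprint: `blueprint/S2207.md`.
-/

set_option autoImplicit false
set_option linter.unusedSectionVars false

namespace CfsgLib.RankThreeFrob

open MulAction

universe u v

variable {Γ : Type u} {Y : Type v} [Group Γ] [MulAction Γ Y] [Finite Γ] [Finite Y]

/-- The involutions of `Γ`. -/
def invSet (Γ : Type u) [Group Γ] : Set Γ := {w | w ^ 2 = 1 ∧ w ≠ 1}

theorem conj_mem_invSet {w : Γ} (g : Γ) (hw : w ∈ invSet Γ) : g * w * g⁻¹ ∈ invSet Γ :=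
  ⟨by rw [conj_pow, hw.1, mul_one, mul_inv_cancel], fun e => hw.2 (by rwa [conj_eq_one_iff] at e)⟩

/-- The involutions carrying `a` to `b`. -/
def swapSet (Γ : Type u) [Group Γ] {Y : Type v} [MulAction Γ Y] (a b : Y) : Set Γ :=
  {w | w ∈ invSet Γ ∧ w • a = b}

theorem ncard_swapSet_smul (g : Γ) (a b : Y) :
    (swapSet Γ (g • a) (g • b)).ncard = (swapSet Γ a b).ncard := by
  have e : swapSet Γ (g • a) (g • b) = (fun w => g * w * g⁻¹) '' swapSet Γ a b := by
    ext w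
    constructor
    · rintro ⟨hw, hab⟩
      refine ⟨g⁻¹ * w * g, ⟨?_, ?_⟩, by group⟩
      · simpa using conj_mem_invSet g⁻¹ hw
      · rw [mul_smul, mul_smul, hab, inv_smul_smul]
    · rintro ⟨w, ⟨hw, hab⟩, rfl⟩
      exact ⟨conj_mem_invSet g hw, by rw [mul_smul, mul_smul, inv_smul_smul, hab]⟩
  rw [e, Set.ncard_image_of_injective _ fun x y e => mul_left_cancel (mul_right_cancel e)]

theorem sum_swap_ncard [Fintype Y] [DecidableEq Y] (htr : ∀ P Q : Y, ∃ g : Γ, g • P = Q)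
    (hfix : ∀ w ∈ invSet Γ, ∃! P : Y, w • P = P) (a : Y) :
    ∑ b ∈ Finset.univ.erase a, (swapSet Γ a b).ncard = (Fintype.card Y - 1) * (swapSet Γ a a).ncard := by
  classical
  haveI : Fintype Γ := Fintype.ofFinite Γ
  set I := Finset.univ.filter fun w : Γ => w ∈ invSet Γ with hI
  have hs : ∀ P Q : Y, (swapSet Γ P Q).ncard = (I.filter fun w => w • P = Q).card := fun P Q => by
    rw [← Set.ncard_coe_finset]
    congr 1
    ext w
    simp [swapSet, hI]
  have h1 : I.card = ∑ b : Y, (swapSet Γ a b).ncard := by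
    rw [Finset.card_eq_sum_card_fiberwise (f := fun w => w • a) (t := Finset.univ) (fun w _ => Finset.mem_univ _)]
    exact Finset.sum_congr rfl fun b _ => (hs a b).symm
  choose F hF hFu using hfix
  have h2 : I.card = ∑ P : Y, (swapSet Γ P P).ncard := by
    let c : Γ → Y := fun w => if hw : w ∈ invSet Γ then F w hw else a
    rw [Finset.card_eq_sum_card_fiberwise (f := c) (t := Finset.univ) (fun w _ => Finset.mem_univ _)]
    refine Finset.sum_congr rfl fun P _ => ?_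
    rw [hs]
    congr 1
    refine Finset.filter_congr fun w hw => ?_
    have hw' : w ∈ invSet Γ := (Finset.mem_filter.mp hw).2
    simp only [c, dif_pos hw']
    exact ⟨fun e => e ▸ hF w hw', fun e => (hFu w hw' P e).symm⟩
  have h3 : ∑ P : Y, (swapSet Γ P P).ncard = Fintype.card Y * (swapSet Γ a a).ncard := by
    rw [Finset.sum_congr rfl fun P _ => ?_, Finset.sum_const, smul_eq_mul, Finset.card_univ]
    obtain ⟨g, rfl⟩ := htr a P
    exact ncard_swapSet_smul g a a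
  rw [h3, h1, ← Finset.add_sum_erase _ _ (Finset.mem_univ a)] at h2
  rw [Nat.sub_mul, one_mul]
  omega

/-- Swappers of a pair form one orbit of an odd two-point stabiliser. -/
theorem exists_conj_swap {a b : Y} (hodd : Odd (Nat.card (stabilizer Γ a ⊓ stabilizer Γ b : Subgroup Γ)))
    {w w' : Γ} (hw : w ^ 2 = 1) (hwa : w • a = b) (hw' : w' ^ 2 = 1) (hwa' : w' • a = b) :
    ∃ r ∈ stabilizer Γ a ⊓ stabilizer Γ b, r * w * r⁻¹ = w' := by
  have hww : w * w = 1 := by rw [← pow_two, hw]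
  have hww' : w' * w' = 1 := by rw [← pow_two, hw']
  have hwb : w • b = a := by rw [← hwa, ← mul_smul, hww, one_smul]
  have hwb' : w' • b = a := by rw [← hwa', ← mul_smul, hww', one_smul]
  have hr : w * w' ∈ stabilizer Γ a ⊓ stabilizer Γ b :=
    ⟨(by rw [mul_smul, hwa', hwb] : (w * w') • a = a), (by rw [mul_smul, hwb', hwa] : (w * w') • b = b)⟩
  obtain ⟨j, hj⟩ := hodd
  have hpow : (w * w') ^ (2 * j + 1) = 1 :=
    hj ▸ congrArg Subtype.val (pow_card_eq_one' (G := (stabilizer Γ a ⊓ stabilizer Γ b : Subgroup Γ))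
      (x := ⟨_, hr⟩))
  set z := (w * w') ^ (j + 1) with hz
  have hzz : z * z = w * w' := by
    rw [hz, ← pow_add, show j + 1 + (j + 1) = 2 * j + 1 + 1 by omega, pow_succ, hpow, one_mul]
  have hwi : w⁻¹ = w := inv_eq_of_mul_eq_one_right hww
  have hwi' : w'⁻¹ = w' := inv_eq_of_mul_eq_one_right hww'
  have h1 : w * z * w⁻¹ = z⁻¹ := by
    rw [hz, ← conj_pow, ← inv_pow]
    congr 1
    rw [mul_inv_rev, hwi, hwi', ← mul_assoc w w w', hww, one_mul]
  refine ⟨z⁻¹, inv_mem (pow_mem hr _), ?_⟩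
  rw [inv_inv, ← h1]
  calc w * z * w⁻¹ * w * z = w * (z * z) := by group
    _ = w' := by rw [hzz, ← mul_assoc, hww, one_mul]

theorem ncard_swap_dvd {a b : Y} (hodd : Odd (Nat.card (stabilizer Γ a ⊓ stabilizer Γ b : Subgroup Γ)))
    (hne : (swapSet Γ a b).Nonempty) :
    (swapSet Γ a b).ncard ∣ Nat.card (stabilizer Γ a ⊓ stabilizer Γ b : Subgroup Γ) := by
  obtain ⟨w, hw, hwa⟩ := hne
  set M := stabilizer Γ a ⊓ stabilizer Γ b
  letI : MulAction M Γ := MulAction.compHom Γ ((MulAut.conj : Γ →* MulAut Γ).comp M.subtype)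
  have e : orbit M w = swapSet Γ a b := by
    ext z
    constructor
    · rintro ⟨⟨r, hr⟩, rfl⟩
      refine ⟨conj_mem_invSet r hw, ?_⟩
      show (r * w * r⁻¹) • a = b
      rw [mul_smul, mul_smul, inv_smul_eq_iff.mpr (mem_stabilizer_iff.mp hr.1).symm, hwa]
      exact mem_stabilizer_iff.mp hr.2
    · rintro ⟨hz, hza⟩
      obtain ⟨r, hr, e⟩ := exists_conj_swap hodd hw.1 hwa hz.1 hza
      exact ⟨⟨r, hr⟩, e⟩
  rw [← e, ← index_stabilizer]
  exact Subgroup.index_dvd_card _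

/-- In a two-transitive group with involutions fixing one point: involutions at a point match swappers. -/
theorem two_trans_count {a b : Y} (hab : a ≠ b)
    (htwo : ∀ P Q P' Q' : Y, P ≠ Q → P' ≠ Q' → ∃ g : Γ, g • P = P' ∧ g • Q = Q')
    (hfix : ∀ w ∈ invSet Γ, ∃! P : Y, w • P = P)
    (hodd : Odd (Nat.card (stabilizer Γ a ⊓ stabilizer Γ b : Subgroup Γ)))
    (hne : (swapSet Γ a a).Nonempty) :
    (swapSet Γ a a).ncard ∣ Nat.card (stabilizer Γ a ⊓ stabilizer Γ b : Subgroup Γ) ∧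
      ∀ w ∈ swapSet Γ a a, ∀ w' ∈ swapSet Γ a a, ∃ g : Γ, g • a = a ∧ g * w * g⁻¹ = w' := by
  classical
  haveI : Fintype Y := Fintype.ofFinite Y
  have htr : ∀ P Q : Y, ∃ g : Γ, g • P = Q := fun P Q => by
    obtain ⟨P', hP'⟩ : ∃ P', P ≠ P' := by
      by_cases h : P = a
      · exact ⟨b, h ▸ hab⟩
      · exact ⟨a, h⟩
    obtain ⟨Q', hQ'⟩ : ∃ Q', Q ≠ Q' := by
      by_cases h : Q = a
      · exact ⟨b, h ▸ hab⟩
      · exact ⟨a, h⟩
    exact (htwo P P' Q Q' hP' hQ').imp fun g hg => hg.1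
  have h1 := sum_swap_ncard htr hfix a
  have hall : ∀ c ∈ Finset.univ.erase a, (swapSet Γ a c).ncard = (swapSet Γ a b).ncard := fun c hc => by
    obtain ⟨g, hga, hgb⟩ := htwo a b a c hab (Finset.ne_of_mem_erase hc).symm
    have := ncard_swapSet_smul g a b
    rwa [hga, hgb] at this
  rw [Finset.sum_congr rfl hall, Finset.sum_const, Finset.card_erase_of_mem (Finset.mem_univ a),
    Finset.card_univ, smul_eq_mul] at h1
  have hY : 0 < Fintype.card Y - 1 := by
    have : 1 < Fintype.card Y := Fintype.one_lt_card_iff.mpr ⟨a, b, hab⟩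
    omega
  have heq : (swapSet Γ a b).ncard = (swapSet Γ a a).ncard := Nat.eq_of_mul_eq_mul_left hY h1
  have hsne : (swapSet Γ a b).Nonempty := by
    rw [← Set.ncard_pos (Set.toFinite _), heq, Set.ncard_pos (Set.toFinite _)]; exact hne
  refine ⟨heq ▸ ncard_swap_dvd hodd hsne, fun w hw w' hw' => ?_⟩
  have key : ∀ w ∈ swapSet Γ a a, ∃ g : Γ, g * w * g⁻¹ ∈ swapSet Γ a b := by
    intro w hw
    have hwb : w • b ≠ b := fun e => hab ((hfix w hw.1).unique hw.2 e)
    obtain ⟨g, hg1, hg2⟩ := htwo b (w • b) a b hwb.symm hab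
    refine ⟨g, conj_mem_invSet g hw.1, ?_⟩
    rw [mul_smul, mul_smul, ← hg1, inv_smul_smul, hg2]
  obtain ⟨g, hg⟩ := key w hw
  obtain ⟨g', hg'⟩ := key w' hw'
  obtain ⟨r, -, hr⟩ := exists_conj_swap hodd hg.1.1 hg.2 hg'.1.1 hg'.2
  have e : g'⁻¹ * r * g * w * (g'⁻¹ * r * g)⁻¹ = w' := by
    calc g'⁻¹ * r * g * w * (g'⁻¹ * r * g)⁻¹ = g'⁻¹ * (r * (g * w * g⁻¹) * r⁻¹) * g' := by group
      _ = w' := by rw [hr]; group
  refine ⟨g'⁻¹ * r * g, ((hfix w' hw'.1).unique hw'.2 ?_).symm, e⟩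
  rw [← e, mul_smul (g'⁻¹ * r * g * w), inv_smul_smul, mul_smul, hw.2]

end CfsgLib.RankThreeFrob
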