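import Cfsg.Agent.Lib.RankThreeFrob.EvenFrob
import Cfsg.Agent.Lib.RankThreeFrob.Swap

/-!
Even complement, no far point fixed by the central involution: ten points, order sixty.

Blueprint: `blueprint/S2207.md`.
-/

set_option autoImplicit false
set_option linter.unusedSectionVars false
set_option linter.style.haveILetI false

namespace CfsgLib.RankThreeFrob

open MulAction
open scoped Pointwise

universe u v

theorem zero_case_numeric {k h a κ c j mL u : ℕ} (hk : k - 1 = a * h) (hh : 0 < h) (hκ : κ = 1 + 2 * c * mL)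
    (hc : 1 ≤ c) (ha : 1 ≤ a) (hmL : 0 < mL) (hj : j ∣ mL ∨ j = 0)
    (hu : u ≤ h) (heq : mL * (k - 1) + κ * h = 2 * mL * u + 2 * h * j) :
    a = 1 ∧ c = 1 ∧ j = mL := by
  have hjle : j ≤ mL := by
    rcases hj with e | e
    · exact Nat.le_of_dvd hmL e
    · omega
  have h1 : h * (mL * a + κ) ≤ h * (2 * mL + 2 * j) := by
    have h0 : h * (mL * a + κ) = mL * (k - 1) + κ * h := by rw [hk]; ring
    rw [h0, heq]
    calc 2 * mL * u + 2 * h * j ≤ 2 * mL * h + 2 * h * j := by
          exact Nat.add_le_add_right (Nat.mul_le_mul_left _ hu) _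
      _ = _ := by ring
  have h2 := Nat.le_of_mul_le_mul_left h1 hh
  have hac : a = 1 ∧ c = 1 := by
    have h3 : mL * (a + 2 * c) + 1 ≤ mL * 4 := by rw [hκ] at h2; nlinarith
    have h4 : a + 2 * c < 4 := Nat.lt_of_mul_lt_mul_left (a := mL) (by omega)
    omega
  obtain ⟨rfl, rfl⟩ := hac
  refine ⟨rfl, rfl, ?_⟩
  rw [hκ] at h2
  rcases hj with ⟨d, hd⟩ | rfl
  · rcases d with _ | _ | d
    · omega
    · omega
    · have : j * 2 ≤ j * (d + 1 + 1) := Nat.mul_le_mul_left _ (by omega)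
      omega
  · omega

variable {G : Type u} {X : Type v} [Group G] [MulAction G X] [Finite G] [Finite X] {A B : X}

namespace Hyp

variable (h : Hyp G A B) {z : G} (hz : h.IsInvol z)

include hz in
theorem no_fix_far (hf : h.fNum z = 0) {D : X} (hD : h.Far A D) : z • D ≠ D := fun e => by
  haveI : Nonempty {D // h.Far A D ∧ z • D = D} := ⟨⟨D, hD, e⟩⟩
  exact (Nat.card_pos (α := {D // h.Far A D ∧ z • D = D})).ne' hf

include hz in
theorem odd_far_pair (hf : h.fNum z = 0) {C : X} (hC : h.Far A C) :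
    Odd (Nat.card (stabilizer G A ⊓ stabilizer G C : Subgroup G)) := by
  rw [← Nat.not_even_iff_odd]
  intro hev
  haveI : Fact (Nat.Prime 2) := ⟨Nat.prime_two⟩
  obtain ⟨⟨w, hw⟩, hwo⟩ := exists_prime_orderOf_dvd_card' 2 hev.two_dvd
  rw [Subgroup.orderOf_mk] at hwo
  obtain ⟨e, he, rfl⟩ := h.invol_at hz hw.1 (hwo ▸ pow_orderOf_eq_one w) (fun e => by rw [e, orderOf_one] at hwo; omega)
  refine h.no_fix_far hz hf (D := e⁻¹ • C) ?_ ?_
  · have := (h.far_smul e⁻¹).mpr hC
    rwa [inv_smul_eq_iff.mpr (h.mem_ker.mp he).1.symm] at this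
  · have h1 : (e * z * e⁻¹) • C = C := hw.2
    rw [mul_smul, mul_smul] at h1
    exact (eq_inv_smul_iff).mpr h1

include h in
/-- A far point at which the stabiliser splits. -/
theorem exists_split_far : ∃ C, h.Far A C ∧
    ∀ x : G, x • A = A → x • C = C → ∃ e ∈ h.Ker A, e • C = C ∧ e⁻¹ * x ∈ h.Comp ∧ (e⁻¹ * x) • C = C := by
  classical
  obtain ⟨C₀, hC₀⟩ := h.exists_far A
  obtain ⟨N, hNn, -, hNc, hK⟩ := h.ker_data
  haveI := hNn
  let Ha := stabilizer G A
  set M := (stabilizer G C₀).subgroupOf Ha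
  haveI : (N.subgroupOf M).Normal := hNn.comap M.subtype
  have hHcard : Nat.card (h.Comp.subgroupOf Ha) = Nat.card h.Comp :=
    Nat.card_congr (Subgroup.subgroupOfEquivOfLe (inf_le_left : h.Comp ≤ Ha)).toEquiv
  have hidx : (N.subgroupOf M).index ∣ Nat.card h.Comp := by
    rw [← hHcard, ← hNc.symm.index_eq_card]
    exact Subgroup.relIndex_dvd_index_of_normal N M
  have hcard : Nat.card (N.subgroupOf M) ∣ Nat.card (h.Ker A) := by
    rw [hK, Subgroup.card_map_of_injective Subtype.val_injective,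
      ← Subgroup.card_map_of_injective M.subtype_injective]
    exact Subgroup.card_dvd_of_le ((Subgroup.subgroupOf_map_subtype _ _).le.trans inf_le_left)
  obtain ⟨S, hS⟩ := Subgroup.exists_right_complement'_of_coprime
    ((h.coprime.coprime_dvd_left hcard).coprime_dvd_right hidx)
  have hScard : Nat.card (S.map M.subtype) ∣ Nat.card (h.Comp.subgroupOf Ha) := by
    rw [Subgroup.card_map_of_injective M.subtype_injective, ← hS.symm.index_eq_card, hHcard]
    exact hidx
  obtain ⟨g, hg⟩ := CfsgLib.Frob.le_conj_of_card_dvd h.frobenius _ hScard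
  have hgA : (g : G) • A = A := mem_stabilizer_iff.mp g.2
  refine ⟨(g : G)⁻¹ • C₀, ?_, fun x hxA hxC => ?_⟩
  · have := (h.far_smul (g : G)⁻¹).mpr hC₀
    rwa [inv_smul_eq_iff.mpr hgA.symm] at this
  have hy : (g : G) * x * (g : G)⁻¹ ∈ Ha := by
    rw [mem_stabilizer_iff, mul_smul, mul_smul, inv_smul_eq_iff.mpr hgA.symm, hxA, hgA]
  have hyM : (⟨_, hy⟩ : Ha) ∈ M := by
    show ((g : G) * x * (g : G)⁻¹) • C₀ = C₀
    rw [mul_smul, mul_smul, hxC, smul_inv_smul]
  obtain ⟨⟨⟨n, hn⟩, ⟨s, hs⟩⟩, hns⟩ := hS.2 ⟨_, hyM⟩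
  have e1 : ((n : M) : G) * ((s : M) : G) = g * x * (g : G)⁻¹ :=
    congrArg (fun y : M => ((y : Ha) : G)) hns
  have hnK : ((n : M) : G) ∈ h.Ker A := by rw [hK]; exact ⟨_, hn, rfl⟩
  have hnC : ((n : M) : G) • C₀ = C₀ := n.2
  refine ⟨(g : G)⁻¹ * (n : M) * g, ?_, ?_, ?_, ?_⟩
  · simpa using h.ker_conj (g := (g : G)⁻¹) (inv_smul_eq_iff.mpr hgA.symm) hnK
  · rw [mul_smul, mul_smul, smul_inv_smul, hnC]
  all_goals rw [show ((g : G)⁻¹ * (n : M) * g)⁻¹ * x = (g : G)⁻¹ * ((n : M) : G)⁻¹ * ((g : G) * x * (g : G)⁻¹) * g by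
      group, ← e1, mul_assoc (g : G)⁻¹, inv_mul_cancel_left]
  · have h1 := hg (Subgroup.mem_map_of_mem M.subtype hs)
    rw [Subgroup.mem_pointwise_smul_iff_inv_smul_mem, Subgroup.mem_subgroupOf] at h1
    simpa [MulAut.smul_def] using h1
  · rw [mul_smul, mul_smul, smul_inv_smul, show ((s : M) : G) • C₀ = C₀ from s.2]

include hz in
/-- The ten point case. -/
theorem zero_case (hf : h.fNum z = 0) : Nat.card X = 10 ∧ Nat.card G = 60 ∧ Nat.card (h.Ker A) = 3 := by
  classical
  obtain ⟨C, hC, hsp⟩ := h.exists_split_far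
  set k := Nat.card (h.Ker A)
  set hh := Nat.card h.Comp
  set l := Nat.card {D // h.Far A D}
  set E := h.Ker A ⊓ stabilizer G C
  set LC := h.Comp ⊓ stabilizer G C
  set M := stabilizer G A ⊓ stabilizer G C
  set mK := Nat.card E
  set mL := Nat.card LC
  have hm : Nat.card M = mK * mL := h.card_split hsp
  have hlm : l * (mK * mL) = k * hh := hm ▸ h.card_far hC
  have hmodd := h.odd_far_pair hz hf hC
  rw [hm] at hmodd
  obtain ⟨hmKodd, hmLodd⟩ := Nat.odd_mul.mp hmodd
  obtain ⟨κ, hκ⟩ : mK ∣ k := Subgroup.card_dvd_of_le inf_le_left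
  have hmKpos : 0 < mK := Nat.card_pos
  have hmLpos : 0 < mL := Nat.card_pos
  have hkpos : 1 < k := h.one_lt_ker
  have hhpos : 1 < hh := h.one_lt_comp
  have hkodd : Odd k := h.odd_ker hz
  obtain ⟨a, ha⟩ := h.dvd_sub_one
  have ha' : k - 1 = a * hh := ha.trans (mul_comm _ _)
  have ha1 : 1 ≤ a := by
    rcases Nat.eq_zero_or_pos a with rfl | e
    · rw [zero_mul] at ha'; omega
    · exact e
  have hκ1 : 1 < κ := by
    by_contra hle
    have : κ = 1 := by
      rcases κ with _ | _ | n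
      · rw [mul_zero] at hκ; omega
      · rfl
      · omega
    rw [this, mul_one] at hκ
    have : E = h.Ker A := Subgroup.eq_of_le_of_card_ge inf_le_left hκ.le
    exact h.ker_not_fix hz hC (this ▸ inf_le_right)
  have hmLd : mL ∣ κ - 1 := by
    have h1 : mL ∣ k - 1 := (Subgroup.card_dvd_of_le inf_le_left).trans h.dvd_sub_one
    have h2 : mL ∣ mK - 1 := h.dvd_ker_inter_sub_one C
    have h3 : mL ∣ mK * (κ - 1) := by
      have h4 : (k - 1) - (mK - 1) = mK * (κ - 1) := by
        rw [Nat.mul_sub, mul_one, ← hκ]; omega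
      rw [← h4]
      exact Nat.dvd_sub h1 h2
    have hco : Nat.Coprime mL mK :=
      ((h.coprime.coprime_dvd_left (Subgroup.card_dvd_of_le inf_le_left)).coprime_dvd_right
        (Subgroup.card_dvd_of_le inf_le_left)).symm
    exact hco.dvd_of_dvd_mul_left h3
  obtain ⟨c, hc, hc1⟩ : ∃ c, κ = 1 + 2 * c * mL ∧ 1 ≤ c := by
    have hκodd : Odd κ := (Nat.odd_mul.mp (hκ ▸ hkodd)).2
    obtain ⟨d, hd⟩ := hmLd
    obtain ⟨r, hr⟩ := hκodd
    have hdev : Even d := by
      rcases Nat.even_or_odd d with e | e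
      · exact e
      · exfalso
        have := hmLodd.mul e
        rw [← hd] at this
        obtain ⟨s, hs⟩ := this
        omega
    obtain ⟨c, hcd⟩ := hdev
    refine ⟨c, ?_, ?_⟩
    · rw [show 2 * c * mL = mL * d by rw [hcd]; ring, ← hd]; omega
    · by_contra hc0
      rw [show d = 0 by omega, mul_zero] at hd
      omega
  obtain ⟨hcount, -⟩ := h.count_eqs hz hC
  rw [hf, add_zero, h.card_points] at hcount
  have heq : mK * mL * (k - 1) + k * hh = 2 * (mK * mL) * h.uNum z + 2 * hh * h.jNum z C := by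
    have h1 : k * (k + l) = k * (2 * h.uNum z + 1) + 2 * l * h.jNum z C := by
      have h0 : 2 * (k * h.uNum z + l * h.jNum z C) + k * 2 = k * (1 + k + l) := hcount
      have h2 : k * (1 + k + l) = k + k * (k + l) := by ring
      have h3 : k * (2 * h.uNum z + 1) = 2 * (k * h.uNum z) + k := by ring
      have h4 : 2 * l * h.jNum z C = 2 * (l * h.jNum z C) := by ring
      omega
    refine Nat.eq_of_mul_eq_mul_left (show 0 < k by omega) ?_
    obtain ⟨k1, hk1⟩ : ∃ k1, k = k1 + 1 := ⟨k - 1, by omega⟩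
    rw [hk1] at hlm h1 ⊢
    simp only [Nat.add_sub_cancel]
    have h5 : mK * mL * ((k1 + 1) * (k1 + 1 + l)) =
        mK * mL * ((k1 + 1) * (2 * h.uNum z + 1) + 2 * l * h.jNum z C) := by rw [h1]
    nlinarith
  have hjdvd : h.jNum z C = 0 ∨ h.jNum z C ∣ mK * mL := by
    by_cases hne : (conjSwap z A C).Nonempty
    · right
      obtain ⟨w0, hw0⟩ := hne
      have hM : Odd (Nat.card (stabilizer G A ⊓ stabilizer G C : Subgroup G)) := h.odd_far_pair hz hf hC
      have he : conjSwap z A C = swapSet G A C := by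
        ext w
        refine ⟨fun hw => ⟨h.conj_sq hz hw.1, hw.2⟩, fun hw => ⟨?_, hw.2⟩⟩
        obtain ⟨r, -, hr⟩ := exists_conj_swap hM (h.conj_sq hz hw0.1).1 hw0.2 hw.1.1 hw.2
        exact hw0.1.trans (isConj_iff.mpr ⟨r, hr⟩)
      rw [jNum, he, ← hm]
      exact ncard_swap_dvd hM ⟨w0, he ▸ hw0⟩
    · rw [Set.not_nonempty_iff_eq_empty] at hne
      left
      simp [jNum, hne]
  have hmKj : mK ∣ h.jNum z C := by
    have h1 : mK ∣ 2 * hh * h.jNum z C := by
      have h2 : mK ∣ mK * mL * (k - 1) + k * hh :=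
        dvd_add (Dvd.dvd.mul_right (dvd_mul_right _ _) _) (Dvd.dvd.mul_right ⟨κ, hκ⟩ _)
      rw [heq] at h2
      exact (Nat.dvd_add_right (Dvd.dvd.mul_right (Dvd.dvd.mul_left (dvd_mul_right _ _) 2) _)).mp h2
    refine (Nat.Coprime.dvd_of_dvd_mul_left (Nat.Coprime.mul_right ?_ ?_) h1)
    · exact Nat.coprime_two_right.mpr hmKodd
    · exact h.coprime.coprime_dvd_left (Subgroup.card_dvd_of_le inf_le_left)
  obtain ⟨j', hj'⟩ := hmKj
  have heq' : mL * (k - 1) + κ * hh = 2 * mL * h.uNum z + 2 * hh * j' := by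
    refine Nat.eq_of_mul_eq_mul_left hmKpos ?_
    calc mK * (mL * (k - 1) + κ * hh) = mK * mL * (k - 1) + k * hh := by rw [hκ]; ring
      _ = _ := heq
      _ = _ := by rw [hj']; ring
  obtain ⟨rfl, rfl, hjm⟩ := zero_case_numeric ha' (by omega) hc hc1 ha1 hmLpos
    (hjdvd.symm.imp (fun e => (Nat.mul_dvd_mul_iff_left hmKpos).mp (hj' ▸ e))
      (fun e => (Nat.mul_eq_zero.mp (hj'.symm.trans e)).resolve_left hmKpos.ne')) (h.uNum_le hz) heq'
  rw [one_mul] at ha'
  -- the stabiliser of the pair is inverted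
  obtain ⟨w0, hw0⟩ : (conjSwap z A C).Nonempty := by
    rw [← Set.ncard_pos (Set.toFinite _)]
    show 0 < h.jNum z C
    rw [hj', hjm]; positivity
  have hww : w0 * w0 = 1 := by rw [← pow_two]; exact (h.conj_sq hz hw0.1).1
  have hcoset : ∀ r ∈ M, w0 * r ∈ conjSwap z A C := by
    intro r hr
    have hsub : conjSwap z A C ⊆ (fun x => w0 * x) '' (M : Set G) := fun w hw => by
      refine ⟨w0⁻¹ * w, ⟨?_, ?_⟩, mul_inv_cancel_left _ _⟩
      · show (w0⁻¹ * w) • A = A
        rw [mul_smul, hw.2, inv_smul_eq_iff, hw0.2]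
      · show (w0⁻¹ * w) • C = C
        rw [mul_smul, h.conj_swap_back hz hw, inv_smul_eq_iff, h.conj_swap_back hz hw0]
    have heqset := Set.eq_of_subset_of_ncard_le hsub (by
      rw [Set.ncard_image_of_injective _ (mul_right_injective w0), ← Nat.card_coe_set_eq (M : Set G)]
      show Nat.card M ≤ h.jNum z C
      rw [hm, hj', hjm]) (Set.toFinite _)
    rw [heqset]
    exact ⟨r, hr, rfl⟩
  have hinv : ∀ r ∈ M, w0 * r * w0 = r⁻¹ := fun r hr => by
    have h1 := (h.conj_sq hz (hcoset r hr).1).1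
    rw [pow_two] at h1
    exact eq_inv_of_mul_eq_one_left (by rw [← h1]; simp [mul_assoc])
  have hMcomm : ∀ r ∈ M, ∀ s ∈ M, r * s = s * r := fun r hr s hs => by
    have h1 := hinv _ (mul_mem (inv_mem hr) (inv_mem hs))
    rw [show w0 * (r⁻¹ * s⁻¹) * w0 = w0 * r⁻¹ * (w0 * w0) * s⁻¹ * w0 by rw [hww]; simp [mul_assoc],
      show w0 * r⁻¹ * (w0 * w0) * s⁻¹ * w0 = (w0 * r⁻¹ * w0) * (w0 * s⁻¹ * w0) by simp [mul_assoc],
      hinv _ (inv_mem hr), hinv _ (inv_mem hs), mul_inv_rev, inv_inv, inv_inv] at h1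
    exact h1
  have hone : mK = 1 ∨ mL = 1 := by
    by_contra hno
    rw [not_or] at hno
    haveI : Nontrivial E := Finite.one_lt_card_iff_nontrivial.mp (show 1 < mK by omega)
    haveI : Nontrivial LC := Finite.one_lt_card_iff_nontrivial.mp (show 1 < mL by omega)
    obtain ⟨⟨e, he⟩, he1⟩ := exists_ne (1 : E)
    obtain ⟨⟨s, hs⟩, hs1⟩ := exists_ne (1 : LC)
    exact he1 (Subtype.ext (h.fpf he.1 hs.1 (fun e' => hs1 (Subtype.ext e'))
      (hMcomm s ⟨hs.1.1, hs.2⟩ e ⟨h.ker_le he.1, he.2⟩)))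
  have hmK1 : mK = 1 := by
    by_contra hne
    have hEne : h.KerPair A C ≠ ⊥ := fun e => hne (by
      show Nat.card (h.KerPair A C) = 1
      rw [e, Subgroup.card_bot])
    have h1 := h.efix_card hz hC hEne
    have hfz : Nat.card {P : X // (∀ e ∈ h.KerPair A C, e • P = P) ∧ z • P = P} = 1 := by
      refine Nat.card_eq_one_iff_unique.mpr ⟨⟨fun P Q => ?_⟩, ⟨⟨A, fun e he => (h.mem_ker.mp he.1).1, hz.mem.1⟩⟩⟩
      have hA : ∀ P : {P : X // (∀ e ∈ h.KerPair A C, e • P = P) ∧ z • P = P}, P.1 = A := by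
        rintro ⟨P, hP, hzP⟩
        by_contra hPA
        by_cases hadj : h.Adj A P
        · obtain ⟨⟨e, he⟩, he1⟩ := Subgroup.ne_bot_iff_exists_ne_one.mp hEne
          exact (h.mem_ker.mp he.1).2 (fun e' => he1 (Subtype.ext e')) P hadj (hP e he)
        · exact h.no_fix_far hz hf ⟨fun e => hPA e.symm, hadj⟩ hzP
      exact Subtype.ext ((hA P).trans (hA Q).symm)
    rw [hfz, one_pow] at h1
    have h2 := (Nat.card_eq_one_iff_unique.mp h1).1.elim
      (⟨A, fun e he => (h.mem_ker.mp he.1).1⟩ : {P : X // ∀ e ∈ h.KerPair A C, e • P = P}) ⟨C, fun e he => he.2⟩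
    exact hC.1 (congrArg Subtype.val h2)
  have hkκ : k = 1 + 2 * mL := by rw [hκ, hmK1, one_mul, hc, mul_one]
  have hhh : hh = 2 * mL := by omega
  have hu : h.uNum z = mL + 1 := by
    rw [hc, hjm, hkκ] at heq'
    simp only [Nat.add_sub_cancel_left, hhh] at heq'
    refine Nat.eq_of_mul_eq_mul_left (show 0 < 2 * mL by omega) ?_
    nlinarith
  have hmL1 : mL = 1 := by
    by_contra hne
    have hzLC : z ∉ LC := fun e => h.no_fix_far hz hf hC e.2
    have hsub : ∀ x ∈ h.Comp, x ∈ LC ∨ z * x ∈ LC := by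
      have hd : Disjoint (LC : Set G) ((fun x => z * x) '' (LC : Set G)) := by
        rw [Set.disjoint_left]
        rintro _ hx ⟨y, hy, rfl⟩
        exact hzLC (by simpa using mul_mem (show z * y ∈ LC from hx) (inv_mem hy))
      have he : (LC : Set G) ∪ (fun x => z * x) '' (LC : Set G) = (h.Comp : Set G) := by
        refine Set.eq_of_subset_of_ncard_le ?_ (le_of_eq ?_) (Set.toFinite _)
        · rintro x (hx | ⟨y, hy, rfl⟩)
          · exact hx.1
          · exact mul_mem hz.mem hy.1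
        · rw [Set.ncard_union_eq hd, Set.ncard_image_of_injective _ (mul_right_injective z),
            ← Nat.card_coe_set_eq (LC : Set G), ← Nat.card_coe_set_eq (h.Comp : Set G)]
          show hh = mL + mL
          omega
      intro x hx
      rcases (he.symm ▸ hx : x ∈ (LC : Set G) ∪ (fun x => z * x) '' (LC : Set G)) with e | ⟨y, hy, rfl⟩
      · exact Or.inl e
      · right
        rw [← mul_assoc, IsInvol.mul_self h hz, one_mul]
        exact hy
    have hzz := IsInvol.mul_self h hz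
    have hLcomm : ∀ x ∈ h.Comp, ∀ y ∈ h.Comp, x * y = y * x := by
      have key : ∀ x ∈ h.Comp, ∀ y ∈ LC, x * y = y * x := by
        intro x hx y hy
        rcases hsub x hx with e | e
        · exact hMcomm x ⟨e.1.1, e.2⟩ y ⟨hy.1.1, hy.2⟩
        · have h2 := hMcomm _ ⟨e.1.1, e.2⟩ y ⟨hy.1.1, hy.2⟩
          have h3 := h.z_central hz hy.1
          calc x * y = z * ((z * x) * y) := by rw [← mul_assoc, ← mul_assoc, hzz, one_mul]
            _ = z * (y * (z * x)) := by rw [h2]
            _ = (z * y) * (z * x) := by rw [mul_assoc]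
            _ = (y * z) * (z * x) := by rw [h3]
            _ = y * x := by rw [mul_assoc, ← mul_assoc z, hzz, one_mul]
      intro x hx y hy
      rcases hsub y hy with e | e
      · exact key x hx y e
      · calc x * y = x * z * (z * y) := by rw [mul_assoc, ← mul_assoc z z, hzz, one_mul]
          _ = z * (x * (z * y)) := by rw [h.z_central hz hx, mul_assoc]
          _ = z * (z * y * x) := by rw [key x hx _ e]
          _ = y * x := by rw [← mul_assoc, ← mul_assoc, hzz, one_mul]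
    obtain ⟨g0, hg0⟩ : (conjSwap z A B).Nonempty := by
      rw [← Set.ncard_pos (Set.toFinite _)]
      show 0 < h.uNum z
      omega
    have hgg : g0 * g0 = 1 := by rw [← pow_two]; exact (h.conj_sq hz hg0.1).1
    have hgB := h.conj_swap_back hz hg0
    have hgnorm : ∀ y ∈ h.Comp, g0 * y * g0 ∈ h.Comp := fun y hy =>
      ⟨(by rw [mul_smul, mul_smul, hg0.2, hy.2, hgB] : (g0 * y * g0) • A = A),
        (by rw [mul_smul, mul_smul, hgB, hy.1, hg0.2] : (g0 * y * g0) • B = B)⟩
    set Y := {y : G | y ∈ h.Comp ∧ g0 * y ∈ conjSwap z A B} with hY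
    have hYcard : Y.ncard = mL + 1 := by
      rw [← hu, uNum, ← Set.ncard_image_of_injective Y (mul_right_injective g0)]
      congr 1
      ext w
      refine ⟨fun ⟨y, hy, e⟩ => e ▸ hy.2, fun hw => ⟨g0 * w, ⟨?_, ?_⟩, ?_⟩⟩
      · refine ⟨?_, ?_⟩
        · show (g0 * w) • A = A
          rw [mul_smul, hw.2, hgB]
        · show (g0 * w) • B = B
          rw [mul_smul, h.conj_swap_back hz hw, hg0.2]
      · rwa [← mul_assoc, hgg, one_mul]
      · show g0 * (g0 * w) = w
        rw [← mul_assoc, hgg, one_mul]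
    let I : Subgroup G :=
      { carrier := {y | y ∈ h.Comp ∧ g0 * y * g0 = y⁻¹}
        one_mem' := ⟨one_mem _, by rw [mul_one, hgg, inv_one]⟩
        mul_mem' := fun {a b} ha hb => ⟨mul_mem ha.1 hb.1, by
          calc g0 * (a * b) * g0 = g0 * a * (g0 * g0) * b * g0 := by rw [hgg]; simp [mul_assoc]
            _ = (g0 * a * g0) * (g0 * b * g0) := by simp [mul_assoc]
            _ = (a * b)⁻¹ := by rw [ha.2, hb.2, ← mul_inv_rev, hLcomm b hb.1 a ha.1]⟩
        inv_mem' := fun {a} ha => ⟨inv_mem ha.1, by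
          rw [inv_inv]
          calc g0 * a⁻¹ * g0 = (g0 * a * g0)⁻¹ := by
                rw [mul_inv_rev, mul_inv_rev, inv_eq_of_mul_eq_one_right hgg, mul_assoc]
            _ = a := by rw [ha.2, inv_inv]⟩ }
    have hYI : Y ⊆ (I : Set G) := fun y hy => ⟨hy.1, by
      have h1 := (h.conj_sq hz hy.2.1).1
      rw [pow_two] at h1
      exact eq_inv_of_mul_eq_one_left (by rw [← h1]; simp [mul_assoc])⟩
    have hIle : I ≤ h.Comp := fun y hy => hy.1
    have hItop : I = h.Comp := by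
      refine Subgroup.eq_of_le_of_card_ge hIle ?_
      have h1 : mL + 1 ≤ Nat.card I := hYcard ▸ (Set.ncard_le_ncard hYI (Set.toFinite _)).trans
        (Nat.card_coe_set_eq (I : Set G)).symm.le
      obtain ⟨d, hd⟩ := Subgroup.card_dvd_of_le hIle
      show hh ≤ Nat.card I
      have h2 : hh = Nat.card I * d := hd
      rcases d with _ | _ | d
      · omega
      · omega
      · have := Nat.mul_le_mul_left (Nat.card I) (show 2 ≤ d + 1 + 1 by omega)
        omega
    have hclosed : ∀ y ∈ Y, ∀ x ∈ h.Comp, y * x ^ 2 ∈ Y := by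
      intro y hy x hx
      refine ⟨mul_mem hy.1 (pow_mem hx 2), hy.2.1.trans (isConj_iff.mpr ⟨x⁻¹, ?_⟩), ?_⟩
      · have h1 : g0 * x⁻¹ * g0 = x := by
          have := (hItop.symm ▸ inv_mem hx : x⁻¹ ∈ I).2
          rwa [inv_inv] at this
        have h2 : x⁻¹ * g0 = g0 * x := by
          nth_rw 2 [← h1]; simp [← mul_assoc, hgg]
        calc x⁻¹ * (g0 * y) * x⁻¹⁻¹ = (x⁻¹ * g0) * y * x := by rw [inv_inv, ← mul_assoc x⁻¹]
          _ = g0 * (x * y * x) := by rw [h2]; simp [mul_assoc]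
          _ = g0 * (y * x ^ 2) := by rw [hLcomm x hx y hy.1, pow_two, mul_assoc]
      · rw [pow_two, mul_smul, mul_smul, mul_smul, hx.1, hx.1, ← mul_smul, hy.2.2]
    have hLCcl : ∀ y ∈ Y, ∀ s ∈ LC, y * s ∈ Y := by
      intro y hy s hs
      obtain ⟨r, hr⟩ := hmLodd
      have h1 : s ^ mL = 1 := congrArg Subtype.val (pow_card_eq_one' (G := LC) (x := ⟨s, hs⟩))
      have h2 : s = (s ^ (r + 1)) ^ 2 := by
        rw [← pow_mul, show (r + 1) * 2 = mL + 1 by omega, pow_succ, h1, one_mul]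
      rw [h2]
      exact hclosed y hy _ (pow_mem hs.1 _)
    obtain ⟨y0, hy0⟩ : Y.Nonempty := by rw [← Set.ncard_pos (Set.toFinite _), hYcard]; omega
    by_cases hother : z * y0 ∈ Y
    · have hall : (h.Comp : Set G) ⊆ Y := by
        intro x hx
        rcases hsub (y0⁻¹ * x) (mul_mem (inv_mem hy0.1) hx) with e | e
        · simpa using hLCcl y0 hy0 _ e
        · have := hLCcl _ hother _ e
          rw [show z * y0 * (z * (y0⁻¹ * x)) = x by
            rw [← mul_assoc, mul_assoc z y0 z, h.z_central hz hy0.1, ← mul_assoc z z, hzz, one_mul,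
              mul_inv_cancel_left]] at this
          exact this
      have := Set.ncard_le_ncard hall (Set.toFinite _)
      rw [hYcard, ← Nat.card_coe_set_eq (h.Comp : Set G)] at this
      change hh ≤ _ at this
      omega
    · have hsubY : Y ⊆ (fun s => y0 * s) '' (LC : Set G) := by
        intro x hx
        rcases hsub (y0⁻¹ * x) (mul_mem (inv_mem hy0.1) hx.1) with e | e
        · exact ⟨_, e, mul_inv_cancel_left _ _⟩
        · exfalso
          apply hother
          have := hLCcl x hx _ (inv_mem e)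
          rw [show x * (z * (y0⁻¹ * x))⁻¹ = z * y0 by
            rw [mul_inv_rev, mul_inv_rev, inv_inv, IsInvol.inv_eq h hz, ← mul_assoc, ← mul_assoc,
              mul_inv_cancel, one_mul, h.z_central hz hy0.1]] at this
          exact this
      have := Set.ncard_le_ncard hsubY (Set.toFinite _)
      rw [hYcard, Set.ncard_image_of_injective _ (mul_right_injective y0), ← Nat.card_coe_set_eq (LC : Set G)] at this
      change _ ≤ mL at this
      omega
  have hk3 : k = 3 := by omega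
  have hh2 : hh = 2 := by omega
  have hl : l = 6 := by
    rw [hmK1, hmL1, hk3, hh2] at hlm
    omega
  have hX : Nat.card X = 10 := by
    rw [h.card_points]; show 1 + k + l = 10; omega
  refine ⟨hX, ?_, hk3⟩
  rw [h.card_group, hX]
  show 10 * (k * hh) = 60
  rw [hk3, hh2]

end Hyp

end CfsgLib.RankThreeFrob
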