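import Cfsg.Agent.Lib.RankThreeFrob.Setting

/-!
The kernel of the Frobenius group at a point, orders, and the parity of fixed point sets.

Blueprint: `blueprint/S2207.md`.
-/

set_option autoImplicit false
set_option linter.unusedSectionVars false
set_option linter.style.haveILetI false

namespace CfsgLib.RankThreeFrob

open MulAction
open scoped Pointwise

universe u v

/-- A fixed-point-free involutive map lives on a set of even size. -/
theorem even_card_of_involutive {T : Type*} [Finite T] (f : T → T) (hf : ∀ a, f (f a) = a) (hne : ∀ a, f a ≠ a) :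
    Even (Nat.card T) := by
  classical
  haveI : Fintype T := Fintype.ofFinite T
  have h0 : ∑ _a : T, (1 : ZMod 2) = 0 :=
    Finset.sum_involution (fun a _ => f a) (fun _ _ => by decide) (fun a _ _ => hne a)
      (fun a _ => Finset.mem_univ _) (fun a _ => hf a)
  rw [Finset.sum_const, Finset.card_univ, nsmul_one] at h0
  rw [Nat.card_eq_fintype_card]
  exact ZMod.natCast_eq_zero_iff_even.mp h0

variable {G : Type u} {X : Type v} [Group G] [MulAction G X] [Finite G] [Finite X] {A B : X}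

namespace Hyp

variable (h : Hyp G A B)

/-- The Frobenius complement: the two point stabiliser. -/
abbrev Comp (_h : Hyp G A B) : Subgroup G := stabilizer G A ⊓ stabilizer G B

theorem mem_comp {x : G} : x ∈ h.Comp ↔ x • A = A ∧ x • B = B := Iff.rfl

theorem frobenius : Cfsg.IsFrobeniusComplement (h.Comp.subgroupOf (stabilizer G A)) := by
  obtain ⟨x, hx, hx1, hxB⟩ := h.hfix
  refine ⟨fun e => hx1 ?_, fun e => hx1 (h.hfaith x hx fun y hy => ?_), fun g hg => ?_⟩
  · have : (⟨x, hx⟩ : stabilizer G A) ∈ h.Comp.subgroupOf (stabilizer G A) :=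
      Subgroup.mem_subgroupOf.mpr ⟨hx, hxB⟩
    rw [e, Subgroup.mem_bot] at this
    exact congrArg Subtype.val this
  · have hy' : (⟨y, hy⟩ : stabilizer G A) ∈ h.Comp.subgroupOf (stabilizer G A) := e ▸ Subgroup.mem_top _
    rw [(Subgroup.mem_subgroupOf.mp hy').2, hxB]
  · rw [Subgroup.eq_bot_iff_forall]
    intro y hyy
    obtain ⟨hy, hy'⟩ := Subgroup.mem_inf.mp hyy
    rw [Subgroup.mem_pointwise_smul_iff_inv_smul_mem] at hy'
    have h1 := (Subgroup.mem_subgroupOf.mp hy).2
    have h2 : ((g : G)⁻¹ * y * g) • B = B := by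
      have := (Subgroup.mem_subgroupOf.mp hy').2
      simpa [MulAut.smul_def] using this
    refine Subtype.ext (h.hfrob y y.2 g g.2 h1 ?_ fun e => hg (Subgroup.mem_subgroupOf.mpr ⟨g.2, e⟩))
    rw [mul_smul, mul_smul, inv_smul_eq_iff] at h2
    exact h2

theorem mem_conj_comp {g x : stabilizer G A} :
    x ∈ MulAut.conj g • h.Comp.subgroupOf (stabilizer G A) ↔ (x : G) • (g : G) • B = (g : G) • B := by
  rw [Subgroup.mem_pointwise_smul_iff_inv_smul_mem, Subgroup.mem_subgroupOf]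
  constructor
  · intro h1
    have h2 : ((g : G)⁻¹ * x * g) • B = B := by simpa [MulAut.smul_def] using h1.2
    rwa [mul_smul, mul_smul, inv_smul_eq_iff] at h2
  · intro h1
    refine ⟨(((MulAut.conj g)⁻¹ • x : stabilizer G A)).2, ?_⟩
    have h2 : ((g : G)⁻¹ * x * g) • B = B := by rw [mul_smul, mul_smul, h1, inv_smul_smul]
    simpa [MulAut.smul_def] using h2

theorem ker_data : ∃ N : Subgroup (stabilizer G A), N.Normal ∧ Group.IsNilpotent N ∧
    Subgroup.IsComplement' N (h.Comp.subgroupOf (stabilizer G A)) ∧ h.Ker A = N.map (stabilizer G A).subtype := by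
  obtain ⟨N, hN, hn, hc, hnil⟩ := CfsgLib.Frob.exists_nilpotent_kernel h.frobenius
  refine ⟨N, hn, hnil, hc, ?_⟩
  rw [Ker]
  convert Subgroup.closure_eq (N.map (stabilizer G A).subtype) using 2
  ext x
  constructor
  · rintro ⟨hx, hx'⟩
    refine ⟨⟨x, mem_stabilizer_iff.mpr hx⟩, ?_, rfl⟩
    rw [SetLike.mem_coe, ← SetLike.mem_coe, hN]
    by_cases h1 : x = 1
    · exact Or.inl (Subtype.ext h1)
    · exact Or.inr fun g hg => hx' h1 _ ⟨g, mem_stabilizer_iff.mp g.2, rfl⟩ (h.mem_conj_comp.mp hg)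
  · rintro ⟨⟨y, hy⟩, hyN, rfl⟩
    refine ⟨mem_stabilizer_iff.mp hy, fun h1 Q hQ e => ?_⟩
    obtain ⟨a, ha, rfl⟩ := h.adj_A hQ
    rw [hN] at hyN
    rcases hyN with h2 | h2
    · exact h1 (congrArg Subtype.val h2)
    · exact h2 ⟨a, mem_stabilizer_iff.mpr ha⟩ (h.mem_conj_comp.mpr e)

theorem mem_ker_base {x : G} :
    x ∈ h.Ker A ↔ x • A = A ∧ (x ≠ 1 → ∀ Q, h.Adj A Q → x • Q ≠ Q) := by
  constructor
  · intro hx
    obtain ⟨N, hNn, -, hNc, hK⟩ := h.ker_data
    rw [hK] at hx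
    obtain ⟨⟨y, hy⟩, hyN, rfl⟩ := hx
    refine ⟨mem_stabilizer_iff.mp hy, fun h1 Q hQ e => ?_⟩
    obtain ⟨a, ha, rfl⟩ := h.adj_A hQ
    have hmem := CfsgLib.Frob.kernel_eq_of_complement h.frobenius hNc
    have : (⟨y, hy⟩ : stabilizer G A) ∈ (N : Set (stabilizer G A)) := hyN
    rw [hmem] at this
    rcases this with h2 | h2
    · exact h1 (congrArg Subtype.val h2)
    · exact h2 ⟨a, mem_stabilizer_iff.mpr ha⟩ (h.mem_conj_comp.mpr e)
  · exact fun hx => Subgroup.subset_closure hx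

theorem mem_ker {x : G} {P : X} :
    x ∈ h.Ker P ↔ x • P = P ∧ (x ≠ 1 → ∀ Q, h.Adj P Q → x • Q ≠ Q) := by
  obtain ⟨g, rfl⟩ := h.trans' A P
  have h1 := (h.move g).mem_ker_base (x := x)
  rw [h.move_ker g, h.move_adj g] at h1
  exact h1

theorem ker_smul {x : G} {P : X} (hx : x ∈ h.Ker P) (g : G) : g * x * g⁻¹ ∈ h.Ker (g • P) := by
  obtain ⟨h1, h2⟩ := h.mem_ker.mp hx
  refine h.mem_ker.mpr ⟨by rw [mul_smul, mul_smul, inv_smul_smul, h1], fun hne Q hQ e => ?_⟩
  refine h2 (fun e' => hne (by rw [e', mul_one, mul_inv_cancel])) (g⁻¹ • Q)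
    ((h.adj_smul g).mp (by rwa [smul_inv_smul])) ?_
  rw [mul_smul, mul_smul] at e
  rw [← inv_smul_smul g (x • g⁻¹ • Q), e]

theorem ker_le {P : X} : h.Ker P ≤ stabilizer G P := fun _ hx => mem_stabilizer_iff.mpr (h.mem_ker.mp hx).1

theorem ker_conj {P : X} {x g : G} (hg : g • P = P) (hx : x ∈ h.Ker P) : g * x * g⁻¹ ∈ h.Ker P := by
  have := h.ker_smul hx g
  rwa [hg] at this

theorem card_ker (P : X) : Nat.card (h.Ker P) = Nat.card (h.Ker A) := by
  obtain ⟨g, rfl⟩ := h.trans' A P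
  refine Nat.card_congr ((MulAut.conj g⁻¹).toEquiv.subtypeEquiv fun x => ?_)
  show x ∈ h.Ker (g • A) ↔ g⁻¹ * x * g⁻¹⁻¹ ∈ h.Ker A
  constructor
  · intro hx
    have := h.ker_smul hx g⁻¹
    rwa [inv_smul_smul] at this
  · intro hx
    have := h.ker_smul hx g
    simpa [mul_assoc] using this

theorem ker_inter_comp {e : G} (he : e ∈ h.Ker A) (hB : e • B = B) : e = 1 := by
  by_contra h1
  exact (h.mem_ker.mp he).2 h1 B h.adj_AB hB

theorem exists_decomp {x : G} (hx : x • A = A) : ∃ e ∈ h.Ker A, e⁻¹ * x ∈ h.Comp := by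
  obtain ⟨N, -, -, hc, hK⟩ := h.ker_data
  obtain ⟨⟨⟨a, ha⟩, ⟨b, hb⟩⟩, hab⟩ := hc.2 ⟨x, mem_stabilizer_iff.mpr hx⟩
  refine ⟨a, by rw [hK]; exact ⟨a, ha, rfl⟩, ?_⟩
  have e : (a : G) * b = x := congrArg Subtype.val hab
  rw [← e, inv_mul_cancel_left]
  exact Subgroup.mem_subgroupOf.mp hb

theorem card_stab : Nat.card (stabilizer G A) = Nat.card (h.Ker A) * Nat.card h.Comp := by
  obtain ⟨N, -, -, hc, hK⟩ := h.ker_data
  rw [hK, Subgroup.card_map_of_injective Subtype.val_injective, ← hc.card_mul_card]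
  congr 1
  exact Nat.card_congr (Subgroup.subgroupOfEquivOfLe inf_le_left).toEquiv

theorem nilpotent (P : X) : Group.IsNilpotent (h.Ker P) := by
  obtain ⟨g, rfl⟩ := h.trans' A P
  obtain ⟨N, -, hnil, -, hK⟩ := (h.move g).ker_data
  rw [h.move_ker g] at hK
  haveI := hnil
  exact Group.nilpotent_of_mulEquiv ((MulEquiv.subgroupCongr hK).trans
    (N.equivMapOfInjective _ Subtype.val_injective).symm).symm

theorem coprime : (Nat.card (h.Ker A)).Coprime (Nat.card h.Comp) := by
  obtain ⟨N, -, -, hc, hK⟩ := h.ker_data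
  rw [hK, Subgroup.card_map_of_injective Subtype.val_injective, ← hc.index_eq_card,
    ← Nat.card_congr (Subgroup.subgroupOfEquivOfLe (inf_le_left : h.Comp ≤ stabilizer G A)).toEquiv]
  exact (CfsgLib.Frob.coprime_index h.frobenius).symm

theorem dvd_sub_one : Nat.card h.Comp ∣ Nat.card (h.Ker A) - 1 := by
  obtain ⟨N, -, -, hc, hK⟩ := h.ker_data
  rw [hK, Subgroup.card_map_of_injective Subtype.val_injective, ← hc.index_eq_card,
    ← Nat.card_congr (Subgroup.subgroupOfEquivOfLe (inf_le_left : h.Comp ≤ stabilizer G A)).toEquiv]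
  exact CfsgLib.Frob.index_mod_card h.frobenius

theorem mem_ker_of_coprime {x : G} (hx : x • A = A) (hco : (orderOf x).Coprime (Nat.card h.Comp)) :
    x ∈ h.Ker A := by
  obtain ⟨N, hn, -, hc, hK⟩ := h.ker_data
  haveI := hn
  rw [hK]
  refine ⟨⟨x, mem_stabilizer_iff.mpr hx⟩, ?_, rfl⟩
  rw [SetLike.mem_coe, ← QuotientGroup.eq_one_iff]
  refine orderOf_eq_one_iff.mp (Nat.eq_one_of_dvd_coprimes hco ?_ ?_)
  · rw [← Subgroup.orderOf_mk x (mem_stabilizer_iff.mpr hx)]
    exact orderOf_map_dvd (QuotientGroup.mk' N) _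
  · refine (orderOf_dvd_natCard _).trans (dvd_of_eq ?_)
    rw [← Subgroup.index_eq_card, hc.symm.index_eq_card,
      Nat.card_congr (Subgroup.subgroupOfEquivOfLe (inf_le_left : h.Comp ≤ stabilizer G A)).toEquiv]

theorem one_lt_comp : 1 < Nat.card h.Comp := by
  obtain ⟨x, hx, hx1, hxB⟩ := h.hfix
  by_contra hle
  have hsub : Nat.card h.Comp ≤ 1 := by omega
  have := (Finite.card_le_one_iff_subsingleton.mp hsub).elim (⟨x, hx, hxB⟩ : h.Comp) 1
  exact hx1 (congrArg Subtype.val this)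

theorem exists_ker_smul {Q : X} (hQ : h.Adj A Q) : ∃ e ∈ h.Ker A, e • B = Q := by
  obtain ⟨a, ha, rfl⟩ := h.adj_A hQ
  obtain ⟨e, he, hl⟩ := h.exists_decomp ha
  exact ⟨e, he, by nth_rw 1 [← hl.2]; rw [← mul_smul, mul_inv_cancel_left]⟩

theorem card_adj : Nat.card {Q // h.Adj A Q} = Nat.card (h.Ker A) := by
  refine (Nat.card_eq_of_bijective (fun e : h.Ker A => (⟨(e : G) • B, e, (h.mem_ker.mp e.2).1, rfl⟩ :
    {Q // h.Adj A Q})) ⟨fun e e' hee => ?_, fun Q => ?_⟩).symm
  · have h1 : ((e' : G)⁻¹ * e) • B = B := by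
      rw [mul_smul, inv_smul_eq_iff]; exact congrArg Subtype.val hee
    exact Subtype.ext (inv_mul_eq_one.mp (h.ker_inter_comp (mul_mem (inv_mem e'.2) e.2) h1)).symm
  · obtain ⟨e, he, hQ⟩ := h.exists_ker_smul Q.2
    exact ⟨⟨e, he⟩, Subtype.ext hQ⟩

theorem one_lt_ker : 1 < Nat.card (h.Ker A) := by
  rw [← h.card_adj]
  by_contra hle
  haveI := Finite.card_le_one_iff_subsingleton.mp (Nat.le_of_not_lt hle)
  obtain ⟨x, hx, hx1, hxB⟩ := h.hfix
  refine hx1 (h.hfaith x hx fun y hy => ?_)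
  have := congrArg Subtype.val
    (Subsingleton.elim (⟨y • B, y, hy, rfl⟩ : {Q // h.Adj A Q}) ⟨B, h.adj_AB⟩)
  have e : y • B = B := this
  rw [e, hxB]

theorem fpf {e x : G} (he : e ∈ h.Ker A) (hx : x ∈ h.Comp) (hx1 : x ≠ 1) (hc : x * e = e * x) : e = 1 := by
  refine h.ker_inter_comp he (h.frob_at hx.1 hx1 ?_ h.adj_AB ?_ hx.2)
  · exact ⟨e, (h.mem_ker.mp he).1, rfl⟩
  · rw [← mul_smul, hc, mul_smul, hx.2]

/-- An element fixing `P` outside the kernel there fixes exactly one neighbour of `P`. -/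
theorem exists_unique_fixed {x : G} {P : X} (hx : x • P = P) (hxK : x ∉ h.Ker P) :
    ∃! Q, h.Adj P Q ∧ x • Q = Q := by
  have hx1 : x ≠ 1 := fun e => hxK (e ▸ one_mem _)
  obtain ⟨Q, hQ, hxQ⟩ : ∃ Q, h.Adj P Q ∧ x • Q = Q := by
    by_contra hno
    push Not at hno
    exact hxK (h.mem_ker.mpr ⟨hx, fun _ => hno⟩)
  exact ⟨Q, ⟨hQ, hxQ⟩, fun R hR => h.frob_at hx hx1 hR.1 hQ hR.2 hxQ⟩

/-- Fixed point sets of elements of order dividing the complement have even size. -/
theorem even_fix {x : G} (hx1 : x ≠ 1) (hco : (orderOf x).Coprime (Nat.card (h.Ker A))) :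
    Even (Nat.card {P : X // x • P = P}) := by
  have hnot : ∀ P : X, x ∉ h.Ker P := fun P hP => hx1 (orderOf_eq_one_iff.mp
    (Nat.eq_one_of_dvd_coprimes hco dvd_rfl (h.card_ker P ▸ Subgroup.orderOf_dvd_natCard _ hP)))
  choose f hf using fun P : {P : X // x • P = P} => (h.exists_unique_fixed P.2 (hnot P.1)).exists
  refine even_card_of_involutive (fun P => ⟨f P, (hf P).2⟩) (fun P => Subtype.ext ?_)
    (fun P e => h.adj_ne (hf P).1 (congrArg Subtype.val e).symm)
  exact (h.exists_unique_fixed (hf P).2 (hnot _)).unique (hf ⟨f P, (hf P).2⟩) ⟨h.adj_symm (hf P).1, P.2⟩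

theorem card_points : Nat.card X = 1 + Nat.card (h.Ker A) + Nat.card {C // h.Far A C} := by
  classical
  haveI : Fintype X := Fintype.ofFinite X
  rw [← h.card_adj, Nat.card_eq_fintype_card, Nat.card_eq_fintype_card, Nat.card_eq_fintype_card,
    Fintype.card_subtype, Fintype.card_subtype, ← Finset.card_singleton A, ← Finset.card_univ,
    ← Finset.card_union_of_disjoint, ← Finset.card_union_of_disjoint]
  · refine congrArg Finset.card (Finset.eq_univ_iff_forall.mpr fun P => ?_).symm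
    simp only [Finset.mem_union, Finset.mem_singleton, Finset.mem_filter, Finset.mem_univ, true_and]
    by_cases h1 : P = A
    · exact Or.inl (Or.inl h1)
    by_cases h2 : h.Adj A P
    · exact Or.inl (Or.inr h2)
    · exact Or.inr ⟨fun e => h1 e.symm, h2⟩
  · rw [Finset.disjoint_left]
    intro P hP hP'
    simp only [Finset.mem_union, Finset.mem_singleton, Finset.mem_filter, Finset.mem_univ, true_and] at hP hP'
    rcases hP with e | e
    · exact hP'.1 e.symm
    · exact hP'.2 e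
  · rw [Finset.disjoint_singleton_left]
    simp only [Finset.mem_filter, Finset.mem_univ, true_and]
    exact fun e => h.adj_ne e rfl

theorem card_group : Nat.card G = Nat.card X * (Nat.card (h.Ker A) * Nat.card h.Comp) := by
  haveI := h.prim.toIsPretransitive
  rw [← h.card_stab, ← Subgroup.card_mul_index (stabilizer G A), index_stabilizer_of_transitive, mul_comm]

theorem card_far {C : X} (hC : h.Far A C) :
    Nat.card {D // h.Far A D} * Nat.card (stabilizer G A ⊓ stabilizer G C : Subgroup G) =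
      Nat.card (h.Ker A) * Nat.card h.Comp := by
  have hst : stabilizer (stabilizer G A) C = (stabilizer G C).subgroupOf (stabilizer G A) := by
    ext x; rfl
  have horb : orbit (stabilizer G A) C = {D | h.Far A D} := by
    ext D
    constructor
    · rintro ⟨⟨x, hx⟩, rfl⟩
      have := (h.far_smul x).mpr hC
      rwa [mem_stabilizer_iff.mp hx] at this
    · intro hD
      obtain ⟨g, hg1, hg2⟩ := h.far_trans hC hD
      exact ⟨⟨g, mem_stabilizer_iff.mpr hg1⟩, hg2⟩
  rw [← h.card_stab, ← Subgroup.card_mul_index (stabilizer (stabilizer G A) C), index_stabilizer, horb,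
    mul_comm, ← Nat.card_coe_set_eq, hst]
  congr 1
  rw [← Subgroup.inf_subgroupOf_right (stabilizer G C) (stabilizer G A),
    Nat.card_congr (Subgroup.subgroupOfEquivOfLe (inf_le_right : stabilizer G C ⊓ stabilizer G A ≤ _)).toEquiv,
    inf_comm]

end Hyp

end CfsgLib.RankThreeFrob
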