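import Cfsg.Agent.Lib.RankThreeFrob.Kernel
import Cfsg.Agent.Lib.Frobenius.Complement

/-!
Prime order subgroups of a point stabiliser outside the kernel.

Blueprint: `blueprint/S2207.md`.
-/

set_option autoImplicit false
set_option linter.unusedSectionVars false
set_option linter.style.haveILetI false

namespace CfsgLib.RankThreeFrob

open MulAction
open scoped Pointwise

universe u v

variable {G : Type u} {X : Type v} [Group G] [MulAction G X] [Finite G] [Finite X] {A B : X}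

namespace Hyp

variable (h : Hyp G A B)

theorem card_comp_move (g : G) : Nat.card (h.move g).Comp = Nat.card h.Comp := by
  refine Nat.card_congr ((MulAut.conj g⁻¹).toEquiv.subtypeEquiv fun x => ?_)
  show (x • g • A = g • A ∧ x • g • B = g • B) ↔
    ((g⁻¹ * x * g⁻¹⁻¹) • A = A ∧ (g⁻¹ * x * g⁻¹⁻¹) • B = B)
  simp only [inv_inv, mul_smul, inv_smul_eq_iff]

theorem card_ker_move (g : G) : Nat.card ((h.move g).Ker (g • A)) = Nat.card (h.Ker A) := by
  rw [h.move_ker g, h.card_ker]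

/-- An element at `P` outside the kernel centralises no non-trivial element of the kernel. -/
theorem fpf_at {e x : G} {P : X} (he : e ∈ h.Ker P) (hx : x • P = P) (hxK : x ∉ h.Ker P)
    (hc : x * e = e * x) : e = 1 := by
  by_contra h1
  obtain ⟨he1, he2⟩ := h.mem_ker.mp he
  obtain ⟨Q, ⟨hQ, hxQ⟩, -⟩ := h.exists_unique_fixed hx hxK
  refine he2 h1 Q hQ (h.frob_at hx (fun e' => hxK (e' ▸ one_mem _)) ?_ hQ ?_ hxQ)
  · have := (h.adj_smul e).mpr hQ
    rwa [he1] at this
  · rw [← mul_smul, hc, mul_smul, hxQ]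

theorem not_mem_ker_of_prime {x : G} {p : ℕ} (hp : p.Prime) (hx : orderOf x = p)
    (hk : ¬ p ∣ Nat.card (h.Ker A)) (P : X) : x ∉ h.Ker P := fun hm =>
  hk (h.card_ker P ▸ hx ▸ Subgroup.orderOf_dvd_natCard _ hm)

/-- A `p`-subgroup of a point stabiliser, for `p` prime to the kernel, has one subgroup of order `p`. -/
theorem uniq_sub {p : ℕ} [Fact p.Prime] (hk : ¬ p ∣ Nat.card (h.Ker A)) {P : Subgroup G}
    (hP : P ≤ stabilizer G A) (hpP : IsPGroup p P) : CfsgLib.Frob.UniqSub p P := by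
  haveI := h.nilpotent A
  haveI : Nontrivial (h.Ker A) := by
    rw [← Finite.one_lt_card_iff_nontrivial]; exact h.one_lt_ker
  set V := (Subgroup.center (h.Ker A)).map (h.Ker A).subtype with hV
  haveI : IsMulCommutative V := ⟨⟨fun a b => by
    obtain ⟨a', ha', ea⟩ := a.2
    obtain ⟨b', hb', eb⟩ := b.2
    apply Subtype.ext
    show (a : G) * b = b * a
    rw [← ea, ← eb, ← map_mul, ← map_mul, Subgroup.mem_center_iff.mp hb' a']⟩⟩
  have hVne : V ≠ ⊥ := by
    rw [hV, Ne, Subgroup.map_eq_bot_iff_of_injective _ (h.Ker A).subtype_injective]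
    have := CfsgLib.inf_center_ne_bot_of_nilpotent (G := h.Ker A) (N := ⊤) (bot_lt_top.ne')
    rwa [top_inf_eq] at this
  have hVK : ∀ {g x : G}, g • A = A → x ∈ V → g * x * g⁻¹ ∈ V := by
    intro g x hg hx
    obtain ⟨x', hx', rfl⟩ := hx
    refine ⟨⟨g * x' * g⁻¹, h.ker_conj hg x'.2⟩, Subgroup.mem_center_iff.mpr fun y => ?_, rfl⟩
    have hy : g⁻¹ * y * g ∈ h.Ker A := by
      simpa using h.ker_conj (g := g⁻¹) (inv_smul_eq_iff.mpr hg.symm) y.2
    have := congrArg (fun t : h.Ker A => g * (t : G) * g⁻¹) (Subgroup.mem_center_iff.mp hx' ⟨_, hy⟩)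
    refine Subtype.ext ?_
    simpa [mul_assoc] using this
  refine CfsgLib.Frob.uniqSub_of_fpf hVne (fun g hg => Subgroup.mem_normalizer_iff.mpr fun x => ⟨fun hx => ?_, fun hx => ?_⟩)
    (fun x hx hx1 => ?_) hpP
  · exact hVK (mem_stabilizer_iff.mp (hP hg)) hx
  · have := hVK (g := g⁻¹) (mem_stabilizer_iff.mp (hP (inv_mem hg))) hx
    simpa [mul_assoc] using this
  · rw [Subgroup.eq_bot_iff_forall]
    rintro e ⟨he, hc⟩
    refine h.fpf_at (x := x) (Subgroup.map_subtype_le _ he) (mem_stabilizer_iff.mp (hP hx)) (fun hm => ?_)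
      (Subgroup.mem_centralizer_singleton_iff.mp hc).symm
    obtain ⟨n, hn⟩ := IsPGroup.iff_orderOf.mp hpP ⟨x, hx⟩
    rw [Subgroup.orderOf_mk] at hn
    rcases Nat.eq_zero_or_pos n with rfl | hn0
    · exact hx1 (orderOf_eq_one_iff.mp (by simpa using hn))
    · exact hk ((dvd_pow_self p hn0.ne').trans (hn ▸ Subgroup.orderOf_dvd_natCard _ hm))

/-- Subgroups of prime order outside the kernel of a two point stabiliser are conjugate there. -/
theorem conj_prime {p : ℕ} [Fact p.Prime] (hk : ¬ p ∣ Nat.card (h.Ker A)) {C : X} {y y' : G}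
    (hy : orderOf y = p) (hy' : orderOf y' = p) (hyA : y • A = A) (hyC : y • C = C)
    (hy'A : y' • A = A) (hy'C : y' • C = C) :
    ∃ c : G, c • A = A ∧ c • C = C ∧ c * y * c⁻¹ ∈ Subgroup.zpowers y' := by
  set M := stabilizer G A ⊓ stabilizer G C with hM
  let a : M := ⟨y, mem_stabilizer_iff.mpr hyA, mem_stabilizer_iff.mpr hyC⟩
  let b : M := ⟨y', mem_stabilizer_iff.mpr hy'A, mem_stabilizer_iff.mpr hy'C⟩
  have hz : ∀ x : M, orderOf (x : G) = p → IsPGroup p (Subgroup.zpowers x) := fun x hx =>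
    IsPGroup.of_card (n := 1) (by rw [Nat.card_zpowers, ← Subgroup.orderOf_coe, hx, pow_one])
  obtain ⟨P, hP⟩ := (hz a hy).exists_le_sylow
  obtain ⟨Q, hQ⟩ := (hz b hy').exists_le_sylow
  obtain ⟨c, hc⟩ := MulAction.exists_smul_eq M P Q
  refine ⟨c, mem_stabilizer_iff.mp c.2.1, mem_stabilizer_iff.mp c.2.2, ?_⟩
  set Qg := (Q : Subgroup M).map M.subtype with hQg
  have hu := h.uniq_sub hk (P := Qg) ((Subgroup.map_subtype_le _).trans inf_le_left) (Q.isPGroup'.map _)
  have h1 : c * a * c⁻¹ ∈ (Q : Subgroup M) := by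
    rw [← hc, Sylow.coe_subgroup_smul]
    exact Subgroup.mem_pointwise_smul_iff_inv_smul_mem.mpr (by
      simpa [MulAut.smul_def, mul_assoc] using hP (Subgroup.mem_zpowers a))
  have h2 := hu.mem (y := ⟨_, Subgroup.mem_map_of_mem M.subtype h1⟩)
    (z := ⟨_, Subgroup.mem_map_of_mem M.subtype (hQ (Subgroup.mem_zpowers b))⟩) ?_ ?_
  · obtain ⟨i, hi⟩ := h2
    exact ⟨i, congrArg Subtype.val hi⟩
  · apply Subtype.ext
    show ((c : G) * y * (c : G)⁻¹) ^ p = 1
    rw [conj_pow, ← hy, pow_orderOf_eq_one, mul_one, mul_inv_cancel]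
  · rw [Subgroup.orderOf_mk]; exact hy'

end Hyp

end CfsgLib.RankThreeFrob
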