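import Cfsg.Agent.Lib.RankThreeFrob.OddLocal

/-!
The complement has even order.

Blueprint: `blueprint/S2207.md`.
-/

set_option autoImplicit false
set_option linter.unusedSectionVars false
set_option linter.style.haveILetI false

namespace CfsgLib.RankThreeFrob

open MulAction Cfsg
open scoped Pointwise

universe u v

variable {G : Type u} {X : Type v} [Group G] [MulAction G X] [Finite G] [Finite X] {A B : X}

namespace Hyp

variable (h : Hyp G A B)

theorem card_z_inter (hodd : Odd (Nat.card h.Comp)) {C : X} (hC : h.Far A C) :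
    2 * Nat.card (h.Z A ⊓ stabilizer G C : Subgroup G) = Nat.card h.Comp + 1 := by
  obtain ⟨u0, hu0, hu0C⟩ := h.z_not_fix hodd hC
  rw [← h.card_z hodd]
  set U := h.Z A ⊓ stabilizer G C with hU
  have hmem : ∀ {x : G}, x ∈ U ↔ x ∈ h.Z A ∧ x • C = C := Iff.rfl
  have e : (h.Z A : Set G) \ (U : Set G) = (u0 * ·) '' (U : Set G) := by
    ext w
    constructor
    · rintro ⟨hw, hwU⟩
      have hwC : w • C ≠ C := fun e => hwU (hmem.mpr ⟨hw, e⟩)
      refine ⟨u0 * w, hmem.mpr ⟨mul_mem hu0 hw, h.z_pair_fix hodd hC hu0 hw hu0C hwC⟩, ?_⟩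
      show u0 * (u0 * w) = w
      rw [← mul_assoc, ← pow_two, h.z_sq hu0, one_mul]
    · rintro ⟨x, hx, rfl⟩
      obtain ⟨hxZ, hxC⟩ := hmem.mp hx
      refine ⟨mul_mem hu0 hxZ, fun e => hu0C ?_⟩
      have h1 : (u0 * x) • C = C := (hmem.mp e).2
      rwa [mul_smul, hxC] at h1
  have h1 := Set.ncard_sdiff_add_ncard_of_subset (s := (U : Set G)) (t := (h.Z A : Set G))
    (fun x hx => (hmem.mp hx).1) (Set.toFinite _)
  rw [e, Set.ncard_image_of_injective _ (mul_right_injective u0)] at h1
  rw [← Nat.card_coe_set_eq (U : Set G), ← Nat.card_coe_set_eq (h.Z A : Set G)] at h1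
  show 2 * Nat.card (U : Set G) = Nat.card (h.Z A : Set G)
  omega

theorem card_z_inter' (hodd : Odd (Nat.card h.Comp)) {C : X} (hC : h.Far A C) :
    Nat.card (h.Z C ⊓ stabilizer G A : Subgroup G) = Nat.card (h.Z A ⊓ stabilizer G C : Subgroup G) := by
  obtain ⟨g, hgA, hgC⟩ := h.far_trans hC (h.far_symm hC)
  refine Nat.card_congr ((MulAut.conj g⁻¹).toEquiv.subtypeEquiv fun x => ?_)
  show x ∈ h.Z C ⊓ stabilizer G A ↔ g⁻¹ * x * g⁻¹⁻¹ ∈ h.Z A ⊓ stabilizer G C
  simp only [Subgroup.mem_inf, mem_stabilizer_iff, inv_inv]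
  constructor
  · rintro ⟨hx, hxA⟩
    refine ⟨?_, by rw [mul_smul, mul_smul, hgC, hxA, ← hgC, inv_smul_smul]⟩
    have := h.z_conj hodd hx g⁻¹
    rwa [← hgA, inv_smul_smul, inv_inv] at this
  · rintro ⟨hx, hxC⟩
    constructor
    · have := h.z_conj hodd hx g
      simpa [hgA, mul_assoc] using this
    · rw [mul_smul, mul_smul, inv_smul_eq_iff, hgC] at hxC
      exact hxC

theorem odd_case_numeric {k h l m v p : ℕ} (hh : 2 * m = h + 1) (hh3 : 3 ≤ h) (hdvd : h ∣ k - 1)
    (hl : l * m = k * h) (hcnt : h * (p - 1) = l * (m - 1)) (hp : Odd p) (hv : v = 1 + k + l)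
    (hk : 1 < k) (hb : k * p ^ 2 < 4 * v) : k = 4 ∧ p = 3 ∧ v = 11 := by
  have h1 : (p - 1) * m = k * (m - 1) := by
    refine Nat.eq_of_mul_eq_mul_left (show 0 < h by omega) ?_
    rw [← mul_assoc, hcnt, mul_right_comm, hl]; ring
  obtain ⟨j, rfl⟩ := hp
  obtain ⟨m', rfl⟩ : ∃ m', m = m' + 2 := ⟨m - 2, by omega⟩
  obtain rfl : h = 2 * m' + 3 := by omega
  simp only [show 2 * j + 1 - 1 = 2 * j by omega, show m' + 2 - 1 = m' + 1 by omega] at h1
  have hl2 : l < 2 * k := by nlinarith
  have hj0 : 1 ≤ j := by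
    by_contra h0
    rw [show j = 0 by omega, mul_zero, zero_mul] at h1
    exact absurd h1.symm (mul_ne_zero (by omega) (by omega))
  have hj : j = 1 := by
    by_contra hne
    have h25 : k * 25 ≤ k * (2 * j + 1) ^ 2 := Nat.mul_le_mul_left _ (Nat.pow_le_pow_left (show 5 ≤ 2 * j + 1 by omega) 2)
    omega
  subst hj
  have hk4 : k ≤ 4 := by
    by_contra hlt
    have : 5 * (m' + 1) ≤ k * (m' + 1) := Nat.mul_le_mul_right _ (by omega)
    omega
  obtain ⟨c, hc⟩ := hdvd
  have hc1 : c = 1 := by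
    rcases c with _ | _ | c
    · omega
    · rfl
    · have : 3 * 2 ≤ (2 * m' + 3) * (c + 1 + 1) := Nat.mul_le_mul (by omega) (by omega)
      omega
  subst hc1
  obtain rfl : m' = 0 := by omega
  refine ⟨by omega, by omega, ?_⟩
  have : k = 4 := by omega
  subst this
  omega

theorem odd_case_equation {f : ℕ} {z : ℤ} (hf : 0 < f) (hz : |z| ≤ f) (hz2 : 1 + z ^ 2 ≤ 12)
    (he : (4 : ℤ) * 3 ^ 2 * ((f : ℤ) * (f + 1)) = 11 * ((f : ℤ) - z) ^ 2) : False := by
  obtain ⟨hz1, hz1'⟩ := abs_le.mp hz
  have h3 : -3 ≤ z ∧ z ≤ 3 := ⟨by nlinarith, by nlinarith⟩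
  obtain ⟨h3a, h3b⟩ := h3
  have h4 : (f : ℤ) ≤ 3 := by nlinarith
  have h5 : f ≤ 3 := by exact_mod_cast h4
  interval_cases f <;> interval_cases z <;> norm_num at *

include h in
/-- The complement has even order. -/
theorem even_comp : Even (Nat.card h.Comp) := by
  classical
  by_contra hev
  rw [Nat.not_even_iff_odd] at hev
  have hodd := hev
  haveI : Fintype X := Fintype.ofFinite X
  haveI : Fintype G := Fintype.ofFinite G
  obtain ⟨C, hC⟩ := h.exists_far A
  set U := h.Z A ⊓ stabilizer G C with hU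
  set m := Nat.card (stabilizer G A ⊓ stabilizer G C : Subgroup G) with hm
  have hmem : ∀ {x : G}, x ∈ U ↔ x ∈ h.Z A ∧ x • C = C := Iff.rfl
  have hcardU := h.card_z_inter hodd hC
  rw [← hU] at hcardU
  have hh3 : 3 ≤ Nat.card h.Comp := by
    have := h.one_lt_comp
    obtain ⟨r, hr⟩ := hodd
    omega
  have hUle : U ≤ stabilizer G A ⊓ stabilizer G C := fun x hx =>
    ⟨mem_stabilizer_iff.mpr (h.z_fix (hmem.mp hx).1), mem_stabilizer_iff.mpr (hmem.mp hx).2⟩
  have hUdvd : Nat.card U ∣ m := Subgroup.card_dvd_of_le hUle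
  obtain ⟨⟨u, huU⟩, hu1'⟩ : ∃ x : U, x ≠ 1 := by
    haveI : Nontrivial U := Finite.one_lt_card_iff_nontrivial.mp (by omega)
    exact exists_ne 1
  obtain ⟨hu, huC⟩ := hmem.mp huU
  have hu1 : u ≠ 1 := fun e => hu1' (Subtype.ext e)
  have hb := h.central_bound hodd hu hu1
  have hp := h.phi0_odd hodd hu hu1
  have hlm := h.card_far hC
  rw [← hm] at hlm
  have hk := h.one_lt_ker
  have hlpos : 0 < Nat.card {D // h.Far A D} := by
    haveI : Nonempty {D // h.Far A D} := ⟨⟨C, hC⟩⟩
    exact Nat.card_pos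
  by_cases hmq : 2 * Nat.card U ≤ m
  · have hp1 : h.phi0 u ≠ 1 := by
      intro e1
      obtain ⟨P, hP⟩ := Set.ncard_eq_one.mp e1
      have hall : ∀ x ∈ h.Z C, x • A = A := by
        intro x hx
        have huC2 : u ∈ h.S2 C := (h.mem_s2 hodd).mpr ⟨huC, 1, by rw [pow_one]; exact h.z_sq hu⟩
        have hxc : x ∈ Subgroup.centralizer ({u} : Set G) :=
          Subgroup.mem_centralizer_singleton_iff.mpr (hx.2.2 u huC2)
        have h1 : x • A ∈ orbit (Subgroup.centralizer ({u} : Set G)) A := ⟨⟨x, hxc⟩, rfl⟩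
        have h2 := mem_orbit_self (M := Subgroup.centralizer ({u} : Set G)) A
        rw [hP, Set.mem_singleton_iff] at h1 h2
        exact h1.trans h2.symm
      have h1 : Nat.card (h.Z C ⊓ stabilizer G A : Subgroup G) = Nat.card (h.Z C) := by
        rw [inf_eq_left.mpr (fun x hx => mem_stabilizer_iff.mpr (hall x hx) : h.Z C ≤ stabilizer G A)]
      obtain ⟨g, hg⟩ := h.trans' A C
      have h2 : Nat.card (h.Z C) = Nat.card (h.Z A) := by
        refine Nat.card_congr ((MulAut.conj g⁻¹).toEquiv.subtypeEquiv fun x => ?_)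
        show x ∈ h.Z C ↔ g⁻¹ * x * g⁻¹⁻¹ ∈ h.Z A
        constructor
        · intro hx
          have := h.z_conj hodd hx g⁻¹
          rwa [← hg, inv_smul_smul] at this
        · intro hx
          have := h.z_conj hodd hx g
          simpa [hg, mul_assoc] using this
      rw [h.card_z_inter' hodd hC, h2, h.card_z hodd, ← hU] at h1
      omega
    have hp3 : 3 ≤ h.phi0 u := by
      obtain ⟨r, hr⟩ := hp
      omega
    have hl : Nat.card {D // h.Far A D} < Nat.card (h.Ker A) := by
      by_contra hge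
      rw [not_lt] at hge
      have : Nat.card (h.Ker A) * (Nat.card h.Comp + 1) ≤ Nat.card {D // h.Far A D} * m :=
        Nat.mul_le_mul hge (by omega)
      rw [hlm] at this
      nlinarith
    have h9 : Nat.card (h.Ker A) * 3 ^ 2 ≤ Nat.card (h.Ker A) * h.phi0 u ^ 2 :=
      Nat.mul_le_mul_left _ (Nat.pow_le_pow_left hp3 2)
    rw [h.card_points] at hb
    omega
  · have hmU : m = Nat.card U := by
      obtain ⟨c, hc⟩ := hUdvd
      rcases c with _ | _ | c
      · have : 0 < m := Nat.card_pos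
        simp [hc] at this
      · simpa using hc
      · exfalso; apply hmq
        rw [hc, mul_comm 2]; exact Nat.mul_le_mul_left _ (by omega)
    have hUeq : U = stabilizer G A ⊓ stabilizer G C := Subgroup.eq_of_le_of_card_ge hUle hmU.le
    have hU'eq : h.Z C ⊓ stabilizer G A = stabilizer G A ⊓ stabilizer G C := by
      refine Subgroup.eq_of_le_of_card_ge (fun x hx => ⟨hx.2, mem_stabilizer_iff.mpr (h.z_fix hx.1)⟩) ?_
      rw [h.card_z_inter' hodd hC]
      exact hmU.le
    have hallfar : ∀ C' x, h.Far A C' → x • A = A → x • C' = C' → x ∈ h.Z A ∧ x ∈ h.Z C' := by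
      intro C' x hC' hxA hxC
      obtain ⟨g, hgA, hgC⟩ := h.far_trans hC hC'
      have hy : g⁻¹ * x * g ∈ stabilizer G A ⊓ stabilizer G C :=
        ⟨(by rw [mul_smul, mul_smul, hgA, hxA]; exact inv_smul_eq_iff.mpr hgA.symm : (g⁻¹ * x * g) • A = A),
          (by rw [mul_smul, mul_smul, hgC, hxC]; exact inv_smul_eq_iff.mpr hgC.symm : (g⁻¹ * x * g) • C = C)⟩
      have h1 : g⁻¹ * x * g ∈ h.Z A := (hUeq.symm ▸ hy : _ ∈ U).1
      have h2 : g⁻¹ * x * g ∈ h.Z C := (hU'eq.symm ▸ hy : _ ∈ h.Z C ⊓ stabilizer G A).1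
      exact ⟨by simpa [hgA, mul_assoc] using h.z_conj hodd h1 g, by simpa [hgC, mul_assoc] using h.z_conj hodd h2 g⟩
    set S := Finset.univ.filter (fun w : G => w ∈ h.Z A ∧ w ≠ 1) with hS
    set T := Finset.univ.filter (fun P : X => h.Far A P) with hT
    have hFix : ∀ w ∈ S, (T.filter fun P => w • P = P).card = h.phi0 u - 1 := by
      intro w hwS
      obtain ⟨-, hw, hw1⟩ := Finset.mem_filter.mp hwS
      have horb : ∀ w, w ∈ h.Z A → w ≠ 1 →
          orbit (Subgroup.centralizer ({w} : Set G)) A = {P | w • P = P} := by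
        intro w hw hw1
        ext P
        constructor
        · rintro ⟨⟨y, hy⟩, rfl⟩
          show w • y • A = y • A
          rw [← mul_smul, ← Subgroup.mem_centralizer_singleton_iff.mp hy, mul_smul, h.z_fix hw]
        · intro hP
          by_cases hPA : P = A
          · rw [hPA]; exact mem_orbit_self A
          have hfar : h.Far A P := ⟨fun e => hPA e.symm, fun hadj => h.z_moves hw hw1 hadj hP⟩
          obtain ⟨hwA, hwP⟩ := hallfar P w hfar (h.z_fix hw) hP
          obtain ⟨g, hg⟩ := h.trans' A P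
          have hgw := h.z_conj hodd hwP g⁻¹
          rw [← hg, inv_smul_smul, inv_inv] at hgw
          obtain ⟨x, hx, hxw⟩ := h.z_fusion hodd hw hw1 hgw (fun e => hw1 (by
            calc w = g * (g⁻¹ * w * g) * g⁻¹ := by group
              _ = 1 := by rw [e, mul_one, mul_inv_cancel]))
          refine ⟨⟨g * x, Subgroup.mem_centralizer_singleton_iff.mpr ?_⟩, ?_⟩
          · calc g * x * w = g * (x * w * x⁻¹) * x := by group
              _ = w * (g * x) := by rw [hxw]; group
          · show (g * x) • A = P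
            rw [mul_smul, hx.1, hg]
      obtain ⟨x, hx, hxw⟩ := h.z_fusion hodd hu hu1 hw hw1
      have hcard : ({P | w • P = P} : Set X).ncard = h.phi0 u := by
        rw [phi0, horb u hu hu1]
        rw [show ({P | w • P = P} : Set X) = (fun P => x • P) '' {P | u • P = P} by
          ext P
          constructor
          · intro hP
            refine ⟨x⁻¹ • P, ?_, smul_inv_smul x P⟩
            show u • x⁻¹ • P = x⁻¹ • P
            rw [← hxw] at hP
            rw [eq_inv_smul_iff, ← mul_smul, ← mul_smul]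
            exact hP
          · rintro ⟨Q, hQ, rfl⟩
            show w • x • Q = x • Q
            rw [← hxw, ← mul_smul, inv_mul_cancel_right, mul_smul, hQ]]
        exact Set.ncard_image_of_injective _ (MulAction.injective x)
      have hset : ({P | w • P = P} : Set X) = ↑(insert A (T.filter fun P => w • P = P)) := by
        ext P
        simp only [Finset.coe_insert, hT, Finset.coe_filter, Finset.mem_filter, Finset.mem_univ, true_and,
          Set.mem_insert_iff, Set.mem_setOf_eq]
        refine ⟨fun hP => ?_, ?_⟩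
        · by_cases hPA : P = A
          · exact Or.inl hPA
          · exact Or.inr ⟨⟨fun e => hPA e.symm, fun hadj => h.z_moves hw hw1 hadj hP⟩, hP⟩
        · rintro (rfl | hP)
          · exact h.z_fix hw
          · exact hP.2
      rw [hset, Set.ncard_coe_finset, Finset.card_insert_of_notMem (fun e => ((Finset.mem_filter.mp (Finset.mem_filter.mp e).1).2).1 rfl)] at hcard
      omega
    have hFar : ∀ P ∈ T, (S.filter fun w => w • P = P).card = m - 1 := by
      intro P hP
      have hPf := (Finset.mem_filter.mp hP).2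
      obtain ⟨g, hgA, hgC⟩ := h.far_trans hC hPf
      have e : S.filter (fun w => w • P = P) =
          (Finset.univ.filter fun w : G => w ∈ stabilizer G A ⊓ stabilizer G P).erase 1 := by
        ext w
        simp only [hS, Finset.mem_filter, Finset.mem_univ, true_and, Finset.mem_erase, Subgroup.mem_inf,
          mem_stabilizer_iff]
        exact ⟨fun ⟨⟨h1, h2⟩, h3⟩ => ⟨h2, h.z_fix h1, h3⟩,
          fun ⟨h2, h1, h3⟩ => ⟨⟨(hallfar P w hPf h1 h3).1, h2⟩, h3⟩⟩
      rw [e, Finset.card_erase_of_mem (by simp), ← Fintype.card_subtype, ← Nat.card_eq_fintype_card, hm]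
      congr 1
      refine Nat.card_congr ((MulAut.conj g⁻¹).toEquiv.subtypeEquiv fun x => ?_)
      show x ∈ stabilizer G A ⊓ stabilizer G P ↔ g⁻¹ * x * g⁻¹⁻¹ ∈ stabilizer G A ⊓ stabilizer G C
      simp only [Subgroup.mem_inf, mem_stabilizer_iff, inv_inv, mul_smul, inv_smul_eq_iff, hgA, hgC]
    have hcnt := Finset.sum_card_bipartiteAbove_eq_sum_card_bipartiteBelow (s := S) (t := T)
      (fun (w : G) (P : X) => w • P = P)
    simp only [Finset.bipartiteAbove, Finset.bipartiteBelow] at hcnt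
    rw [Finset.sum_congr rfl hFix, Finset.sum_congr rfl hFar, Finset.sum_const, Finset.sum_const,
      smul_eq_mul, smul_eq_mul] at hcnt
    have hTcard : T.card = Nat.card {D // h.Far A D} := by
      rw [Nat.card_eq_fintype_card, Fintype.card_subtype]
    have hScard : S.card = Nat.card h.Comp := by
      have e : S = (Finset.univ.filter fun w : G => w ∈ h.Z A).erase 1 := by
        ext w; simp [hS, and_comm]
      rw [e, Finset.card_erase_of_mem (by simp), ← Fintype.card_subtype, ← Nat.card_eq_fintype_card,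
        h.card_z hodd]
      omega
    rw [hScard, hTcard] at hcnt
    obtain ⟨hk4, hp3, hv⟩ := odd_case_numeric (m := m) (v := Nat.card X) (by omega) hh3 h.dvd_sub_one hlm hcnt hp
      h.card_points hk hb
    obtain ⟨f, z, hf, hz, hz2, heq⟩ := h.central_equation hodd hu hu1
    rw [hk4, hp3] at hz2
    rw [hk4, hp3, hv] at heq
    exact odd_case_equation hf hz (by exact_mod_cast hz2) (by exact_mod_cast heq)

end Hyp

end CfsgLib.RankThreeFrob
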