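import Cfsg.Agent.Lib.RankThreeFrob.EvenPair
import Cfsg.Agent.Lib.RankThreeFrob.EvenSemi
import Cfsg.Agent.Lib.RankThreeFrob.EvenZero
import Cfsg.Agent.Lib.RankThreeFrob.OddKill
import Cfsg.Agent.Lib.CharTheory.Burnside
import Cfsg.Agent.Lib.SolvClass.Basic
import Cfsg.Agent.S0494

/-!
Rank three groups with a Frobenius suborbit: the conclusion.

Blueprint: `blueprint/S2207.md`.
-/

set_option autoImplicit false
set_option linter.unusedSectionVars false
set_option linter.style.haveILetI false

namespace CfsgLib.RankThreeFrob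

open MulAction

universe u v

variable {G : Type u} {X : Type v} [Group G] [MulAction G X] [Finite G] [Finite X] {A B : X}

section Normal

/-- A non-trivial normal subgroup of a faithful primitive group is transitive. -/
theorem isPretransitive_normal [FaithfulSMul G X] (hprim : IsPreprimitive G X) {N : Subgroup G} [N.Normal]
    (hN : N ≠ ⊥) : IsPretransitive N X := by
  haveI := hprim
  refine IsQuasiPreprimitive.isPretransitive_of_normal (G := G) fun e => hN ?_
  rw [Subgroup.eq_bot_iff_forall]
  intro n hn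
  refine eq_of_smul_eq_smul (α := X) fun x => ?_
  rw [one_smul]
  exact (e ▸ Set.mem_univ x : x ∈ fixedPoints N X) ⟨n, hn⟩

/-- A non-trivial abelian normal subgroup of a faithful primitive group is regular. -/
theorem regular_normal [FaithfulSMul G X] (hprim : IsPreprimitive G X) {N : Subgroup G} [N.Normal]
    (hN : N ≠ ⊥) (hab : ∀ a ∈ N, ∀ b ∈ N, a * b = b * a) (x₀ : X) :
    Nat.card N = Nat.card X ∧ ∀ x y : X, ∃! n : N, (n : G) • x = y := by
  haveI := isPretransitive_normal hprim hN
  have huniq : ∀ x y : X, ∃! n : N, (n : G) • x = y := by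
    intro x y
    obtain ⟨n, hn⟩ := MulAction.exists_smul_eq N x y
    refine ⟨n, hn, fun m hm => ?_⟩
    have hfix : (n⁻¹ * m : N) • x = x := by
      rw [mul_smul, inv_smul_eq_iff, hn]
      exact hm
    have h1 : ((n⁻¹ * m : N) : G) = 1 := by
      refine eq_of_smul_eq_smul (α := X) fun w => ?_
      obtain ⟨a, rfl⟩ := MulAction.exists_smul_eq N x w
      rw [one_smul, Subgroup.smul_def, ← mul_smul, hab _ (n⁻¹ * m).2 _ a.2, mul_smul]
      show (a : G) • ((n⁻¹ * m : N) • x) = (a : G) • x
      rw [hfix]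
    rw [← inv_mul_eq_one.mp (Subtype.ext h1 : (n⁻¹ * m : N) = 1)]
  refine ⟨Nat.card_congr (Equiv.ofBijective (fun n : N => (n : G) • x₀) ⟨fun a b hab' => ?_, fun y => ?_⟩), huniq⟩
  · exact (huniq x₀ ((b : G) • x₀)).unique hab' rfl
  · exact (huniq x₀ y).exists

end Normal

namespace Hyp

variable (h : Hyp G A B)

include h in
/-- The numerical outcome. -/
theorem cases : (Nat.card X = 10 ∧ Nat.card G = 60) ∨ (Nat.card X = 16 ∧ (Nat.card G = 320 ∨ Nat.card G = 576)) := by
  obtain ⟨z, hz⟩ := h.exists_invol h.even_comp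
  rcases eq_or_ne (h.fNum z) 0 with hf | hf
  · exact Or.inl ⟨(h.zero_case hz hf).1, (h.zero_case hz hf).2.1⟩
  · obtain ⟨⟨C, hC, hzC⟩⟩ : Nonempty {D // h.Far A D ∧ z • D = D} := (Nat.card_ne_zero.mp hf).1
    refine Or.inr ?_
    by_cases hE : h.KerPair A C = ⊥
    · exact ⟨(h.semi_case hz hC hzC hE).1, Or.inl (h.semi_case hz hC hzC hE).2⟩
    · exact ⟨(h.pair_case hz hC hzC hE).1, Or.inr (h.pair_case hz hC hzC hE).2⟩

include h in
theorem sixteen_case (hX : Nat.card X = 16) (hG : Nat.card G = 320 ∨ Nat.card G = 576) :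
    Group.IsSolvable G ∧ ∃ N : Subgroup G, N.Normal ∧ Nat.card N = 16 ∧
      ∀ x y : X, ∃! n : N, (n : G) • x = y := by
  haveI := h.faithful
  have hs : Group.IsSolvable G := by
    rcases hG with e | e
    · exact CfsgLib.CharTheory.isSolvable_of_card_two_primes (a := 6) (b := 1) Nat.prime_two
        (by norm_num : Nat.Prime 5) (by rw [e]; norm_num)
    · exact CfsgLib.CharTheory.isSolvable_of_card_two_primes (a := 6) (b := 2) Nat.prime_two
        Nat.prime_three (by rw [e]; norm_num)
  refine ⟨hs, ?_⟩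
  haveI := hs
  haveI : Nontrivial G := Finite.one_lt_card_iff_nontrivial.mp (by omega)
  obtain ⟨N, hN, hN1, hab⟩ := CfsgLib.SolvClass.exists_abelian_normal G
  haveI := hN
  obtain ⟨hcard, hreg⟩ := regular_normal h.prim hN1 hab A
  exact ⟨N, hN, hcard.trans hX, hreg⟩

include h in
theorem ten_case (hX : Nat.card X = 10) (hG : Nat.card G = 60) :
    Nonempty (G ≃* alternatingGroup (Fin 5)) := by
  haveI := h.faithful
  have hno : ∀ N : Subgroup G, N.Normal → N ≠ ⊥ → (∀ a ∈ N, ∀ b ∈ N, a * b = b * a) → False := by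
    intro N hN hN1 hab
    haveI := hN
    have hcard : Nat.card N = 10 := (regular_normal h.prim hN1 hab A).1.trans hX
    let S : Subgroup G :=
      { carrier := {x | x ∈ N ∧ x * x = 1}
        one_mem' := ⟨N.one_mem, one_mul 1⟩
        mul_mem' := fun {a b} ha hb => ⟨N.mul_mem ha.1 hb.1, by
          rw [mul_assoc, ← mul_assoc b, hab b hb.1 a ha.1, mul_assoc a b b, hb.2, mul_one, ha.2]⟩
        inv_mem' := fun {a} ha => ⟨N.inv_mem ha.1, by rw [← mul_inv_rev, ha.2, inv_one]⟩ }
    haveI : S.Normal := ⟨fun x hx g => ⟨hN.conj_mem x hx.1 g, by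
      rw [show g * x * g⁻¹ * (g * x * g⁻¹) = g * (x * x) * g⁻¹ by group, hx.2, mul_one, mul_inv_cancel]⟩⟩
    haveI : Fact (Nat.Prime 2) := ⟨Nat.prime_two⟩
    haveI : Fact (Nat.Prime 5) := ⟨by norm_num⟩
    have hS1 : S ≠ ⊥ := by
      obtain ⟨x, hx⟩ := exists_prime_orderOf_dvd_card' (G := N) 2 (by omega)
      intro e
      have hx2 : x * x = 1 := by rw [← pow_two, ← hx, pow_orderOf_eq_one]
      have : (x : G) ∈ S := ⟨x.2, congrArg Subtype.val hx2⟩
      rw [e, Subgroup.mem_bot] at this
      rw [show x = 1 from Subtype.ext this, orderOf_one] at hx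
      omega
    haveI := isPretransitive_normal h.prim hS1
    have h10 : 10 ∣ Nat.card S := by
      rw [← hX, ← index_stabilizer_of_transitive S A]
      exact Subgroup.index_dvd_card _
    obtain ⟨x, hx⟩ := exists_prime_orderOf_dvd_card' (G := S) 5 (Nat.dvd_trans ⟨2, rfl⟩ h10)
    have hx2 : x ^ 2 = 1 := Subtype.ext (by
      rw [pow_two]; exact x.2.2)
    have := orderOf_dvd_of_pow_eq_one hx2
    rw [hx] at this
    omega
  haveI : Nontrivial G := Finite.one_lt_card_iff_nontrivial.mp (by omega)
  haveI : IsSimpleGroup G := by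
    refine ⟨fun N hN => ?_⟩
    by_contra hne
    rw [not_or] at hne
    haveI := hN
    haveI := isPretransitive_normal h.prim hne.1
    have h10 : 10 ∣ Nat.card N := by
      rw [← hX, ← index_stabilizer_of_transitive N A]
      exact Subgroup.index_dvd_card _
    have h60 : Nat.card N ∣ 60 := hG ▸ N.card_subgroup_dvd_card
    have hlt : Nat.card N ≠ 60 := fun e => hne.2 (Subgroup.eq_top_of_card_eq N (e.trans hG.symm))
    have key : ∀ d ∈ Nat.divisors 60, 10 ∣ d → d ≠ 60 → Squarefree d ∨ d = 20 := by decide +kernel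
    have hs : Group.IsSolvable N := by
      rcases key _ (Nat.mem_divisors.mpr ⟨h60, by norm_num⟩) h10 hlt with e | e
      · haveI := IsZGroup.of_squarefree e
        infer_instance
      · exact CfsgLib.CharTheory.isSolvable_of_card_two_primes (a := 2) (b := 1) Nat.prime_two
          (by norm_num : Nat.Prime 5) (by rw [e]; norm_num)
    haveI := hs
    obtain ⟨n, hn⟩ := (Group.isSolvable_def N).mp hs
    -- the last non-trivial term of the derived series
    classical
    have hex : ∃ k, derivedSeries N k = ⊥ := ⟨n, hn⟩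
    have h0 : Nat.find hex ≠ 0 := fun e => by
      have h1 := Nat.find_spec hex
      rw [e, derivedSeries_zero] at h1
      haveI : Nontrivial N := (Subgroup.nontrivial_iff_ne_bot N).mpr hne.1
      exact top_ne_bot h1
    obtain ⟨k, hk⟩ := Nat.exists_eq_succ_of_ne_zero h0
    haveI : (derivedSeries N k).Characteristic := derivedSeries_characteristic N k
    refine hno ((derivedSeries N k).map N.subtype) inferInstance ?_ ?_
    · rw [Ne, Subgroup.map_eq_bot_iff_of_injective _ N.subtype_injective]
      exact Nat.find_min hex (by omega)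
    · rintro _ ⟨a, ha, rfl⟩ _ ⟨b, hb, rfl⟩
      have h1 := Nat.find_spec hex
      rw [hk, derivedSeries_succ, Subgroup.commutator_eq_bot_iff_le_centralizer] at h1
      exact congrArg Subtype.val (Subgroup.mem_centralizer_iff.mp (h1 ha) b hb).symm
  exact Cfsg.Agent.S0494.result hG

end Hyp

end CfsgLib.RankThreeFrob
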