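import Cfsg.Agent.Lib.RankThreeFrob.Local

/-!
Odd complement: two-subgroups of the point stabilisers, fixed points of the complement.

Blueprint: `blueprint/S2207.md`.
-/

set_option autoImplicit false
set_option linter.unusedSectionVars false
set_option linter.style.haveILetI false

namespace CfsgLib.RankThreeFrob

open MulAction
open scoped Pointwise

universe u v

variable {G : Type u} {X : Type v} [Group G] [MulAction G X] [Finite G] [Finite X] {A B : X}


namespace Hyp

variable (h : Hyp G A B)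

/-- The two-elements of the kernel at a point. -/
noncomputable def S2 (P : X) : Subgroup G :=
  ((default : Sylow 2 (h.Ker P)) : Subgroup (h.Ker P)).map (h.Ker P).subtype

theorem s2_le_ker (P : X) : h.S2 P ≤ h.Ker P := Subgroup.map_subtype_le _

theorem isPGroup_s2 (P : X) : IsPGroup 2 (h.S2 P) := (default : Sylow 2 (h.Ker P)).isPGroup'.map _

theorem card_s2 (P : X) : Nat.card (h.S2 P) = 2 ^ (Nat.card (h.Ker A)).factorization 2 := by
  rw [S2, Subgroup.card_map_of_injective Subtype.val_injective, Sylow.card_eq_multiplicity, h.card_ker]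

variable (hodd : Odd (Nat.card h.Comp))

include hodd in
theorem two_elt_mem_ker {x : G} {P : X} (hx : x • P = P) {n : ℕ} (hn : x ^ 2 ^ n = 1) : x ∈ h.Ker P := by
  obtain ⟨g, rfl⟩ := h.trans' A P
  have h1 := (h.move g).mem_ker_of_coprime hx
  rw [h.move_ker g] at h1
  refine h1 (Nat.Coprime.coprime_dvd_left (orderOf_dvd_of_pow_eq_one hn) ?_)
  exact ((Nat.coprime_two_left.mpr (h.card_comp_move g ▸ hodd))).pow_left n

include hodd in
theorem mem_s2 {x : G} {P : X} : x ∈ h.S2 P ↔ x • P = P ∧ ∃ n, x ^ 2 ^ n = 1 := by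
  constructor
  · intro hx
    obtain ⟨n, hn⟩ := h.isPGroup_s2 P ⟨x, hx⟩
    exact ⟨(h.mem_ker.mp (h.s2_le_ker P hx)).1, n, congrArg Subtype.val hn⟩
  · rintro ⟨hx, n, hn⟩
    have hK := h.two_elt_mem_ker hodd hx hn
    refine ⟨⟨x, hK⟩, ?_, rfl⟩
    haveI := h.nilpotent P
    set S : Sylow 2 (h.Ker P) := default
    have hS : (S : Subgroup (h.Ker P)).Normal := inferInstance
    have hz : IsPGroup 2 (Subgroup.zpowers (⟨x, hK⟩ : h.Ker P)) := by
      obtain ⟨j, -, hj⟩ := (Nat.dvd_prime_pow Nat.prime_two).mp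
        (orderOf_dvd_of_pow_eq_one (Subtype.ext hn : (⟨x, hK⟩ : h.Ker P) ^ 2 ^ n = 1))
      exact IsPGroup.of_card (n := j) (by rw [Nat.card_zpowers, hj])
    obtain ⟨T, hT⟩ := hz.exists_le_sylow
    obtain ⟨g, hg⟩ := MulAction.exists_smul_eq (h.Ker P) S T
    rw [Sylow.smul_eq_of_normal] at hg
    exact hg ▸ hT (Subgroup.mem_zpowers _)

include hodd in
theorem s2_conj {x : G} {P : X} (hx : x ∈ h.S2 P) (g : G) : g * x * g⁻¹ ∈ h.S2 (g • P) := by
  obtain ⟨h1, n, hn⟩ := (h.mem_s2 hodd).mp hx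
  refine (h.mem_s2 hodd).mpr ⟨by rw [mul_smul, mul_smul, inv_smul_smul, h1], n, ?_⟩
  rw [conj_pow, hn, mul_one, mul_inv_cancel]

include hodd in
theorem even_ker : Even (Nat.card (h.Ker A)) := by
  by_contra hk
  rw [Nat.not_even_iff_odd] at hk
  obtain ⟨C, hC⟩ := h.exists_far A
  have hl : Odd (Nat.card {D // h.Far A D}) := by
    have := hk.mul hodd
    rw [← h.card_far hC] at this
    exact (Nat.odd_mul.mp this).1
  have hv : Odd (Nat.card X) := by
    rw [h.card_points]; exact ((odd_one.add_odd hk).add_odd hl)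
  have := hv.mul (hk.mul hodd)
  rw [← h.card_group] at this
  exact Nat.not_even_iff_odd.mpr this h.even

include hodd in
theorem s2_ne_bot (P : X) : h.S2 P ≠ ⊥ := by
  rw [Ne, ← Subgroup.card_eq_one, h.card_s2, Nat.pow_eq_one]
  rintro (e | e)
  · omega
  · exact absurd e ((Nat.Prime.factorization_pos_of_dvd Nat.prime_two Nat.card_pos.ne'
      (h.even_ker hodd).two_dvd).ne')

include hodd in
theorem s2_not_fix_far {C : X} (hC : h.Far A C) : ∃ x ∈ h.S2 A, x • C ≠ C := by
  by_contra hno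
  push Not at hno
  have heq : h.S2 A = h.S2 C := by
    refine Subgroup.eq_of_le_of_card_ge (fun x hx => ?_) (le_of_eq ((h.card_s2 C).trans (h.card_s2 A).symm))
    exact (h.mem_s2 hodd).mpr ⟨hno x hx, ((h.mem_s2 hodd).mp hx).2⟩
  set N := Subgroup.normalizer (h.S2 A : Set G)
  have hN : ∀ P, h.S2 A = h.S2 P → stabilizer G P ≤ N := fun P e g hg => by
    rw [Subgroup.mem_normalizer_iff, e]
    intro x
    constructor
    · intro hx
      have := h.s2_conj hodd hx g
      rwa [mem_stabilizer_iff.mp hg] at this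
    · intro hx
      have := h.s2_conj hodd hx g⁻¹
      rw [inv_smul_eq_iff.mpr (mem_stabilizer_iff.mp hg).symm] at this
      simpa [mul_assoc] using this
  haveI := h.prim
  haveI : Nontrivial X := ⟨⟨B, A, h.ne⟩⟩
  have htop : N = ⊤ := by
    rcases (IsPreprimitive.isCoatom_stabilizer_of_isPreprimitive (G := G) (X := X) A).le_iff.mp
      (hN A rfl) with e | e
    · exact e
    · obtain ⟨g, hg⟩ := h.trans' A C
      have hC' : ∀ x : G, x • C = C → x • A = A := fun x hx =>
        mem_stabilizer_iff.mp (e ▸ hN C heq (mem_stabilizer_iff.mpr hx))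
      have := (h.move g).eq_of_fixed (P := A) (by rw [hg]; exact hC')
      exact absurd (this.trans hg) hC.1
  refine h.s2_ne_bot hodd A ((Subgroup.eq_bot_iff_forall _).mpr fun x hx => ?_)
  haveI := h.faithful
  refine eq_of_smul_eq_smul (α := X) fun P => ?_
  rw [one_smul]
  obtain ⟨g, rfl⟩ := h.trans' A P
  have hg : g⁻¹ ∈ N := htop ▸ Subgroup.mem_top _
  have hgx := (Subgroup.mem_normalizer_iff.mp hg x).mp hx
  have h1 := ((h.mem_s2 hodd).mp hgx).1
  rw [inv_inv, mul_smul, mul_smul, inv_smul_eq_iff] at h1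
  exact h1

include hodd in
theorem s2_not_fix {P Q : X} (hne : P ≠ Q) : ∃ x ∈ h.S2 P, x • Q ≠ Q := by
  by_cases hadj : h.Adj P Q
  · obtain ⟨⟨x, hx⟩, hx0⟩ := Subgroup.ne_bot_iff_exists_ne_one.mp (h.s2_ne_bot hodd P)
    have hx1 : x ≠ 1 := fun e => hx0 (Subtype.ext e)
    exact ⟨x, hx, (h.mem_ker.mp (h.s2_le_ker P hx)).2 hx1 Q hadj⟩
  · obtain ⟨g, hg⟩ := h.trans' A P
    have hfar : h.Far A (g⁻¹ • Q) := by
      rw [← h.far_smul g, hg, smul_inv_smul]; exact ⟨hne, hadj⟩
    obtain ⟨x, hx, hxQ⟩ := h.s2_not_fix_far hodd hfar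
    refine ⟨g * x * g⁻¹, hg ▸ h.s2_conj hodd hx g, fun e => hxQ ?_⟩
    rw [mul_smul, mul_smul] at e
    rw [← inv_smul_smul g (x • g⁻¹ • Q), e]

include hodd in
theorem even_far : Even (Nat.card {D // h.Far A D}) := by
  by_contra hl
  have hH : ∀ (g : stabilizer G A) (D : {D // h.Far A D}), h.Far A ((g : G) • D.1) := fun g D => by
    have := (h.far_smul (g : G)).mpr D.2
    rwa [mem_stabilizer_iff.mp g.2] at this
  letI : MulAction (h.S2 A) {D // h.Far A D} :=
    { smul := fun s D => ⟨(s : G) • D.1, hH ⟨s, h.ker_le (h.s2_le_ker A s.2)⟩ D⟩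
      one_smul := fun D => Subtype.ext (one_smul G D.1)
      mul_smul := fun s t D => Subtype.ext (mul_smul (s : G) (t : G) D.1) }
  obtain ⟨⟨C, hC⟩, hfix⟩ := (h.isPGroup_s2 A).nonempty_fixed_point_of_prime_not_dvd_card
    {D // h.Far A D} fun hd => hl (even_iff_two_dvd.mpr hd)
  obtain ⟨x, hx, hxC⟩ := h.s2_not_fix_far hodd hC
  exact hxC (congrArg Subtype.val (hfix ⟨x, hx⟩))

include hodd in
theorem odd_points : Odd (Nat.card X) := by
  rw [h.card_points]
  exact (odd_one.add_even (h.even_ker hodd)).add_even (h.even_far hodd)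

include hodd in
theorem fix_point {T : Subgroup G} (hT : IsPGroup 2 T) : ∃ P : X, ∀ x ∈ T, x • P = P := by
  obtain ⟨P, hP⟩ := hT.nonempty_fixed_point_of_prime_not_dvd_card X
    fun hd => Nat.not_even_iff_odd.mpr (h.odd_points hodd) (even_iff_two_dvd.mpr hd)
  exact ⟨P, fun x hx => hP ⟨x, hx⟩⟩

include hodd in
theorem card_sylow (T : Sylow 2 G) (P : X) : Nat.card T = Nat.card (h.S2 P) := by
  rw [Sylow.card_eq_multiplicity, h.card_s2]
  congr 1
  haveI : Nonempty X := ⟨A⟩
  rw [h.card_group]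
  rw [Nat.factorization_mul Nat.card_pos.ne' (mul_pos Nat.card_pos Nat.card_pos).ne',
    Nat.factorization_mul Nat.card_pos.ne' Nat.card_pos.ne']
  simp only [Finsupp.add_apply]
  rw [Nat.factorization_eq_zero_of_not_dvd (fun hd => Nat.not_even_iff_odd.mpr (h.odd_points hodd)
      (even_iff_two_dvd.mpr hd)),
    Nat.factorization_eq_zero_of_not_dvd (fun hd => Nat.not_even_iff_odd.mpr hodd (even_iff_two_dvd.mpr hd))]
  omega

include hodd in
theorem sylow_fix_unique (T : Sylow 2 G) {P Q : X} (hP : ∀ x ∈ T, x • P = P) (hQ : ∀ x ∈ T, x • Q = Q) :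
    P = Q := by
  by_contra hne
  have heq : (T : Subgroup G) = h.S2 P := Subgroup.eq_of_le_of_card_ge (fun x hx => by
    obtain ⟨n, hn⟩ := T.isPGroup' ⟨x, hx⟩
    exact (h.mem_s2 hodd).mpr ⟨hP x hx, n, congrArg Subtype.val hn⟩) (h.card_sylow hodd T P).ge
  obtain ⟨x, hx, hxQ⟩ := h.s2_not_fix hodd hne
  exact hxQ (hQ x (heq.symm ▸ hx : x ∈ (T : Subgroup G)))

include hodd in
/-- Non-trivial elements of the complement fix two points only. -/
theorem comp_fix {x : G} (hx : x ∈ h.Comp) (hx1 : x ≠ 1) {P : X} (hP : x • P = P) : P = A ∨ P = B := by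
  classical
  by_contra hno
  rw [not_or] at hno
  have hfar : h.Far A P := ⟨fun e => hno.1 e.symm, fun e => hno.2 (h.frob_at hx.1 hx1 e h.adj_AB hP hx.2)⟩
  obtain ⟨p, hp, hpd⟩ := Nat.exists_prime_and_dvd (n := orderOf x) (fun e => hx1 (orderOf_eq_one_iff.mp e))
  haveI := Fact.mk hp
  obtain ⟨y, hyz, hy⟩ : ∃ y ∈ Subgroup.zpowers x, orderOf y = p := by
    obtain ⟨⟨y, hyz⟩, hy⟩ := exists_prime_orderOf_dvd_card' (G := Subgroup.zpowers x) p
      (by rwa [Nat.card_zpowers])
    exact ⟨y, hyz, by rwa [Subgroup.orderOf_mk] at hy⟩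
  have hyL : y ∈ h.Comp := (Subgroup.zpowers_le.mpr hx) hyz
  have hyP : y • P = P := mem_stabilizer_iff.mp ((Subgroup.zpowers_le.mpr (mem_stabilizer_iff.mpr hP)) hyz)
  have hy1 : y ≠ 1 := fun e => hp.ne_one (by rw [← hy, e, orderOf_one])
  have hpk : ¬ p ∣ Nat.card (h.Ker A) := fun hd =>
    hp.not_dvd_one (h.coprime ▸ Nat.dvd_gcd hd (hy ▸ Subgroup.orderOf_dvd_natCard _ hyL))
  haveI : Fintype X := Fintype.ofFinite X
  set F := Finset.univ.filter fun D : X => h.Far A D ∧ y • D = D with hF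
  have hev : Even F.card := by
    have h1 := h.even_fix hy1 (hy ▸ (hp.coprime_iff_not_dvd.mpr hpk))
    rw [Nat.card_eq_fintype_card, Fintype.card_subtype] at h1
    have h2 : (Finset.univ.filter fun D : X => y • D = D) = insert A (insert B F) := by
      ext D
      simp only [Finset.mem_insert, hF, Finset.mem_filter, Finset.mem_univ, true_and]
      constructor
      · intro hD
        by_cases hA : D = A
        · exact Or.inl hA
        · by_cases hadj : h.Adj A D
          · exact Or.inr (Or.inl (h.frob_at hyL.1 hy1 hadj h.adj_AB hD hyL.2))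
          · exact Or.inr (Or.inr ⟨⟨fun e => hA e.symm, hadj⟩, hD⟩)
      · rintro (rfl | rfl | hD)
        · exact hyL.1
        · exact hyL.2
        · exact hD.2
    rw [h2, Finset.card_insert_of_notMem, Finset.card_insert_of_notMem] at h1
    · obtain ⟨r, hr⟩ := h1
      exact ⟨r - 1, by omega⟩
    · simp only [hF, Finset.mem_filter, Finset.mem_univ, true_and]
      exact fun e => e.1.2 h.adj_AB
    · simp only [Finset.mem_insert, hF, Finset.mem_filter, Finset.mem_univ, true_and, not_or]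
      exact ⟨fun e => h.ne e.symm, fun e => e.1.1 rfl⟩
  set N := h.Comp ⊓ Subgroup.normalizer (Subgroup.zpowers y : Set G) with hNdef
  have horb : orbit N P = (F : Set X) := by
    ext D
    simp only [hF, Finset.coe_filter, Finset.mem_univ, true_and, Set.mem_setOf_eq]
    constructor
    · rintro ⟨⟨g, hgL, hgN⟩, rfl⟩
      show h.Far A (g • P) ∧ y • g • P = g • P
      refine ⟨?_, ?_⟩
      · have := (h.far_smul g).mpr hfar
        rwa [hgL.1] at this
      · have hc := (Subgroup.mem_normalizer_iff.mp (inv_mem hgN) y).mp (Subgroup.mem_zpowers y)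
        have h2 := mem_stabilizer_iff.mp ((Subgroup.zpowers_le.mpr (mem_stabilizer_iff.mpr hyP)) hc)
        rw [inv_inv, mul_smul, mul_smul, inv_smul_eq_iff] at h2
        exact h2
    · rintro ⟨hD, hyD⟩
      obtain ⟨g, hgA, hgP⟩ := h.far_trans hfar hD
      have hzC : (g * y * g⁻¹) • D = D := by rw [← hgP, mul_smul, mul_smul, inv_smul_smul, hyP]
      have hzA : (g * y * g⁻¹) • A = A := by
        rw [mul_smul, mul_smul, inv_smul_eq_iff.mpr hgA.symm, hyL.1, hgA]
      obtain ⟨c, hcA, hcD, hc⟩ := h.conj_prime hpk (y := g * y * g⁻¹) (y' := y)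
        (by rw [← hy]; exact orderOf_injective (MulAut.conj g).toMonoidHom (MulAut.conj g).injective y) hy hzA hzC hyL.1 hyD
      have hc' : (c * g) * y * (c * g)⁻¹ ∈ Subgroup.zpowers y := by
        simpa [mul_assoc] using hc
      have hnorm : c * g ∈ Subgroup.normalizer (Subgroup.zpowers y : Set G) :=
        Subgroup.mem_normalizer_fintype fun w hw => by
          obtain ⟨i, rfl⟩ := hw
          rw [← conj_zpow]
          exact zpow_mem hc' i
      have hcgA : (c * g) • A = A := by rw [mul_smul, hgA, hcA]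
      refine ⟨⟨c * g, ⟨hcgA, h.frob_at hyL.1 hy1 ?_ h.adj_AB ?_ hyL.2⟩, hnorm⟩, ?_⟩
      · have := (h.adj_smul (c * g)).mpr h.adj_AB
        rwa [hcgA] at this
      · have hc2 := (Subgroup.mem_normalizer_iff.mp (inv_mem hnorm) y).mp (Subgroup.mem_zpowers y)
        have h2 := mem_stabilizer_iff.mp
          ((Subgroup.zpowers_le.mpr (mem_stabilizer_iff.mpr hyL.2)) hc2)
        rw [inv_inv, mul_smul, mul_smul, inv_smul_eq_iff] at h2
        exact h2
      · show (c * g) • P = D
        rw [mul_smul, hgP, hcD]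
  have hcard : (stabilizer N P).index = F.card := by
    rw [index_stabilizer, horb, Set.ncard_coe_finset]
  have hdvd : F.card ∣ Nat.card h.Comp := hcard ▸
    (Subgroup.index_dvd_card _).trans (Subgroup.card_dvd_of_le inf_le_left)
  exact Nat.not_even_iff_odd.mpr (hodd.of_dvd_nat hdvd) hev

include hodd in
/-- Elements fixing a far pair lie in the kernel. -/
theorem far_le_ker {x : G} {P C : X} (hC : h.Far P C) (hxP : x • P = P) (hxC : x • C = C) : x ∈ h.Ker P := by
  by_contra hx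
  obtain ⟨Q, ⟨⟨g, hgA, hgB⟩, hxQ⟩, -⟩ := h.exists_unique_fixed hxP hx
  have hxL : x ∈ (h.move g).Comp := ⟨(hgA.symm ▸ hxP : x • g • A = g • A), (hgB.symm ▸ hxQ : x • g • B = g • B)⟩
  rcases (h.move g).comp_fix (h.card_comp_move g ▸ hodd) hxL (fun e => hx (e ▸ one_mem _)) hxC with e | e
  · exact hC.1 (e.trans hgA).symm
  · exact hC.2 ⟨g, hgA, e.symm⟩

include h hodd in
theorem exists_swap : ∃ t : G, t ^ 2 = 1 ∧ t • A = B ∧ t • B = A := by
  obtain ⟨g, hg1, hg2⟩ := h.adj_symm h.adj_AB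
  have h2 : g ^ 2 ∈ h.Comp := by
    rw [pow_two]
    exact ⟨(by rw [mul_smul, hg1, hg2] : (g * g) • A = A), (by rw [mul_smul, hg2, hg1] : (g * g) • B = B)⟩
  obtain ⟨r, hr⟩ := hodd
  refine ⟨g ^ Nat.card h.Comp, ?_, ?_, ?_⟩
  · rw [← pow_mul, mul_comm, pow_mul]
    exact congrArg Subtype.val (pow_card_eq_one' (G := h.Comp) (x := ⟨g ^ 2, h2⟩))
  all_goals
    rw [hr, pow_succ, pow_mul, mul_smul]
    first | rw [hg1] | rw [hg2]
    first
      | exact ((h.Comp).pow_mem h2 r).2
      | exact ((h.Comp).pow_mem h2 r).1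

end Hyp

end CfsgLib.RankThreeFrob
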