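import Cfsg.Agent.Lib.RankThreeFrob.OddClass
import Cfsg.Agent.Lib.Transfer
import Cfsg.Agent.Lib.Frobenius.Splitting

/-!
Odd complement: central involutions of a Sylow two-subgroup and their centralisers.

Blueprint: `blueprint/S2207.md`.
-/

set_option autoImplicit false
set_option linter.unusedSectionVars false
set_option linter.style.haveILetI false

namespace CfsgLib.RankThreeFrob

open MulAction Cfsg
open scoped Pointwise

universe u v

variable {G : Type u} {X : Type v} [Group G] [MulAction G X] [Finite G] [Finite X] {A B : X}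

namespace Hyp

variable (h : Hyp G A B)

/-- The central involutions of the two-part of a point stabiliser, with the identity. -/
def Z (P : X) : Subgroup G where
  carrier := {u | u ∈ h.S2 P ∧ u ^ 2 = 1 ∧ ∀ x ∈ h.S2 P, u * x = x * u}
  one_mem' := ⟨one_mem _, one_pow _, fun x _ => by rw [one_mul, mul_one]⟩
  mul_mem' := fun {a b} ha hb => ⟨mul_mem ha.1 hb.1,
    by rw [(show Commute a b from ha.2.2 b hb.1).mul_pow, ha.2.1, hb.2.1, one_mul],
    fun x hx => by rw [mul_assoc, hb.2.2 x hx, ← mul_assoc, ha.2.2 x hx, mul_assoc]⟩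
  inv_mem' := fun {a} ha => ⟨inv_mem ha.1, by rw [inv_pow, ha.2.1, inv_one],
    fun x hx => ((show Commute a x from ha.2.2 x hx).inv_left).eq⟩

theorem z_le_s2 (P : X) : h.Z P ≤ h.S2 P := fun _ hu => hu.1

theorem z_fix {P : X} {u : G} (hu : u ∈ h.Z P) : u • P = P := (h.mem_ker.mp (h.s2_le_ker P hu.1)).1

theorem z_sq {P : X} {u : G} (hu : u ∈ h.Z P) : u ^ 2 = 1 := hu.2.1

theorem z_moves {P Q : X} {u : G} (hu : u ∈ h.Z P) (hu1 : u ≠ 1) (hQ : h.Adj P Q) : u • Q ≠ Q :=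
  (h.mem_ker.mp (h.s2_le_ker P hu.1)).2 hu1 Q hQ

variable (hodd : Odd (Nat.card h.Comp))

include hodd in
theorem z_conj {P : X} {u : G} (hu : u ∈ h.Z P) (g : G) : g * u * g⁻¹ ∈ h.Z (g • P) := by
  refine ⟨h.s2_conj hodd hu.1 g, by rw [conj_pow, hu.2.1, mul_one, mul_inv_cancel], fun x hx => ?_⟩
  have h1 := h.s2_conj hodd hx g⁻¹
  rw [inv_smul_smul, inv_inv] at h1
  have h2 := hu.2.2 _ h1
  calc g * u * g⁻¹ * x = g * (u * (g⁻¹ * x * g)) * g⁻¹ := by group
    _ = g * (g⁻¹ * x * g * u) * g⁻¹ := by rw [h2]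
    _ = x * (g * u * g⁻¹) := by group

include hodd in
theorem z_conj_fix {P : X} {u g : G} (hu : u ∈ h.Z P) (hg : g • P = P) : g * u * g⁻¹ ∈ h.Z P := by
  have := h.z_conj hodd hu g
  rwa [hg] at this

include hodd in
theorem z_ne_bot (P : X) : h.Z P ≠ ⊥ := by
  haveI : Fact (Nat.Prime 2) := ⟨Nat.prime_two⟩
  haveI : Nontrivial (h.S2 P) := (Subgroup.nontrivial_iff_ne_bot _).mpr (h.s2_ne_bot hodd P)
  haveI := (h.isPGroup_s2 P).center_nontrivial
  obtain ⟨⟨⟨u, hu⟩, huc⟩, huo⟩ := exists_prime_orderOf_dvd_card' (G := Subgroup.center (h.S2 P)) 2 (by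
    obtain ⟨n, hn⟩ := ((h.isPGroup_s2 P).to_subgroup (Subgroup.center (h.S2 P))).exists_card_eq
    have : 1 < Nat.card (Subgroup.center (h.S2 P)) := Finite.one_lt_card
    rw [hn] at this ⊢
    exact dvd_pow_self 2 fun e => by simp [e] at this)
  rw [Subgroup.orderOf_mk, Subgroup.orderOf_mk] at huo
  intro e
  have hm : u ∈ h.Z P := ⟨hu, huo ▸ pow_orderOf_eq_one u, fun x hx =>
    (congrArg Subtype.val (Subgroup.mem_center_iff.mp huc ⟨x, hx⟩)).symm⟩
  rw [e, Subgroup.mem_bot] at hm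
  rw [hm, orderOf_one] at huo
  omega

theorem z_comm_ker {P : X} {u e : G} (hu : u ∈ h.Z P) (he : e ∈ h.Ker P) : u * e = e * u := by
  classical
  haveI := h.nilpotent P
  set u' : h.Ker P := ⟨u, h.s2_le_ker P hu.1⟩
  set C := Subgroup.centralizer ({u'} : Set (h.Ker P))
  suffices htop : C = ⊤ by
    have := Subgroup.mem_centralizer_singleton_iff.mp (htop ▸ Subgroup.mem_top (⟨e, he⟩ : h.Ker P) : _ ∈ C)
    exact (congrArg Subtype.val this).symm
  refine Subgroup.eq_top_of_card_eq _ (Nat.dvd_antisymm (Subgroup.card_subgroup_dvd_card C) ?_)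
  refine Nat.dvd_iff_prime_pow_dvd_dvd _ _ |>.mpr fun p j hp hpj => ?_
  haveI := Fact.mk hp
  haveI : Fact (Nat.Prime 2) := ⟨Nat.prime_two⟩
  refine (pow_dvd_pow p ((hp.pow_dvd_iff_le_factorization Nat.card_pos.ne').mp hpj)).trans ?_
  rw [← Sylow.card_eq_multiplicity (default : Sylow p (h.Ker P))]
  refine Subgroup.card_dvd_of_le fun y hy => Subgroup.mem_centralizer_singleton_iff.mpr ?_
  by_cases hp2 : p = 2
  · subst hp2
    exact Subtype.ext (hu.2.2 y ⟨y, hy, rfl⟩).symm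
  · refine (CfsgLib.Frob.commute_of_nilpotent_coprime (a := y) (b := u') ?_).eq
    obtain ⟨i, hi⟩ := IsPGroup.iff_orderOf.mp (default : Sylow p (h.Ker P)).isPGroup' ⟨y, hy⟩
    rw [Subgroup.orderOf_mk] at hi
    rw [hi]
    exact Nat.Coprime.coprime_dvd_right (orderOf_dvd_of_pow_eq_one (Subtype.ext hu.2.1 : u' ^ 2 = 1))
      (((Nat.coprime_primes hp Nat.prime_two).mpr hp2).pow_left i)

theorem cent_stab {P : X} {u x : G} (hu : u ∈ h.Z P) (hu1 : u ≠ 1) (hx : x • P = P) (hc : x * u = u * x) :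
    x ∈ h.Ker P := by
  by_contra hxK
  exact hu1 (h.fpf_at (h.s2_le_ker P hu.1) hx hxK hc)

include hodd in
theorem s2_sylow (P : X) : ∃ T : Sylow 2 G, (T : Subgroup G) = h.S2 P := by
  haveI : Fact (Nat.Prime 2) := ⟨Nat.prime_two⟩
  refine ⟨Sylow.ofCard (h.S2 P) ?_, rfl⟩
  rw [← h.card_sylow hodd (default : Sylow 2 G) P, Sylow.card_eq_multiplicity]

include hodd in
theorem z_fusion {u u' : G} (hu : u ∈ h.Z A) (hu1 : u ≠ 1) (hu' : u' ∈ h.Z A) (hu1' : u' ≠ 1) :
    ∃ x ∈ h.Comp, x * u * x⁻¹ = u' := by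
  haveI : Fact (Nat.Prime 2) := ⟨Nat.prime_two⟩
  haveI : Fintype G := Fintype.ofFinite G
  obtain ⟨t, ht, htA, htB⟩ := h.exists_swap hodd
  obtain ⟨g, hg⟩ := isConj_iff.mp
    ((h.one_class hodd ht htA htB hu.2.1 hu1).trans (h.one_class hodd ht htA htB hu'.2.1 hu1').symm)
  obtain ⟨T, hT⟩ := h.s2_sylow hodd A
  have hfix : ∀ {z : G}, z ∈ h.Z A → ∀ a ∈ (T : Subgroup G), ∀ w ∈ ({z} : Set G), a * w * a⁻¹ ∈ ({z} : Set G) := by
    intro z hz a ha w hw
    rw [Set.mem_singleton_iff] at hw ⊢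
    rw [hw, ← hz.2.2 a (hT ▸ ha), mul_inv_cancel_right]
  obtain ⟨n, hn, hnu⟩ := CfsgLib.Transfer.exists_normalizer_conj_of_normal_subsets T {u} {u'} (hfix hu) (hfix hu')
    (g := g) (by rw [Set.image_singleton, hg])
  rw [Set.image_singleton, Set.singleton_eq_singleton_iff] at hnu
  have hnA : n • A = A := by
    by_contra hne
    obtain ⟨x, hx, hxn⟩ := h.s2_not_fix hodd (P := A) (Q := n • A) (fun e => hne e.symm)
    rw [← hT] at hx
    have := (Subgroup.mem_normalizer_iff.mp (inv_mem hn) x).mp hx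
    rw [hT] at this
    have h2 := ((h.mem_s2 hodd).mp this).1
    rw [inv_inv, mul_smul, mul_smul, inv_smul_eq_iff] at h2
    exact hxn h2
  obtain ⟨e, he, hl⟩ := h.exists_decomp hnA
  refine ⟨e⁻¹ * n, hl, ?_⟩
  have h1 := h.z_comm_ker hu' he
  calc e⁻¹ * n * u * (e⁻¹ * n)⁻¹ = e⁻¹ * (n * u * n⁻¹) * e := by group
    _ = e⁻¹ * (u' * e) := by rw [hnu, mul_assoc]
    _ = u' := by rw [h1, inv_mul_cancel_left]

include hodd in
theorem card_z : Nat.card (h.Z A) = Nat.card h.Comp + 1 := by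
  classical
  obtain ⟨⟨u, hu⟩, hu1⟩ := Subgroup.ne_bot_iff_exists_ne_one.mp (h.z_ne_bot hodd A)
  have hu1' : u ≠ 1 := fun e => hu1 (Subtype.ext e)
  have hset : ((h.Z A : Set G) \ {1}) = Set.range (fun x : h.Comp => (x : G) * u * (x : G)⁻¹) := by
    ext w
    simp only [Set.mem_sdiff, SetLike.mem_coe, Set.mem_singleton_iff, Set.mem_range, Subtype.exists]
    constructor
    · rintro ⟨hw, hw1⟩
      obtain ⟨x, hx, hxe⟩ := h.z_fusion hodd hu hu1' hw hw1
      exact ⟨x, hx, hxe⟩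
    · rintro ⟨x, hx, rfl⟩
      exact ⟨h.z_conj_fix hodd hu hx.1, fun e => hu1' (by rwa [conj_eq_one_iff] at e)⟩
  have hinj : Function.Injective (fun x : h.Comp => (x : G) * u * (x : G)⁻¹) := by
    intro a b e
    simp only at e
    have hc : ((b : G)⁻¹ * a) * u = u * ((b : G)⁻¹ * a) := by
      calc (b : G)⁻¹ * a * u = (b : G)⁻¹ * ((a : G) * u * (a : G)⁻¹) * a := by group
        _ = u * ((b : G)⁻¹ * a) := by rw [e]; group
    by_contra hne
    exact hu1' (h.fpf (h.s2_le_ker A hu.1) (mul_mem (inv_mem b.2) a.2)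
      (fun e' => hne (Subtype.ext (inv_mul_eq_one.mp e').symm)) hc)
  have h1 := Set.ncard_sdiff_singleton_add_one (show (1 : G) ∈ (h.Z A : Set G) from one_mem _) (Set.toFinite _)
  rw [hset, Set.ncard_range_of_injective hinj] at h1
  rw [h1]
  exact Nat.card_coe_set_eq (h.Z A : Set G)

/-- The size of the orbit of the base point under a centraliser. -/
noncomputable def phi0 (_h : Hyp G A B) (u : G) : ℕ :=
  (orbit (Subgroup.centralizer ({u} : Set G)) A).ncard

theorem card_cent {u : G} (hu : u ∈ h.Z A) (hu1 : u ≠ 1) :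
    Nat.card (Subgroup.centralizer ({u} : Set G)) = Nat.card (h.Ker A) * h.phi0 u := by
  set C := Subgroup.centralizer ({u} : Set G)
  have he : (stabilizer C A).map C.subtype = h.Ker A := by
    ext x
    constructor
    · rintro ⟨⟨y, hy⟩, hyA, rfl⟩
      exact h.cent_stab hu hu1 hyA (Subgroup.mem_centralizer_singleton_iff.mp hy)
    · intro hx
      exact ⟨⟨x, Subgroup.mem_centralizer_singleton_iff.mpr (h.z_comm_ker hu hx).symm⟩, (h.mem_ker.mp hx).1, rfl⟩
  rw [phi0, ← index_stabilizer, ← he, Subgroup.card_map_of_injective C.subtype_injective,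
    Subgroup.card_mul_index]

include hodd in
theorem phi0_odd {u : G} (hu : u ∈ h.Z A) (hu1 : u ≠ 1) : Odd (h.phi0 u) := by
  by_contra hev
  rw [Nat.not_odd_iff_even] at hev
  have h1 := Subgroup.card_subgroup_dvd_card (Subgroup.centralizer ({u} : Set G))
  rw [h.card_cent hu hu1, h.card_group, mul_left_comm,
    Nat.mul_dvd_mul_iff_left (Nat.card_pos (α := h.Ker A))] at h1
  exact Nat.not_even_iff_odd.mpr ((h.odd_points hodd).mul hodd)
    (even_iff_two_dvd.mpr (hev.two_dvd.trans h1))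

include hodd in
/-- The class equation at a central involution. -/
theorem central_equation {u : G} (hu : u ∈ h.Z A) (hu1 : u ≠ 1) :
    ∃ (f : ℕ) (z : ℤ), 0 < f ∧ |z| ≤ f ∧ 1 + z ^ 2 ≤ (Nat.card (h.Ker A) * h.phi0 u : ℕ) ∧
      (Nat.card (h.Ker A) : ℤ) * (h.phi0 u : ℤ) ^ 2 * ((f : ℤ) * (f + 1)) =
        (Nat.card X : ℤ) * ((f : ℤ) - z) ^ 2 := by
  haveI : Fintype G := Fintype.ofFinite G
  obtain ⟨t, ht, htA, htB⟩ := h.exists_swap hodd
  obtain ⟨⟨x, hx⟩, hx1⟩ : ∃ x : h.Comp, x ≠ 1 := by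
    haveI : Nontrivial h.Comp := Finite.one_lt_card_iff_nontrivial.mp h.one_lt_comp
    exact exists_ne 1
  obtain ⟨φ, hφ⟩ := exists_hom_ne_one (fun a ha b hb => h.comp_comm hodd ha hb) hx1
  obtain ⟨a, b, f, hf, -, -, -, hall⟩ := h.class_equation hodd (φ := φ)
    (fun e => hφ (by rw [e]; rfl)) ht htA htB
  obtain ⟨z, -, -, hz, hz2, -, heq⟩ := hall u hu.2.1 hu1
  have heq' := heq (h.one_class hodd ht htA htB hu.2.1 hu1)
  rw [h.card_cent hu hu1] at hz2 heq'
  rw [h.card_group] at heq'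
  refine ⟨f, z, hf, hz, hz2, ?_⟩
  have hk : ((Nat.card (h.Ker A) : ℤ) * Nat.card h.Comp) ≠ 0 := by
    have := Nat.card_pos (α := h.Ker A)
    have := Nat.card_pos (α := h.Comp)
    positivity
  push_cast at heq'
  refine mul_left_cancel₀ hk ?_
  linear_combination heq'

include hodd in
theorem central_bound {u : G} (hu : u ∈ h.Z A) (hu1 : u ≠ 1) :
    Nat.card (h.Ker A) * h.phi0 u ^ 2 < 4 * Nat.card X := by
  obtain ⟨f, z, hf, hz, -, heq⟩ := h.central_equation hodd hu hu1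
  have hv : (0 : ℤ) < Nat.card X := by
    haveI : Nonempty X := ⟨A⟩
    exact_mod_cast Nat.card_pos
  have hf' : (0 : ℤ) < f := by exact_mod_cast hf
  obtain ⟨hz1, hz2⟩ := abs_le.mp hz
  have h1 : ((f : ℤ) - z) ^ 2 < 4 * ((f : ℤ) * (f + 1)) := by nlinarith
  have h2 : (Nat.card (h.Ker A) : ℤ) * (h.phi0 u : ℤ) ^ 2 * ((f : ℤ) * (f + 1)) <
      4 * (Nat.card X : ℤ) * ((f : ℤ) * (f + 1)) := by nlinarith
  exact_mod_cast lt_of_mul_lt_mul_right h2 (by positivity)

end Hyp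

end CfsgLib.RankThreeFrob
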