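import Cfsg.Agent.Lib.RankThreeFrob.OddInvert
import Cfsg.Agent.Lib.CharTheory.Irr
import Cfsg.Agent.Lib.CharTheory.Induced
import Cfsg.Agent.Lib.CharTheory.Linear
import Cfsg.Agent.Lib.CharTheory.Integral
import Cfsg.Agent.Lib.Blocks.DefectZeroCount
import Cfsg.Agent.Lib.Frobenius.FixedPointFree

/-!
Odd complement: one class of involutions and the class equation.

Blueprint: `blueprint/S2207.md`.
-/

set_option autoImplicit false
set_option linter.unusedSectionVars false
set_option linter.style.haveILetI false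

namespace CfsgLib.RankThreeFrob

open MulAction Cfsg CfsgLib.CharTheory CfsgLib.Blocks
open scoped Pointwise ComplexConjugate

universe u v

section Chars

variable {G : Type u} [Group G] [Fintype G]

theorem involution_value_int {χ : G → ℂ} (hχ : IsCharacter G χ) {g : G} (hg : g ^ 2 = 1) :
    ∃ z : ℤ, χ g = z := by
  obtain ⟨n, ρ, rfl⟩ := hχ
  rw [character_eq_sum_charRoots]
  suffices hs : ∀ s : Multiset ℂ, (∀ μ ∈ s, μ = 1 ∨ μ = -1) → ∃ z : ℤ, s.sum = z from
    hs _ fun μ hμ => sq_eq_one_iff.mp (by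
      obtain ⟨r, hr⟩ := orderOf_dvd_of_pow_eq_one hg
      rw [hr, pow_mul, pow_eq_one_of_mem_charRoots ρ g hμ, one_pow])
  intro s hs
  induction s using Multiset.induction with
  | empty => exact ⟨0, by simp⟩
  | cons a s ih =>
    obtain ⟨z, hz⟩ := ih fun μ hμ => hs μ (Multiset.mem_cons_of_mem hμ)
    rcases hs a (Multiset.mem_cons_self a s) with e | e
    · exact ⟨1 + z, by simp [hz, e]⟩
    · exact ⟨-1 + z, by simp [hz, e]⟩

/-- A generalised character of norm two with value `-1` at the identity. -/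
theorem exists_irr_sub_irr_neg_one {τ : G → ℂ} (hτ : IsGeneralizedCharacter G τ)
    (hn : classInner τ τ = 2) (h1 : τ 1 = -1) :
    ∃ a b : IrrCharacter G, a ≠ b ∧ τ = (a : G → ℂ) - (b : G → ℂ) := by
  classical
  obtain ⟨hcf, hcoef⟩ := isGenChar_iff_coeff_int.mp hτ
  choose c hc using fun φ : IrrCharacter G => hcoef φ φ.2
  have heq := eq_sum_irr hcf
  simp only [hc] at heq
  have hsq : ∑ φ : IrrCharacter G, c φ * c φ = 2 := by
    have e : (2 : ℂ) = ∑ φ : IrrCharacter G, ((c φ : ℂ) * (c φ : ℂ)) := by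
      rw [← hn]
      conv_lhs => rw [classInner_eq_sum_irr hcf]
      exact Finset.sum_congr rfl fun φ _ => by rw [hc, ← classInner_comm, hc, map_intCast]
    exact_mod_cast e.symm
  set S := Finset.univ.filter fun φ : IrrCharacter G => c φ ≠ 0 with hS
  have hone : ∀ φ ∈ S, c φ = 1 ∨ c φ = -1 := by
    intro φ hφ
    have h2 : c φ * c φ ≤ 2 := hsq ▸
      Finset.single_le_sum (fun i _ => mul_self_nonneg (c i)) (Finset.mem_univ φ)
    have : -2 < c φ ∧ c φ < 2 := ⟨by nlinarith, by nlinarith⟩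
    have h0 := (Finset.mem_filter.mp hφ).2
    omega
  have hcard : S.card = 2 := by
    have e : ∑ φ ∈ S, c φ * c φ = 2 := by
      rw [← hsq]
      exact Finset.sum_filter_of_ne fun φ _ h0 e => h0 (by rw [e, mul_zero])
    rw [Finset.sum_congr rfl fun φ hφ => (by rcases hone φ hφ with e | e <;> rw [e] <;> norm_num :
      c φ * c φ = 1)] at e
    simp at e
    exact_mod_cast e
  obtain ⟨a, b, hab, hSab⟩ := Finset.card_eq_two.mp hcard
  have heq' : τ = (c a : ℂ) • (a : G → ℂ) + (c b : ℂ) • (b : G → ℂ) := by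
    rw [heq, ← Finset.sum_pair hab (f := fun φ : IrrCharacter G => (c φ : ℂ) • (φ : G → ℂ)), ← hSab]
    exact (Finset.sum_filter_of_ne (p := fun φ : IrrCharacter G => c φ ≠ 0)
      fun φ _ h0 e => h0 (by rw [e]; simp)).symm
  obtain ⟨da, hda, hda'⟩ := irr_degree_pos a.2
  obtain ⟨db, hdb, hdb'⟩ := irr_degree_pos b.2
  have e1 : (-1 : ℤ) = c a * da + c b * db := by
    have := congrFun heq' 1
    rw [h1] at this
    simp only [Pi.add_apply, Pi.smul_apply, smul_eq_mul, hda', hdb'] at this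
    exact_mod_cast this
  rcases hone a (hSab ▸ Finset.mem_insert_self a _) with ea | ea <;>
    rcases hone b (hSab ▸ Finset.mem_insert_of_mem (Finset.mem_singleton_self b)) with eb | eb <;>
    rw [ea, eb] at e1
  · omega
  · exact ⟨a, b, hab, by rw [heq', ea, eb]; simp [sub_eq_add_neg]⟩
  · exact ⟨b, a, hab.symm, by rw [heq', ea, eb]; simp [sub_eq_add_neg, add_comm]⟩
  · omega

theorem exists_hom_ne_one {L : Subgroup G} (hL : ∀ a ∈ L, ∀ b ∈ L, a * b = b * a) {x : L} (hx : x ≠ 1) :
    ∃ φ : L →* ℂˣ, φ x ≠ 1 := by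
  letI : CommGroup L := { (inferInstance : Group L) with mul_comm := fun a b => Subtype.ext (hL a a.2 b b.2) }
  exact CommGroup.exists_apply_ne_one_of_hasEnoughRootsOfUnity L ℂ hx

end Chars

variable {G : Type u} {X : Type v} [Group G] [MulAction G X] [Fintype G] [Finite X] {A B : X}

namespace Hyp

variable (h : Hyp G A B)

include h in
/-- An element conjugating a non-trivial element of the complement into it preserves the base pair. -/
theorem conj_into_comp (hodd : Odd (Nat.card h.Comp)) {x y : G} (hx : x ∈ h.Comp) (hx1 : x ≠ 1)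
    (hy : y⁻¹ * x * y ∈ h.Comp) : (y • A = A ∧ y • B = B) ∨ (y • A = B ∧ y • B = A) := by
  have hfix : ∀ P, (y⁻¹ * x * y) • P = P → (y • P = A ∨ y • P = B) := fun P hP => by
    refine h.comp_fix hodd hx hx1 ?_
    rw [mul_smul, mul_smul, inv_smul_eq_iff] at hP
    exact hP
  rcases hfix A hy.1 with hA | hA <;> rcases hfix B hy.2 with hB | hB
  · exact absurd (MulAction.injective y (hA.trans hB.symm)) h.ne.symm
  · exact Or.inl ⟨hA, hB⟩
  · exact Or.inr ⟨hA, hB⟩
  · exact absurd (MulAction.injective y (hA.trans hB.symm)) h.ne.symm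

variable (hodd : Odd (Nat.card h.Comp))

/-- The virtual character `1 - φ` on the complement, induced to the group. -/
noncomputable def excChar (φ : h.Comp →* ℂˣ) : G → ℂ :=
  indFun h.Comp fun x => 1 - (φ x : ℂ)

theorem excChar_one (φ : h.Comp →* ℂˣ) : h.excChar φ 1 = 0 := by
  rw [excChar, indFun_apply_one]; simp

include hodd in
theorem excChar_coe (φ : h.Comp →* ℂˣ) (x : h.Comp) :
    h.excChar φ x = (1 - (φ x : ℂ)) + (1 - (φ x⁻¹ : ℂ)) := by
  classical
  by_cases hx1 : x = 1
  · subst hx1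
    show h.excChar φ 1 = _
    rw [h.excChar_one]; simp
  obtain ⟨t, ht, htA, htB⟩ := h.exists_swap hodd
  have htt : t * t = 1 := by rw [← pow_two, ht]
  have hti : t⁻¹ = t := inv_eq_of_mul_eq_one_right htt
  set F : h.Comp → ℂ := fun x => 1 - (φ x : ℂ)
  have key : ∀ y : G, extendByZero h.Comp F (y⁻¹ * x * y) =
      (if y ∈ h.Comp then F x else 0) + (if t * y ∈ h.Comp then F x⁻¹ else 0) := by
    intro y
    have hx1' : (x : G) ≠ 1 := fun e => hx1 (Subtype.ext e)
    by_cases hy : y ∈ h.Comp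
    · rw [if_pos hy, if_neg fun e => h.ne (htA.symm.trans (by
        have h1 : (t * y) • A = A := e.1
        rw [mul_smul, hy.1] at h1
        exact h1)), add_zero]
      have e : y⁻¹ * (x : G) * y = x := by
        rw [mul_assoc, h.comp_comm hodd x.2 hy, inv_mul_cancel_left]
      rw [e, extendByZero_coe]
    · rw [if_neg hy, zero_add]
      by_cases hty : t * y ∈ h.Comp
      · rw [if_pos hty]
        have e : y⁻¹ * (x : G) * y = ((x⁻¹ : h.Comp) : G) := by
          set s := t * y with hs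
          have ey : y = t * s := by rw [hs, ← mul_assoc, htt, one_mul]
          rw [ey, mul_inv_rev, hti, show s⁻¹ * t * (x : G) * (t * s) = s⁻¹ * (t * x * t) * s by simp [mul_assoc],
            h.swap_inv hodd ht htA htB x.2, mul_assoc, h.comp_comm hodd (inv_mem x.2) hty, inv_mul_cancel_left]
          rfl
        rw [e, extendByZero_coe]
      · rw [if_neg hty]
        refine extendByZero_of_not_mem _ _ fun hmem => ?_
        rcases h.conj_into_comp hodd x.2 hx1' hmem with e | e
        · exact hy e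
        · exact hty ⟨(by rw [mul_smul, e.1, htB] : (t * y) • A = A), (by rw [mul_smul, e.2, htA] : (t * y) • B = B)⟩
  have hc1 : (Finset.univ.filter fun y : G => y ∈ h.Comp).card = Nat.card h.Comp := by
    rw [Nat.card_eq_fintype_card, Fintype.card_subtype]
  have hc2 : (Finset.univ.filter fun y : G => t * y ∈ h.Comp).card = Nat.card h.Comp := by
    rw [← hc1]
    exact Finset.card_equiv (Equiv.mulLeft t) (by simp)
  have hL : (Nat.card h.Comp : ℂ) ≠ 0 := Nat.cast_ne_zero.mpr Nat.card_pos.ne'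
  show indFun h.Comp F x = F x + F x⁻¹
  simp only [indFun, key, Finset.sum_add_distrib, ← Finset.sum_filter, Finset.sum_const, nsmul_eq_mul, hc1, hc2]
  field_simp

theorem excChar_eq_zero (φ : h.Comp →* ℂˣ) {g : G} (hg : ∀ y : G, y⁻¹ * g * y ∉ h.Comp) :
    h.excChar φ g = 0 :=
  indFun_eq_zero_of_not_isConj _ _ hg

include hodd in
theorem excChar_involution (φ : h.Comp →* ℂˣ) {g : G} (hg : g ^ 2 = 1) (hg1 : g ≠ 1) : h.excChar φ g = 0 := by
  refine h.excChar_eq_zero φ fun y hy => hg1 ?_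
  have h2 : (y⁻¹ * g * y) ^ 2 = 1 := by
    rw [show y⁻¹ * g * y = y⁻¹ * g * y⁻¹⁻¹ by rw [inv_inv], conj_pow, hg, mul_one, mul_inv_cancel]
  have h3 : orderOf (y⁻¹ * g * y) = 1 := Nat.eq_one_of_dvd_coprimes
    (Nat.coprime_two_left.mpr hodd) (orderOf_dvd_of_pow_eq_one h2) (Subgroup.orderOf_dvd_natCard _ hy)
  rw [orderOf_eq_one_iff] at h3
  calc g = y * (y⁻¹ * g * y) * y⁻¹ := by group
    _ = 1 := by rw [h3, mul_one, mul_inv_cancel]

include hodd in
/-- The decomposition of the virtual character. -/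
theorem exists_exc_pair {φ : h.Comp →* ℂˣ} (hφ : φ ≠ 1) :
    ∃ a b : IrrCharacter G, ∃ f : ℕ, 0 < f ∧ (a : G → ℂ) 1 = f ∧ (b : G → ℂ) 1 = f + 1 ∧ a ≠ b ∧
      (a : G → ℂ) ≠ (fun _ => 1) ∧ (b : G → ℂ) ≠ (fun _ => 1) ∧
      h.excChar φ = (fun _ => (1 : ℂ)) + ((a : G → ℂ) - (b : G → ℂ)) := by
  classical
  have hφi : (φ⁻¹ : h.Comp →* ℂˣ) ≠ φ := by
    intro e
    refine hφ (MonoidHom.ext fun x => ?_)
    have h1 : φ x * φ x = 1 := by
      nth_rw 1 [← e]
      exact inv_mul_cancel (φ x)
    rw [← pow_two] at h1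
    exact orderOf_eq_one_iff.mp (Nat.eq_one_of_dvd_coprimes (Nat.coprime_two_left.mpr hodd)
      (orderOf_dvd_of_pow_eq_one h1) ((orderOf_map_dvd φ x).trans (orderOf_dvd_natCard x)))
  set o : h.Comp → ℂ := fun _ => 1 with ho
  set l : h.Comp → ℂ := fun x => (φ x : ℂ) with hl
  set l' : h.Comp → ℂ := fun x => ((φ⁻¹ : h.Comp →* ℂˣ) x : ℂ) with hl'
  have io : IsIrrCharacter h.Comp o := isIrrCharacter_one
  have il : IsIrrCharacter h.Comp l := isIrrCharacter_linear φ
  have il' : IsIrrCharacter h.Comp l' := isIrrCharacter_linear φ⁻¹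
  have ne1 : o ≠ l := fun e => hφ (MonoidHom.ext fun x => Units.ext (congrFun e x).symm)
  have ne2 : o ≠ l' := fun e => hφ (by
    refine MonoidHom.ext fun x => ?_
    have h1 : (φ x)⁻¹ = 1 := Units.ext (congrFun e x).symm
    exact inv_eq_one.mp h1)
  have ne3 : l ≠ l' := fun e => hφi (MonoidHom.ext fun x => Units.ext (congrFun e x).symm)
  have hres : (fun x : h.Comp => h.excChar φ x) = (o - l) + (o - l') := by
    funext x
    rw [h.excChar_coe hodd φ x]
    simp [o, l, l', map_inv]
  have hgen : IsGeneralizedCharacter G (h.excChar φ) :=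
    isGenChar_indFun h.Comp ⟨o, l, isCharacter_of_irr io, isCharacter_of_irr il, rfl⟩
  have hcf := indFun_isClassFunction h.Comp (fun x : h.Comp => 1 - (φ x : ℂ))
  have hone : IsClassFunction G (fun _ => (1 : ℂ)) := isClassFunction_one
  have hα : classInner (h.excChar φ) (h.excChar φ) = 3 := by
    rw [excChar, frobenius_reciprocity _ _ hcf]
    show classInner (o - l) (fun x : h.Comp => h.excChar φ x) = 3
    rw [hres, classInner_add_right, classInner_sub_right, classInner_sub_right]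
    simp only [classInner_sub_left, classInner_irr_self io, classInner_irr_self il,
      classInner_irr_ne io il ne1, classInner_irr_ne il io ne1.symm, classInner_irr_ne io il' ne2,
      classInner_irr_ne il il' ne3]
    norm_num
  have hα1 : classInner (h.excChar φ) (fun _ => (1 : ℂ)) = 1 := by
    rw [excChar, frobenius_reciprocity _ _ hone]
    show classInner (o - l) o = 1
    rw [classInner_sub_left, classInner_irr_self io, classInner_irr_ne il io ne1.symm, sub_zero]
  set τ := h.excChar φ - fun _ => (1 : ℂ) with hτ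
  have h11 : classInner (fun _ : G => (1 : ℂ)) (fun _ => (1 : ℂ)) = 1 := classInner_irr_self isIrrCharacter_one
  have h12 : classInner (fun _ : G => (1 : ℂ)) (h.excChar φ) = 1 := by
    rw [← classInner_comm, hα1, map_one]
  have hτn : classInner τ τ = 2 := by
    rw [hτ, classInner_sub_left, classInner_sub_right, classInner_sub_right, hα, hα1, h12, h11]
    norm_num
  obtain ⟨a, b, hab, hτab⟩ := exists_irr_sub_irr_neg_one
    (isGenChar_sub hgen (isGenChar_of_char isCharacter_one)) hτn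
    (by simp [h.excChar_one])
  change τ = _ at hτab
  have hτ1 : classInner τ (fun _ => (1 : ℂ)) = 0 := by
    rw [hτ, classInner_sub_left, hα1, h11, sub_self]
  obtain ⟨f, hf, hf'⟩ := irr_degree_pos a.2
  have e1 := congrFun hτab 1
  simp only [hτ, Pi.sub_apply, h.excChar_one, hf'] at e1
  refine ⟨a, b, f, hf, hf', by linear_combination e1, hab, fun e => ?_, fun e => ?_, ?_⟩
  · rw [hτab, classInner_sub_left, e, h11, classInner_irr_ne b.2 isIrrCharacter_one
      (fun e' => hab (Subtype.ext (e.trans e'.symm)))] at hτ1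
    norm_num at hτ1
  · rw [hτab, classInner_sub_left, e, h11, classInner_irr_ne a.2 isIrrCharacter_one
      (fun e' => hab (Subtype.ext (e'.trans e.symm)))] at hτ1
    norm_num at hτ1
  · rw [← hτab, hτ]; abel

include hodd in
theorem pairCount_comp {t : G} (ht : t ^ 2 = 1) (htA : t • A = B) (htB : t • B = A) {g : G} (hg : g ^ 2 = 1)
    (hg1 : g ≠ 1) {k : G} (hk : k ∈ h.Comp) (hk1 : k ≠ 1) [Decidable (IsConj g t)] :
    pairCount g g k = if IsConj g t then Nat.card h.Comp else 0 := by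
  have htt : t * t = 1 := by rw [← pow_two, ht]
  have hti : t⁻¹ = t := inv_eq_of_mul_eq_one_right htt
  have hinv : ∀ {a : G}, IsConj g a → a ^ 2 = 1 ∧ a ≠ 1 := fun {a} ha => by
    obtain ⟨c, rfl⟩ := isConj_iff.mp ha
    refine ⟨by rw [conj_pow, hg, mul_one, mul_inv_cancel], fun e => hg1 ?_⟩
    calc g = c⁻¹ * (c * g * c⁻¹) * c := by group
      _ = 1 := by rw [e, mul_one, inv_mul_cancel]
  have hswap : ∀ y ∈ h.Comp, IsConj t (t * y) := fun y hy =>
    isConj_iff.mpr (h.swap_conj hodd ht htA htB (w := t * y) (by rw [mul_smul, hy.1, htA]) (by rw [mul_smul, hy.2, htB]))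
  have hmem : ∀ a, IsConj g a → IsConj g (a⁻¹ * k) → t * a ∈ h.Comp := by
    intro a ha hak
    obtain ⟨ha2, ha1⟩ := hinv ha
    obtain ⟨hb2, -⟩ := hinv hak
    have hai : a⁻¹ = a := inv_eq_of_mul_eq_one_right (by rw [← pow_two, ha2])
    rw [hai, pow_two] at hb2
    have e : a⁻¹ * k * a = k⁻¹ := by
      rw [hai]
      exact eq_inv_of_mul_eq_one_left (by simpa [mul_assoc] using hb2)
    rcases h.conj_into_comp hodd hk hk1 (e ▸ inv_mem hk) with he | he
    · exact absurd (orderOf_eq_one_iff.mp (Nat.eq_one_of_dvd_coprimes (Nat.coprime_two_left.mpr hodd)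
        (orderOf_dvd_of_pow_eq_one ha2) (Subgroup.orderOf_dvd_natCard _ (he : a ∈ h.Comp)))) ha1
    · exact ⟨(by rw [mul_smul, he.1, htB] : (t * a) • A = A), (by rw [mul_smul, he.2, htA] : (t * a) • B = B)⟩
  split
  · rename_i hgt
    refine Nat.card_congr ⟨fun a => ⟨t * a.1, hmem a.1 a.2.1 a.2.2⟩,
      fun y => ⟨t * y.1, hgt.trans (hswap _ y.2), ?_⟩, fun a => Subtype.ext ?_, fun y => Subtype.ext ?_⟩
    · have e : (t * (y : G))⁻¹ * k = t * (y * k) := by
        have h1 := h.swap_inv hodd ht htA htB y.2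
        rw [mul_inv_rev, hti, ← h1]
        simp only [mul_assoc]
        rw [← mul_assoc t t k, htt, one_mul]
      rw [e]
      exact hgt.trans (hswap _ (mul_mem y.2 hk))
    · show t * (t * a.1) = a.1
      rw [← mul_assoc, htt, one_mul]
    · show t * (t * y.1) = y.1
      rw [← mul_assoc, htt, one_mul]
  · rename_i hgt
    refine Nat.card_eq_zero.mpr (Or.inl ⟨fun a => hgt (a.2.1.trans ?_)⟩)
    have := hswap _ (hmem a.1 a.2.1 a.2.2)
    rw [← mul_assoc, htt, one_mul] at this
    exact this.symm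

include hodd in
/-- The class equation. -/
theorem class_equation {φ : h.Comp →* ℂˣ} (hφ : φ ≠ 1) {t : G} (ht : t ^ 2 = 1) (htA : t • A = B)
    (htB : t • B = A) :
    ∃ a b : IrrCharacter G, ∃ f : ℕ, 0 < f ∧ (a : G → ℂ) 1 = f ∧ (b : G → ℂ) 1 = f + 1 ∧
      (h.excChar φ = (fun _ => (1 : ℂ)) + ((a : G → ℂ) - (b : G → ℂ))) ∧
      ∀ g : G, g ^ 2 = 1 → g ≠ 1 → ∃ z : ℤ, (a : G → ℂ) g = z ∧ (b : G → ℂ) g = z + 1 ∧
        |z| ≤ f ∧ 1 + z ^ 2 ≤ Nat.card (Subgroup.centralizer ({g} : Set G)) ∧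
        (¬ IsConj g t → z = f) ∧
        (IsConj g t → (Nat.card h.Comp : ℤ) * (Nat.card (Subgroup.centralizer ({g} : Set G)) : ℤ) ^ 2 *
          ((f : ℤ) * (f + 1)) = (Nat.card G : ℤ) * ((f : ℤ) - z) ^ 2) := by
  classical
  obtain ⟨a, b, f, hf, ha1, hb1, hab, hane, hbne, hα⟩ := h.exists_exc_pair hodd hφ
  refine ⟨a, b, f, hf, ha1, hb1, hα, fun g hg hg1 => ?_⟩
  obtain ⟨z, hz⟩ := involution_value_int (isCharacter_of_irr a.2) hg
  have hbg : (b : G → ℂ) g = z + 1 := by
    have := congrFun hα g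
    rw [h.excChar_involution hodd φ hg hg1] at this
    simp only [Pi.add_apply, Pi.sub_apply, hz] at this
    linear_combination this
  set i : IrrCharacter G := ⟨fun _ => 1, isIrrCharacter_one⟩ with hi
  have hia : i ≠ a := fun e => hane (congrArg Subtype.val e).symm
  have hib : i ≠ b := fun e => hbne (congrArg Subtype.val e).symm
  have hcoef : ∀ χ : IrrCharacter G, classInner (h.excChar φ) (χ : G → ℂ) =
      (if χ = i then 1 else 0) + ((if χ = a then 1 else 0) - (if χ = b then 1 else 0)) := by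
    intro χ
    have e : ∀ ψ : IrrCharacter G, classInner (ψ : G → ℂ) (χ : G → ℂ) = if χ = ψ then 1 else 0 := fun ψ => by
      split
      · rename_i e; rw [e]; exact classInner_irr_self ψ.2
      · rename_i e; exact classInner_irr_ne ψ.2 χ.2 fun e' => e (Subtype.ext e').symm
    rw [hα, classInner_add_left, classInner_sub_left, e a, e b]
    exact congrArg (· + _) (e i)
  set C := Nat.card (Subgroup.centralizer ({g} : Set G)) with hC
  have hCpos : (C : ℂ) ≠ 0 := Nat.cast_ne_zero.mpr Nat.card_pos.ne'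
  set N := (Subgroup.centralizer ({g} : Set G)).index with hN
  have hNpos : (N : ℂ) ≠ 0 := Nat.cast_ne_zero.mpr Subgroup.index_ne_zero_of_finite
  have hGC : (Nat.card G : ℂ) = C * N := by rw [hC, hN, ← Nat.cast_mul, Subgroup.card_mul_index]
  set c0 : ℂ := (if IsConj g t then (Nat.card h.Comp : ℂ) else 0) * C with hc0
  have hpt : ∀ k : G, h.excChar φ k * ((pairCount g g k : ℂ) * C) = h.excChar φ k * c0 := by
    intro k
    by_cases hk : ∃ y : G, y⁻¹ * k * y ∈ h.Comp
    · obtain ⟨y, hy⟩ := hk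
      by_cases hk1 : k = 1
      · rw [hk1, h.excChar_one, zero_mul, zero_mul]
      congr 1
      have hconj : IsConj k (y⁻¹ * k * y) := isConj_iff.mpr ⟨y⁻¹, by rw [inv_inv]⟩
      have hsame : (pairCount g g k : ℂ) * C = (pairCount g g (y⁻¹ * k * y) : ℂ) * C := by
        rw [hC, pairCount_mul, pairCount_mul]
        refine Finset.sum_congr rfl fun χ _ => ?_
        rw [isClassFunction_iff_isConj.mp (isClassFunction_irr χ.2) _ _ hconj]
      rw [hsame, h.pairCount_comp hodd ht htA htB hg hg1 hy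
        (fun e => hk1 (by
          calc k = y * (y⁻¹ * k * y) * y⁻¹ := by group
            _ = 1 := by rw [e, mul_one, mul_inv_cancel])), hc0]
      split <;> simp
    · push Not at hk
      rw [h.excChar_eq_zero φ hk, zero_mul, zero_mul]
  have hsumα : ∑ k : G, h.excChar φ k = (Nat.card G : ℂ) := by
    have h1 := hcoef i
    rw [if_pos rfl, if_neg hia, if_neg hib, sub_zero, add_zero, classInner] at h1
    have h2 : ∑ k : G, h.excChar φ k * conj ((i : G → ℂ) k) = ∑ k : G, h.excChar φ k :=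
      Finset.sum_congr rfl fun k _ => by simp [hi]
    rw [h2, inv_mul_eq_one₀ (Nat.cast_ne_zero.mpr Nat.card_pos.ne')] at h1
    exact h1.symm
  have hsum : ∀ χ : IrrCharacter G, ∑ k : G, h.excChar φ k * conj ((χ : G → ℂ) k) =
      (Nat.card G : ℂ) * classInner (h.excChar φ) (χ : G → ℂ) := fun χ => by
    rw [classInner, ← mul_assoc, mul_inv_cancel₀ (Nat.cast_ne_zero.mpr Nat.card_pos.ne'), one_mul]
  have hmain : (Nat.card G : ℂ) * c0 =
      (Nat.card G : ℂ) * N * (1 + ((z : ℂ) * z / f - ((z : ℂ) + 1) * (z + 1) / (f + 1))) := by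
    calc (Nat.card G : ℂ) * c0 = ∑ k : G, h.excChar φ k * c0 := by rw [← Finset.sum_mul, hsumα]
      _ = ∑ k : G, ∑ χ : IrrCharacter G,
          h.excChar φ k * (clv g χ * ((χ : G → ℂ) g * conj ((χ : G → ℂ) k))) := by
          refine Finset.sum_congr rfl fun k _ => ?_
          rw [← hpt k, hC, pairCount_mul, Finset.mul_sum]
      _ = ∑ χ : IrrCharacter G, clv g χ * (χ : G → ℂ) g *
          ((Nat.card G : ℂ) * classInner (h.excChar φ) (χ : G → ℂ)) := by
          rw [Finset.sum_comm]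
          refine Finset.sum_congr rfl fun χ _ => ?_
          rw [← hsum χ, Finset.mul_sum]
          exact Finset.sum_congr rfl fun k _ => by ring
      _ = _ := by
          simp only [hcoef, mul_add, mul_sub, mul_ite, mul_one, mul_zero, Finset.sum_add_distrib,
            Finset.sum_sub_distrib, Finset.sum_ite_eq', Finset.mem_univ, if_true]
          simp only [clv, Cfsg.centralChar, ← hN, hz, hbg, ha1, hb1, hi]
          ring
  have hfc : (f : ℂ) ≠ 0 := Nat.cast_ne_zero.mpr hf.ne'
  have hfc1 : (f : ℂ) + 1 ≠ 0 := by exact_mod_cast Nat.succ_ne_zero f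
  have hkey : c0 * ((f : ℂ) * (f + 1)) = N * ((f : ℂ) - z) ^ 2 := by
    rw [mul_assoc] at hmain
    rw [mul_left_cancel₀ (Nat.cast_ne_zero.mpr Nat.card_pos.ne') hmain]
    field_simp
    ring
  refine ⟨z, hz, hbg, ?_, ?_, fun hng => ?_, fun hgt => ?_⟩
  · have h1 := norm_char_le (isCharacter_of_irr a.2) g
    rw [hz, ha1, Complex.norm_intCast, Complex.norm_natCast] at h1
    exact_mod_cast h1
  · have h1 := sum_irr_mul_conj g g
    rw [if_pos (IsConj.refl g)] at h1
    have h2 : (C : ℝ) = ∑ χ : IrrCharacter G, ‖(χ : G → ℂ) g‖ ^ 2 := by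
      have h3 := congrArg Complex.re h1
      rw [Complex.natCast_re, Complex.re_sum] at h3
      rw [← h3]
      refine Finset.sum_congr rfl fun χ _ => ?_
      rw [Complex.mul_conj, Complex.ofReal_re, Complex.normSq_eq_norm_sq]
    have h3 : ∑ χ ∈ ({i, a} : Finset (IrrCharacter G)), ‖(χ : G → ℂ) g‖ ^ 2 ≤ (C : ℝ) := h2 ▸
      Finset.sum_le_sum_of_subset_of_nonneg (Finset.subset_univ _) (fun _ _ _ => sq_nonneg _)
    rw [Finset.sum_pair hia, hz, Complex.norm_intCast, sq_abs, show (i : G → ℂ) g = 1 from rfl, norm_one,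
      one_pow] at h3
    exact_mod_cast h3
  · rw [hc0, if_neg hng, zero_mul, zero_mul] at hkey
    have h0 := (mul_eq_zero.mp hkey.symm).resolve_left hNpos
    rw [sq_eq_zero_iff, sub_eq_zero] at h0
    exact_mod_cast h0.symm
  · rw [hc0, if_pos hgt] at hkey
    have h0 : ((Nat.card h.Comp : ℂ) * (C : ℂ) ^ 2 * ((f : ℂ) * (f + 1))) = (Nat.card G : ℂ) * ((f : ℂ) - z) ^ 2 := by
      rw [hGC]; linear_combination (C : ℂ) * hkey
    exact_mod_cast h0

include h hodd in
/-- There is one class of involutions. -/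
theorem one_class {t : G} (ht : t ^ 2 = 1) (htA : t • A = B) (htB : t • B = A) {g : G} (hg : g ^ 2 = 1)
    (hg1 : g ≠ 1) : IsConj g t := by
  classical
  by_contra hng
  have htt : t * t = 1 := by rw [← pow_two, ht]
  set R := Subgroup.normalClosure {w : G | w ^ 2 = 1 ∧ w ≠ 1 ∧ ¬ IsConj w t} with hR
  haveI : R.Normal := Subgroup.normalClosure_normal
  have hgR : g ∈ R := Subgroup.subset_normalClosure ⟨hg, hg1, hng⟩
  have hRL : ∀ r ∈ R, r ∈ h.Comp → r = 1 := by
    intro r hr hrL
    by_contra hr1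
    obtain ⟨φ, hφ⟩ := exists_hom_ne_one (fun a ha b hb => h.comp_comm hodd ha hb)
      (x := (⟨r, hrL⟩ : h.Comp)) (fun e => hr1 (congrArg Subtype.val e))
    obtain ⟨a, b, f, hf, ha1, hb1, hα, hall⟩ := h.class_equation hodd
      (φ := φ) (fun e => hφ (by rw [e]; rfl)) ht htA htB
    haveI := charKernel_normal (a : G → ℂ) (isCharacter_of_irr a.2)
    haveI := charKernel_normal (b : G → ℂ) (isCharacter_of_irr b.2)
    have hle : R ≤ charKernel (a : G → ℂ) (isCharacter_of_irr a.2) ⊓ charKernel (b : G → ℂ) (isCharacter_of_irr b.2) := by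
      refine Subgroup.normalClosure_le_normal fun w hw => ?_
      obtain ⟨z, hz, hz', -, -, hne, -⟩ := hall w hw.1 hw.2.1
      have hzf := hne hw.2.2
      refine ⟨(mem_charKernel _ w).mpr ?_, (mem_charKernel _ w).mpr ?_⟩
      · rw [hz, ha1, hzf]; simp
      · rw [hz', hb1, hzf]; simp
    have h0 := congrFun hα r
    simp only [Pi.add_apply, Pi.sub_apply] at h0
    rw [(mem_charKernel _ r).mp (hle hr).1, (mem_charKernel _ r).mp (hle hr).2, ha1, hb1,
      h.excChar_coe hodd φ ⟨r, hrL⟩, map_inv, Units.val_inv_eq_inv_val] at h0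
    set w : ℂ := (φ ⟨r, hrL⟩ : ℂ) with hw
    have hw0 : w ≠ 0 := Units.ne_zero _
    refine hφ (Units.ext (sub_eq_zero.mp (pow_eq_zero_iff (n := 2) two_ne_zero |>.mp ?_)))
    show (w - 1) ^ 2 = 0
    field_simp at h0
    linear_combination -h0
  obtain ⟨p, hp, hpL⟩ := Nat.exists_prime_and_dvd (n := Nat.card h.Comp) (by have := h.one_lt_comp; omega)
  haveI := Fact.mk hp
  obtain ⟨⟨x, hx⟩, hxp⟩ := exists_prime_orderOf_dvd_card' (G := h.Comp) p hpL
  rw [Subgroup.orderOf_mk] at hxp
  have hx1 : x ≠ 1 := fun e => hp.ne_one (by rw [← hxp, e, orderOf_one])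
  have hx2 : x * x ≠ 1 := fun e => hx1 (orderOf_eq_one_iff.mp (Nat.eq_one_of_dvd_coprimes
    (Nat.coprime_two_left.mpr hodd) (orderOf_dvd_of_pow_eq_one (by rw [pow_two, e]))
    (Subgroup.orderOf_dvd_natCard _ hx)))
  have hfpf : ∀ r ∈ R, x * r = r * x → r = 1 := by
    intro r hr hc
    have hmem : r⁻¹ * x * r ∈ h.Comp := by rw [mul_assoc, hc, inv_mul_cancel_left]; exact hx
    rcases h.conj_into_comp hodd hx hx1 hmem with e | e
    · exact hRL r hr e
    · exfalso
      have hsL : t * r ∈ h.Comp := ⟨(by rw [mul_smul, e.1, htB] : (t * r) • A = A), (by rw [mul_smul, e.2, htA] : (t * r) • B = B)⟩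
      have h1 := h.comp_comm hodd hx hsL
      have h2 := h.swap_inv hodd ht htA htB hx
      apply hx2
      have h3 : r * x = x⁻¹ * r := by
        calc r * x = (t * t) * r * x := by rw [htt, one_mul]
          _ = t * ((t * r) * x) := by simp [mul_assoc]
          _ = t * (x * (t * r)) := by rw [h1]
          _ = (t * x * t) * r := by simp [mul_assoc]
          _ = x⁻¹ * r := by rw [h2]
      rw [← hc] at h3
      have h4 := mul_right_cancel h3
      nth_rw 2 [h4]
      exact mul_inv_cancel x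
  set φx : R ≃* R := MulAut.conjNormal x with hφx
  have hφfpf : MonoidHom.FixedPointFree (φx : R →* R) := fun r hr => by
    refine Subtype.ext (hfpf r r.2 ?_)
    have h1 : x * (r : G) * x⁻¹ = r := congrArg Subtype.val hr
    exact mul_inv_eq_iff_eq_mul.mp h1
  have hord : orderOf φx = p := by
    refine (orderOf_eq_prime (x := φx) ?_ fun e => hg1 ?_)
    · rw [hφx, ← map_pow, ← hxp, pow_orderOf_eq_one, map_one]
    · exact congrArg Subtype.val (hφfpf (⟨g, hgR⟩ : R) (by rw [e]; rfl))
  haveI := CfsgLib.Frob.isNilpotent_of_fpf_prime φx hφfpf hp hord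
  set S : Sylow 2 R := default
  haveI : (S : Subgroup R).Characteristic := Sylow.characteristic_of_normal S inferInstance
  set Sg := (S : Subgroup R).map R.subtype
  haveI : Sg.Normal := inferInstance
  obtain ⟨P, hP⟩ := h.fix_point hodd (T := Sg) (S.isPGroup'.map _)
  have hgS : g ∈ Sg := by
    refine ⟨⟨g, hgR⟩, ?_, rfl⟩
    obtain ⟨T, hT⟩ := (IsPGroup.of_card (n := 1) (by
      rw [Nat.card_zpowers, pow_one]
      exact orderOf_eq_prime (Subtype.ext hg) fun e => hg1 (congrArg Subtype.val e)) :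
      IsPGroup 2 (Subgroup.zpowers (⟨g, hgR⟩ : R))).exists_le_sylow
    obtain ⟨c, hc⟩ := MulAction.exists_smul_eq R S T
    rw [Sylow.smul_eq_of_normal] at hc
    exact hc ▸ hT (Subgroup.mem_zpowers _)
  haveI := h.faithful
  refine hg1 (eq_of_smul_eq_smul (α := X) fun Q => ?_)
  rw [one_smul]
  obtain ⟨y, rfl⟩ := h.trans' P Q
  have := hP _ (Subgroup.Normal.conj_mem inferInstance g hgS y⁻¹)
  rw [inv_inv, mul_smul, mul_smul, inv_smul_eq_iff] at this
  exact this

end Hyp

end CfsgLib.RankThreeFrob
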