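import Cfsg.Agent.Lib.RankThreeFrob.OddBase
import Cfsg.Agent.Lib.Coprime

/-!
Odd complement: an involution swapping the two base points inverts the complement.

Blueprint: `blueprint/S2207.md`.
-/

set_option autoImplicit false
set_option linter.unusedSectionVars false
set_option linter.style.haveILetI false

namespace CfsgLib.RankThreeFrob

open MulAction
open scoped Pointwise commutatorElement

universe u v

/-- An involution fixing a non-trivial element of a cyclic group of odd prime power order fixes all of it. -/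
theorem centralizes_cyclic {G : Type u} [Group G] [Finite G] {p : ℕ} [Fact p.Prime] (hp2 : p ≠ 2) {P : Subgroup G}
    (hpP : IsPGroup p P) (hu : CfsgLib.Frob.UniqSub p P) {t : G} (ht : t ^ 2 = 1)
    (hnorm : ∀ x ∈ P, t * x * t ∈ P) {c : G} (hc : c ∈ P) (hc1 : c ≠ 1) (htc : t * c * t = c) :
    ∀ x ∈ P, t * x * t = x := by
  have hp : p.Prime := Fact.out
  have htt : t * t = 1 := by rw [← pow_two, ht]
  have htinv : t⁻¹ = t := inv_eq_of_mul_eq_one_right htt
  haveI := CfsgLib.Frob.isCyclic_of_uniq_odd hp2 hpP hu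
  have hcomm : ∀ a ∈ P, ∀ b ∈ P, a * b = b * a := fun a ha b hb =>
    congrArg Subtype.val ((IsCyclic.commGroup (α := P)).mul_comm ⟨a, ha⟩ ⟨b, hb⟩)
  intro x hx
  by_contra hne
  set w := x⁻¹ * (t * x * t) with hw
  have hwP : w ∈ P := mul_mem (inv_mem hx) (hnorm x hx)
  have hw1 : w ≠ 1 := fun e => hne (by rw [hw, inv_mul_eq_one] at e; exact e.symm)
  have hwinv : t * w * t⁻¹ = w⁻¹ := by
    rw [hw, htinv, mul_inv_rev, inv_inv, hcomm _ (inv_mem (hnorm x hx)) _ hx]
    calc t * (x⁻¹ * (t * x * t)) * t = t * x⁻¹ * t * x * (t * t) := by simp [mul_assoc]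
      _ = (t * x * t)⁻¹ * x := by rw [htt, mul_one, mul_inv_rev, mul_inv_rev, htinv]; simp [mul_assoc]
      _ = x * (t * x * t)⁻¹ := hcomm _ (inv_mem (hnorm x hx)) _ hx
  obtain ⟨w', hw'z, hw'⟩ : ∃ w' ∈ Subgroup.zpowers w, orderOf w' = p := by
    obtain ⟨n, hn⟩ := IsPGroup.iff_orderOf.mp hpP ⟨w, hwP⟩
    rw [Subgroup.orderOf_mk] at hn
    obtain ⟨⟨a, haz⟩, ha⟩ := exists_prime_orderOf_dvd_card' (G := Subgroup.zpowers w) p (by
      rw [Nat.card_zpowers, hn]
      exact dvd_pow_self p fun e => hw1 (orderOf_eq_one_iff.mp (by rw [hn, e, pow_zero])))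
    exact ⟨a, haz, by rwa [Subgroup.orderOf_mk] at ha⟩
  obtain ⟨c', hc'z, hc'⟩ : ∃ c' ∈ Subgroup.zpowers c, orderOf c' = p := by
    obtain ⟨n, hn⟩ := IsPGroup.iff_orderOf.mp hpP ⟨c, hc⟩
    rw [Subgroup.orderOf_mk] at hn
    obtain ⟨⟨a, haz⟩, ha⟩ := exists_prime_orderOf_dvd_card' (G := Subgroup.zpowers c) p (by
      rw [Nat.card_zpowers, hn]
      exact dvd_pow_self p fun e => hc1 (orderOf_eq_one_iff.mp (by rw [hn, e, pow_zero])))
    exact ⟨a, haz, by rwa [Subgroup.orderOf_mk] at ha⟩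
  have hw'P : w' ∈ P := (Subgroup.zpowers_le.mpr hwP) hw'z
  have hc'P : c' ∈ P := (Subgroup.zpowers_le.mpr hc) hc'z
  obtain ⟨i, hi⟩ := hu.mem (y := ⟨c', hc'P⟩) (z := ⟨w', hw'P⟩)
    (Subtype.ext (by show c' ^ p = 1; rw [← hc', pow_orderOf_eq_one]))
    (by rw [Subgroup.orderOf_mk]; exact hw')
  have hi' : w' ^ i = c' := congrArg Subtype.val hi
  obtain ⟨j, hj⟩ := hw'z
  obtain ⟨r, hr⟩ := hc'z
  simp only at hj hr
  have h1 : t * w' * t⁻¹ = w'⁻¹ := by rw [← hj, ← conj_zpow, hwinv, inv_zpow]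
  have h2 : t * c' * t⁻¹ = c' := by
    rw [← hr, ← conj_zpow]
    congr 1
    rwa [htinv]
  rw [← hi', ← conj_zpow, h1, inv_zpow, hi'] at h2
  have h3 : c' ^ 2 = 1 := by
    rw [pow_two]; nth_rw 1 [← h2]; exact inv_mul_cancel c'
  have h4 := orderOf_dvd_of_pow_eq_one h3
  rw [hc'] at h4
  exact hp2 ((Nat.prime_dvd_prime_iff_eq hp Nat.prime_two).mp h4)

variable {G : Type u} {X : Type v} [Group G] [MulAction G X] [Finite G] [Finite X] {A B : X}

namespace Hyp

variable (h : Hyp G A B)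

include h in
theorem isZGroup_comp (hodd : Odd (Nat.card h.Comp)) : IsZGroup h.Comp := by
  refine ⟨fun p hp P => ?_⟩
  haveI := Fact.mk hp
  by_cases hpd : p ∣ Nat.card h.Comp
  · have hpk : ¬ p ∣ Nat.card (h.Ker A) := fun hd => hp.not_dvd_one (h.coprime ▸ Nat.dvd_gcd hd hpd)
    have hu := h.uniq_sub hpk (P := (P : Subgroup h.Comp).map h.Comp.subtype)
      ((Subgroup.map_subtype_le _).trans inf_le_left) (P.isPGroup'.map _)
    have := CfsgLib.Frob.isCyclic_of_uniq_odd (fun e : p = 2 => Nat.not_even_iff_odd.mpr hodd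
      (even_iff_two_dvd.mpr (e ▸ hpd))) (P.isPGroup'.map _) hu
    exact isCyclic_of_surjective
      ((P : Subgroup h.Comp).equivMapOfInjective _ h.Comp.subtype_injective).symm
      ((P : Subgroup h.Comp).equivMapOfInjective _ h.Comp.subtype_injective).symm.surjective
  · have h1 : Nat.card (P : Subgroup h.Comp) = 1 := by
      rw [Sylow.card_eq_multiplicity, Nat.factorization_eq_zero_of_not_dvd hpd, pow_zero]
    haveI := (Nat.card_eq_one_iff_unique.mp h1).1
    exact isCyclic_of_subsingleton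

include h in
/-- If `t` centralises a non-trivial element of the complement, it centralises a Sylow subgroup with
normaliser equal to centraliser there. -/
theorem exists_centralized_sylow (hodd : Odd (Nat.card h.Comp)) {t : G} (ht : t ^ 2 = 1)
    (htA : t • A = B) (htB : t • B = A) {c : G} (hc : c ∈ h.Comp) (hc1 : c ≠ 1) (hct : t * c = c * t) :
    ∃ p : ℕ, p.Prime ∧ p ≠ 2 ∧ ∃ P : Subgroup G, P ≤ h.Comp ∧ P ≠ ⊥ ∧ IsPGroup p P ∧
      (∃ n, Nat.card P = p ^ n ∧ ¬ p ^ (n + 1) ∣ Nat.card h.Comp) ∧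
      (∀ x ∈ P, t * x = x * t) ∧
      ∀ g ∈ h.Comp, (∀ x ∈ P, g * x * g⁻¹ ∈ P) → ∀ x ∈ P, g * x = x * g := by
  have htt : t * t = 1 := by rw [← pow_two, ht]
  have htinv : t⁻¹ = t := inv_eq_of_mul_eq_one_right htt
  have hnorm : ∀ x ∈ h.Comp, t * x * t ∈ h.Comp := fun x hx =>
    ⟨(by rw [mul_smul, mul_smul, htA, hx.2, htB] : (t * x * t) • A = A),
      (by rw [mul_smul, mul_smul, htB, hx.1, htA] : (t * x * t) • B = B)⟩
  have hne2 : ∀ p : ℕ, p ∣ Nat.card h.Comp → p ≠ 2 := fun p hd e =>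
    Nat.not_even_iff_odd.mpr hodd (even_iff_two_dvd.mpr (e ▸ hd))
  -- one Sylow subgroup: transport of cardinality
  have hsyl : ∀ p : ℕ, p.Prime → ∀ P : Sylow p h.Comp,
      ∃ n, Nat.card ((P : Subgroup h.Comp).map h.Comp.subtype) = p ^ n ∧
        ¬ p ^ (n + 1) ∣ Nat.card h.Comp := fun p hp P => by
    haveI := Fact.mk hp
    refine ⟨(Nat.card h.Comp).factorization p, ?_,
      Nat.pow_succ_factorization_not_dvd Nat.card_pos.ne' hp⟩
    rw [Subgroup.card_map_of_injective h.Comp.subtype_injective, Sylow.card_eq_multiplicity]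
  have hsne : ∀ p : ℕ, p.Prime → p ∣ Nat.card h.Comp → ∀ P : Sylow p h.Comp,
      (P : Subgroup h.Comp).map h.Comp.subtype ≠ ⊥ := fun p hp hpd P e => by
    haveI := Fact.mk hp
    rw [Subgroup.map_eq_bot_iff_of_injective _ h.Comp.subtype_injective] at e
    exact P.ne_bot_of_dvd_card hpd e
  by_cases hab : ∀ a ∈ h.Comp, ∀ b ∈ h.Comp, a * b = b * a
  · obtain ⟨p, hp, hpd⟩ := Nat.exists_prime_and_dvd (n := orderOf c) (fun e => hc1 (orderOf_eq_one_iff.mp e))
    haveI := Fact.mk hp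
    have hpL : p ∣ Nat.card h.Comp := hpd.trans (Subgroup.orderOf_dvd_natCard _ hc)
    obtain ⟨⟨d, hdz⟩, hd⟩ := exists_prime_orderOf_dvd_card' (G := Subgroup.zpowers c) p
      (by rwa [Nat.card_zpowers])
    rw [Subgroup.orderOf_mk] at hd
    have hdL : d ∈ h.Comp := (Subgroup.zpowers_le.mpr hc) hdz
    have hdt : t * d * t = d := by
      obtain ⟨i, rfl⟩ := hdz
      show t * c ^ i * t = c ^ i
      rw [((show Commute t c from hct).zpow_right i).eq, mul_assoc, htt, mul_one]
    haveI : IsMulCommutative h.Comp := ⟨⟨fun a b => Subtype.ext (hab a a.2 b b.2)⟩⟩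
    obtain ⟨P, hP⟩ := (IsPGroup.of_card (n := 1) (by rw [Nat.card_zpowers, Subgroup.orderOf_mk, hd, pow_one]) :
      IsPGroup p (Subgroup.zpowers (⟨d, hdL⟩ : h.Comp))).exists_le_sylow
    set Pg := (P : Subgroup h.Comp).map h.Comp.subtype with hPg
    have hPgL : Pg ≤ h.Comp := Subgroup.map_subtype_le _
    have htP : ∀ x ∈ Pg, t * x * t ∈ Pg := by
      intro x hx
      obtain ⟨n, hn⟩ := P.isPGroup'.map h.Comp.subtype ⟨x, hx⟩
      have hy : (⟨t * x * t, hnorm x (hPgL hx)⟩ : h.Comp) ^ p ^ n = 1 := Subtype.ext (by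
        show (t * x * t) ^ p ^ n = 1
        nth_rw 2 [← htinv]
        rw [conj_pow, show x ^ p ^ n = 1 from congrArg Subtype.val hn, mul_one, mul_inv_cancel])
      obtain ⟨j, -, hj⟩ := (Nat.dvd_prime_pow hp).mp (orderOf_dvd_of_pow_eq_one hy)
      obtain ⟨Q, hQ⟩ := (IsPGroup.of_card (n := j) (by rw [Nat.card_zpowers, hj]) :
        IsPGroup p (Subgroup.zpowers (⟨t * x * t, hnorm x (hPgL hx)⟩ : h.Comp))).exists_le_sylow
      obtain ⟨g, hg⟩ := MulAction.exists_smul_eq h.Comp P Q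
      rw [Sylow.smul_eq_of_normal] at hg
      exact ⟨_, hg ▸ hQ (Subgroup.mem_zpowers _), rfl⟩
    have hpk : ¬ p ∣ Nat.card (h.Ker A) := fun hd => hp.not_dvd_one (h.coprime ▸ Nat.dvd_gcd hd hpL)
    have hcen := centralizes_cyclic (hne2 p hpL) (P.isPGroup'.map _)
      (h.uniq_sub hpk (hPgL.trans inf_le_left) (P.isPGroup'.map _)) ht htP
      (c := d) ⟨_, hP (Subgroup.mem_zpowers _), rfl⟩ (fun e => hp.ne_one (by rw [← hd, e, orderOf_one])) hdt
    refine ⟨p, hp, hne2 p hpL, Pg, hPgL, hsne p hp hpL P, P.isPGroup'.map _, hsyl p hp P, fun x hx => ?_,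
      fun g hg _ x hx => hab g hg x (hPgL hx)⟩
    conv_rhs => rw [← hcen x hx]
    rw [mul_assoc (t * x) t t, htt, mul_one]
  · haveI := h.isZGroup_comp hodd
    haveI hDc : IsCyclic (commutator h.Comp) := IsZGroup.isCyclic_commutator h.Comp
    have hcop := IsZGroup.coprime_commutator_index (G := h.Comp)
    have hDcomm : ∀ a ∈ commutator h.Comp, ∀ b ∈ commutator h.Comp, a * b = b * a := fun a ha b hb =>
      congrArg Subtype.val ((IsCyclic.commGroup (α := commutator h.Comp)).mul_comm ⟨a, ha⟩ ⟨b, hb⟩)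
    set C0 := Subgroup.centralizer (commutator h.Comp : Set h.Comp) with hC0
    have hC0top : C0 ≠ ⊤ := by
      intro e
      obtain ⟨T, hT⟩ := Subgroup.exists_right_complement'_of_coprime hcop
      have hcent : ∀ x, ∀ d ∈ commutator h.Comp, d * x = x * d := fun x d hd =>
        Subgroup.mem_centralizer_iff.mp (e ▸ Subgroup.mem_top x : x ∈ C0) d hd
      have hTc : ∀ a ∈ T, ∀ b ∈ T, a * b = b * a := fun a ha b hb =>
        commutatorElement_eq_one_iff_mul_comm.mp (Subgroup.disjoint_def.mp hT.disjoint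
          (Subgroup.commutator_mem_commutator (Subgroup.mem_top a) (Subgroup.mem_top b))
          (by rw [commutatorElement_def]; exact mul_mem (mul_mem (mul_mem ha hb) (inv_mem ha)) (inv_mem hb)))
      refine hab fun a ha b hb => congrArg Subtype.val (?_ : (⟨a, ha⟩ : h.Comp) * ⟨b, hb⟩ = ⟨b, hb⟩ * ⟨a, ha⟩)
      obtain ⟨⟨⟨d, hd⟩, ⟨s, hs⟩⟩, e1⟩ := hT.2 ⟨a, ha⟩
      obtain ⟨⟨⟨d', hd'⟩, ⟨s', hs'⟩⟩, e2⟩ := hT.2 ⟨b, hb⟩
      rw [← e1, ← e2]
      show d * s * (d' * s') = d' * s' * (d * s)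
      rw [← mul_assoc (d * s), mul_assoc d, ← hcent s d' hd', ← mul_assoc, hDcomm d hd d' hd', mul_assoc,
        hTc s hs s' hs', ← mul_assoc (d' * s'), mul_assoc d' s' d, ← hcent s' d hd]
      simp [mul_assoc]
    obtain ⟨p, hp, hpd⟩ := Nat.exists_prime_and_dvd (n := C0.index) (fun e => hC0top (Subgroup.index_eq_one.mp e))
    haveI := Fact.mk hp
    have hpL : p ∣ Nat.card h.Comp := hpd.trans (Subgroup.index_dvd_card C0)
    have hpk : ¬ p ∣ Nat.card (h.Ker A) := fun hd => hp.not_dvd_one (h.coprime ▸ Nat.dvd_gcd hd hpL)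
    have hTL : Subgroup.zpowers t ≤ Subgroup.normalizer (h.Comp : Set G) := by
      rw [Subgroup.zpowers_le]
      refine Subgroup.mem_normalizer_fintype fun w hw => ?_
      rw [htinv]; exact hnorm w hw
    obtain ⟨P, hP⟩ := CfsgLib.coprime_exists_invariant_sylow hTL (by
        rw [Nat.card_zpowers]
        exact Nat.Coprime.coprime_dvd_left (orderOf_dvd_of_pow_eq_one ht) (Nat.coprime_two_left.mpr hodd))
      (Or.inl inferInstance) p
    set Pg := (P : Subgroup h.Comp).map h.Comp.subtype with hPg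
    have hPgL : Pg ≤ h.Comp := Subgroup.map_subtype_le _
    have htP : ∀ x ∈ Pg, t * x * t ∈ Pg := fun x hx => by
      have := (Subgroup.mem_normalizer_iff.mp (hP (Subgroup.mem_zpowers t)) x).mp hx
      rwa [htinv] at this
    have hu := h.uniq_sub hpk (hPgL.trans inf_le_left) (P.isPGroup'.map _)
    have hnotle : ¬ (P : Subgroup h.Comp) ≤ C0 := fun hle => by
      have h1 := Subgroup.index_dvd_of_le hle
      exact P.not_dvd_index (hpd.trans h1)
    have hPD : ∀ x ∈ (P : Subgroup h.Comp), x ∈ commutator h.Comp → x = 1 := by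
      intro x hx hxD
      by_contra hx1
      obtain ⟨n, hn⟩ := IsPGroup.iff_orderOf.mp P.isPGroup' ⟨x, hx⟩
      rw [Subgroup.orderOf_mk] at hn
      have hpD : p ∣ Nat.card (commutator h.Comp) :=
        (dvd_pow_self p (fun e => hx1 (orderOf_eq_one_iff.mp (by rw [hn, e, pow_zero])))).trans
          (hn ▸ Subgroup.orderOf_dvd_natCard _ hxD)
      refine hnotle fun y hy => Subgroup.mem_centralizer_iff.mpr fun d hd => hDcomm d hd y ?_
      obtain ⟨m, hm⟩ := IsPGroup.iff_orderOf.mp P.isPGroup' ⟨y, hy⟩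
      rw [Subgroup.orderOf_mk] at hm
      rw [← QuotientGroup.eq_one_iff, ← orderOf_eq_one_iff]
      refine Nat.eq_one_of_dvd_coprimes (Nat.Coprime.pow_left m ?_ : (p ^ m).Coprime (commutator h.Comp).index)
        (hm ▸ orderOf_map_dvd (QuotientGroup.mk' (commutator h.Comp)) y) ?_
      · exact Nat.Coprime.coprime_dvd_left hpD hcop
      · rw [Subgroup.index_eq_card]; exact orderOf_dvd_natCard _
    haveI := CfsgLib.Frob.isCyclic_of_uniq_odd (hne2 p hpL) (P.isPGroup'.map _) hu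
    have hPc : ∀ a ∈ Pg, ∀ b ∈ Pg, a * b = b * a := fun a ha b hb =>
      congrArg Subtype.val ((IsCyclic.commGroup (α := Pg)).mul_comm ⟨a, ha⟩ ⟨b, hb⟩)
    have hfix : ∃ d ∈ Pg, d ≠ 1 ∧ t * d * t = d := by
      by_contra hno
      push Not at hno
      have hinv : ∀ x ∈ Pg, t * x * t = x⁻¹ := fun x hx => by
        by_contra hne
        refine hno (x * (t * x * t)) (mul_mem hx (htP x hx)) (fun e => hne (inv_eq_of_mul_eq_one_right e).symm) ?_
        calc t * (x * (t * x * t)) * t = (t * x * t) * x * (t * t) := by simp [mul_assoc]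
          _ = x * (t * x * t) := by rw [htt, mul_one, hPc _ (htP x hx) _ hx]
      refine hnotle fun x hx => ?_
      obtain ⟨n, hn⟩ := IsPGroup.iff_orderOf.mp P.isPGroup' ⟨x, hx⟩
      rw [Subgroup.orderOf_mk] at hn
      obtain ⟨r, hr⟩ : ∃ r, orderOf x = 2 * r + 1 := hn ▸ ((hp.odd_of_ne_two (hne2 p hpL)).pow)
      suffices hsq : x ^ 2 ∈ C0 by
        have h1 : x = (x ^ 2) ^ (r + 1) := by
          rw [← pow_mul, show 2 * (r + 1) = orderOf x + 1 by omega, pow_succ, pow_orderOf_eq_one, one_mul]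
        rw [h1]; exact pow_mem hsq _
      refine Subgroup.mem_centralizer_iff.mpr fun d hd => ?_
      let τ : h.Comp → h.Comp := fun y => ⟨t * y * t, hnorm y y.2⟩
      have hτmul : ∀ a b, τ (a * b) = τ a * τ b := fun a b => Subtype.ext (by
        show t * (a * b : G) * t = t * a * t * (t * b * t)
        calc t * (a * b : G) * t = t * a * (t * t) * b * t := by rw [htt]; simp [mul_assoc]
          _ = _ := by simp [mul_assoc])
      have hττ : ∀ a, τ (τ a) = a := fun a => Subtype.ext (by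
        show t * (t * a * t) * t = (a : G)
        calc t * (t * (a : G) * t) * t = (t * t) * a * (t * t) := by simp [mul_assoc]
          _ = _ := by rw [htt, one_mul, mul_one])
      let τh : h.Comp →* h.Comp := MonoidHom.mk' τ hτmul
      have hτD : ∀ y ∈ commutator h.Comp, τ y ∈ commutator h.Comp := fun y hy =>
        (by rw [commutator_def, Subgroup.map_commutator]; exact Subgroup.commutator_mono le_top le_top :
          (commutator h.Comp).map τh ≤ commutator h.Comp) (Subgroup.mem_map_of_mem τh hy)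
      -- conjugation by x and by its inverse agree on the abelian normal cyclic group
      have hcyc : ∀ a : h.Comp, ∃ i : ℤ, ∀ e ∈ commutator h.Comp, a * e * a⁻¹ = e ^ i := by
        intro a
        have hc : ∀ e : commutator h.Comp, a * e * a⁻¹ ∈ commutator h.Comp := fun e =>
          Subgroup.Normal.conj_mem inferInstance _ e.2 a
        obtain ⟨i, hi⟩ := MonoidHom.map_cyclic (MonoidHom.mk' (fun e : commutator h.Comp =>
          (⟨a * e * a⁻¹, hc e⟩ : commutator h.Comp)) fun e e' => Subtype.ext (by simp [mul_assoc]))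
        exact ⟨i, fun e he => congrArg Subtype.val (hi ⟨e, he⟩)⟩
      obtain ⟨i, hi⟩ := hcyc x
      have hτx : τ x = x⁻¹ := Subtype.ext (hinv _ ⟨x, hx, rfl⟩)
      have h1 : x⁻¹ * d * x = x * d * x⁻¹ := by
        have h2 := congrArg τ (hi (τ d) (hτD d hd))
        have hz : ∀ (y : h.Comp) (j : ℤ), τ (y ^ j) = τ y ^ j := fun y j => map_zpow τh y j
        rw [hτmul, hτmul, show τ x⁻¹ = (τ x)⁻¹ from map_inv τh x, hτx, inv_inv, hττ, hz, hττ, ← hi d hd] at h2
        exact h2
      have h3 : x ^ 2 * d = d * x ^ 2 := by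
        calc x ^ 2 * d = x * (x * d * x⁻¹) * x := by rw [pow_two]; group
          _ = x * (x⁻¹ * d * x) * x := by rw [h1]
          _ = d * x ^ 2 := by rw [pow_two]; group
      exact h3.symm
    obtain ⟨d, hd, hd1, hdt⟩ := hfix
    have hcen := centralizes_cyclic (hne2 p hpL) (P.isPGroup'.map _) hu ht htP hd hd1 hdt
    refine ⟨p, hp, hne2 p hpL, Pg, hPgL, hsne p hp hpL P, P.isPGroup'.map _, hsyl p hp P, fun x hx => ?_,
      fun g hg hgP x hx => ?_⟩
    · conv_rhs => rw [← hcen x hx]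
      rw [mul_assoc (t * x) t t, htt, mul_one]
    · obtain ⟨x', hx', rfl⟩ := hx
      have hm := hgP _ ⟨x', hx', rfl⟩
      obtain ⟨z, hz, hze⟩ := hm
      have hz' : z = (⟨g, hg⟩ : h.Comp) * x' * (⟨g, hg⟩ : h.Comp)⁻¹ := Subtype.ext hze
      rw [hz'] at hz
      have h1 := hPD _ (mul_mem hz (inv_mem hx'))
        (Subgroup.commutator_mem_commutator (Subgroup.mem_top (⟨g, hg⟩ : h.Comp)) (Subgroup.mem_top x'))
      exact congrArg Subtype.val (commutatorElement_eq_one_iff_mul_comm.mp h1)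

include h in
/-- An involution swapping the base points centralises no non-trivial element of the complement. -/
theorem swap_fpf (hodd : Odd (Nat.card h.Comp)) {t : G} (ht : t ^ 2 = 1)
    (htA : t • A = B) (htB : t • B = A) {c : G} (hc : c ∈ h.Comp) (hct : t * c = c * t) : c = 1 := by
  by_contra hc1
  obtain ⟨p, hp, hp2, P, hPL, hPne, hpP, ⟨n, hn, hnd⟩, htP, hNC⟩ :=
    h.exists_centralized_sylow hodd ht htA htB hc hc1 hct
  haveI := Fact.mk hp
  classical
  haveI : Fintype X := Fintype.ofFinite X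
  obtain ⟨⟨x0, hx0⟩, hx0ne⟩ := Subgroup.ne_bot_iff_exists_ne_one.mp hPne
  have hx01 : x0 ≠ 1 := fun e => hx0ne (Subtype.ext e)
  have hfix : ∀ Q : X, (∀ x ∈ P, x • Q = Q) ↔ (Q = A ∨ Q = B) := fun Q => by
    refine ⟨fun hQ => h.comp_fix hodd (hPL hx0) hx01 (hQ x0 hx0), ?_⟩
    rintro (rfl | rfl) x hx
    · exact (hPL hx).1
    · exact (hPL hx).2
  -- p does not divide the number of points
  have hpv : ¬ p ∣ Nat.card X := by
    have h1 := hpP.card_modEq_card_fixedPoints (α := X)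
    have h2 : MulAction.fixedPoints P X = ({A, B} : Set X) := by
      ext Q
      simp only [mem_fixedPoints, Subtype.forall, Set.mem_insert_iff, Set.mem_singleton_iff]
      exact hfix Q
    rw [h2, Nat.card_coe_set_eq, Set.ncard_pair h.ne.symm] at h1
    intro hd
    have : p ∣ 2 := Nat.modEq_zero_iff_dvd.mp (h1.symm.trans (Nat.modEq_zero_iff_dvd.mpr hd))
    exact hp2 ((Nat.prime_dvd_prime_iff_eq hp Nat.prime_two).mp this)
  have hpL : p ∣ Nat.card h.Comp := by
    obtain ⟨j, hj⟩ := IsPGroup.iff_orderOf.mp hpP ⟨x0, hx0⟩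
    rw [Subgroup.orderOf_mk] at hj
    exact (dvd_pow_self p fun e => hx01 (orderOf_eq_one_iff.mp (by rw [hj, e, pow_zero]))).trans
      (hj ▸ Subgroup.orderOf_dvd_natCard _ (hPL hx0))
  have hfac : (Nat.card G).factorization p = n := by
    haveI : Nonempty X := ⟨A⟩
    rw [h.card_group, Nat.factorization_mul Nat.card_pos.ne' (mul_pos Nat.card_pos Nat.card_pos).ne',
      Nat.factorization_mul Nat.card_pos.ne' Nat.card_pos.ne']
    simp only [Finsupp.add_apply]
    rw [Nat.factorization_eq_zero_of_not_dvd hpv,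
      Nat.factorization_eq_zero_of_not_dvd (fun hd => hp.not_dvd_one (h.coprime ▸ Nat.dvd_gcd hd hpL))]
    have h1 : n ≤ (Nat.card h.Comp).factorization p :=
      (hp.pow_dvd_iff_le_factorization Nat.card_pos.ne').mp (hn ▸ Subgroup.card_dvd_of_le hPL)
    have h2 : ¬ n + 1 ≤ (Nat.card h.Comp).factorization p := fun e =>
      hnd ((hp.pow_dvd_iff_le_factorization Nat.card_pos.ne').mpr e)
    omega
  let S : Sylow p G := Sylow.ofCard P (by rw [hn, hfac])
  have hS : (S : Subgroup G) = P := rfl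
  have hN : Subgroup.normalizer ((S : Subgroup G) : Set G) ≤ Subgroup.centralizer ((S : Subgroup G) : Set G) := by
    intro g hg
    rw [hS] at hg ⊢
    refine Subgroup.mem_centralizer_iff.mpr fun x hx => ?_
    have hmem : ∀ Q, (Q = A ∨ Q = B) → (g • Q = A ∨ g • Q = B) := fun Q hQ => (hfix _).mp fun x hx => by
      have := (Subgroup.mem_normalizer_iff.mp (inv_mem hg) x).mp hx
      have h3 := (hfix Q).mpr hQ _ this
      rw [inv_inv, mul_smul, mul_smul, inv_smul_eq_iff] at h3
      exact h3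
    have htg : ∀ w, t * x * t⁻¹ = w → w = x := fun w hw => by
      rw [← hw, htP x hx, mul_inv_cancel_right]
    rcases hmem A (Or.inl rfl) with hA | hA
    · have hB : g • B = B := (hmem B (Or.inr rfl)).resolve_left fun e => h.ne (MulAction.injective g (e.trans hA.symm))
      exact (hNC g ⟨hA, hB⟩ (fun y hy => (Subgroup.mem_normalizer_iff.mp hg y).mp hy) x hx).symm
    · have hB : g • B = A := (hmem B (Or.inr rfl)).resolve_right fun e => h.ne (MulAction.injective g (e.trans hA.symm))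
      have htt : t * t = 1 := by rw [← pow_two, ht]
      have hgt : t * g ∈ h.Comp :=
        ⟨(by rw [mul_smul, hA, htB] : (t * g) • A = A), (by rw [mul_smul, hB, htA] : (t * g) • B = B)⟩
      have h4 := hNC (t * g) hgt (fun y hy => by
        have h5 := (Subgroup.mem_normalizer_iff.mp hg y).mp hy
        rw [show t * g * y * (t * g)⁻¹ = t * (g * y * g⁻¹) * t⁻¹ by group, htP _ h5, mul_inv_cancel_right]
        exact h5) x hx
      calc x * g = (t * t) * x * g := by rw [htt, one_mul]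
        _ = t * (x * (t * g)) := by rw [mul_assoc t t, htP x hx]; simp [mul_assoc]
        _ = t * ((t * g) * x) := by rw [h4]
        _ = (t * t) * g * x := by simp [mul_assoc]
        _ = g * x := by rw [htt, one_mul]
  set M := (MonoidHom.transferSylow S hN).ker with hM
  haveI hMn : M.Normal := MonoidHom.normal_ker _
  have hcomp := MonoidHom.ker_transferSylow_isComplement' S hN
  have htM : t ∈ M := by
    rw [hM, MonoidHom.mem_ker, ← orderOf_eq_one_iff]
    refine Nat.eq_one_of_dvd_coprimes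
      (Nat.Coprime.pow_left n ((Nat.coprime_primes hp Nat.prime_two).mpr hp2) : (p ^ n).Coprime 2) ?_ ?_
    · rw [← hn, ← hS]; exact orderOf_dvd_natCard _
    · exact (orderOf_map_dvd _ t).trans (orderOf_dvd_of_pow_eq_one ht)
  obtain ⟨⟨x, hxP⟩, hx⟩ := exists_prime_orderOf_dvd_card' (G := P) p (by
    obtain ⟨j, hj⟩ := IsPGroup.iff_orderOf.mp hpP ⟨x0, hx0⟩
    rw [Subgroup.orderOf_mk] at hj
    exact (dvd_pow_self p fun e => hx01 (orderOf_eq_one_iff.mp (by rw [hj, e, pow_zero]))).trans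
      (hj ▸ Subgroup.orderOf_dvd_natCard _ hx0))
  rw [Subgroup.orderOf_mk] at hx
  have hx1 : x ≠ 1 := fun e => hp.ne_one (by rw [← hx, e, orderOf_one])
  have hMidx : M.index = p ^ n := by
    rw [hM, hcomp.symm.index_eq_card, ← hn]
    rfl
  have hMp : ¬ p ∣ Nat.card M := by
    rw [← hcomp.index_eq_card]
    exact S.not_dvd_index
  obtain ⟨T, htT, hT⟩ := CfsgLib.coprime_le_invariant_sylow (A := Subgroup.zpowers x) (K := M)
    (U := Subgroup.zpowers t) (p := 2) (by rw [Subgroup.normalizer_eq_top]; exact le_top)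
    (by rw [Nat.card_zpowers, hx]; exact hp.coprime_iff_not_dvd.mpr hMp)
    (Or.inl inferInstance) (Subgroup.zpowers_le.mpr htM)
    (by
      obtain ⟨j, -, hj⟩ := (Nat.dvd_prime_pow Nat.prime_two).mp
        (show orderOf t ∣ 2 ^ 1 by rw [pow_one]; exact orderOf_dvd_of_pow_eq_one ht)
      exact IsPGroup.of_card (n := j) (by rw [Nat.card_zpowers, hj]))
    (by
      rw [Subgroup.zpowers_le]
      refine Subgroup.mem_normalizer_fintype fun w hw => ?_
      obtain ⟨i, rfl⟩ := hw
      rw [← conj_zpow, ← htP x hxP, mul_inv_cancel_right]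
      exact zpow_mem (Subgroup.mem_zpowers t) i)
  have hT2 : (Nat.card G).factorization 2 = (Nat.card M).factorization 2 := by
    rw [← M.card_mul_index, Nat.factorization_mul Nat.card_pos.ne' M.index_ne_zero_of_finite,
      Finsupp.add_apply, hMidx, Nat.factorization_eq_zero_of_not_dvd
        (fun hd => hp2 ((Nat.prime_dvd_prime_iff_eq Nat.prime_two hp).mp (Nat.prime_two.dvd_of_dvd_pow hd)).symm),
      add_zero]
  let T' : Sylow 2 G := Sylow.ofCard ((T : Subgroup M).map M.subtype) (by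
    rw [Subgroup.card_map_of_injective M.subtype_injective, Sylow.card_eq_multiplicity, hT2])
  obtain ⟨Q, hQ⟩ := h.fix_point hodd T'.isPGroup'
  have hxQ : x • Q = Q := h.sylow_fix_unique hodd T' (fun y hy => by
    have := (Subgroup.mem_normalizer_iff.mp (inv_mem (hT (Subgroup.mem_zpowers x))) y).mp hy
    have h3 := hQ _ this
    rw [inv_inv, mul_smul, mul_smul, inv_smul_eq_iff] at h3
    exact h3) hQ
  have htQ := hQ t (htT (Subgroup.mem_zpowers t))
  rcases h.comp_fix hodd (hPL hxP) hx1 hxQ with e | e <;> subst e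
  · exact h.ne (htA.symm.trans htQ)
  · exact h.ne (htQ.symm.trans htB)

include h in
theorem swap_inv (hodd : Odd (Nat.card h.Comp)) {t : G} (ht : t ^ 2 = 1)
    (htA : t • A = B) (htB : t • B = A) {y : G} (hy : y ∈ h.Comp) : t * y * t = y⁻¹ := by
  have htt : t * t = 1 := by rw [← pow_two, ht]
  have hnorm : ∀ x ∈ h.Comp, t * x * t ∈ h.Comp := fun x hx =>
    ⟨(by rw [mul_smul, mul_smul, htA, hx.2, htB] : (t * x * t) • A = A),
      (by rw [mul_smul, mul_smul, htB, hx.1, htA] : (t * x * t) • B = B)⟩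
  let f : h.Comp → h.Comp := fun x => ⟨(x : G)⁻¹ * (t * x * t), mul_mem (inv_mem x.2) (hnorm x x.2)⟩
  have hf : Function.Injective f := fun a b e => by
    have e' : (a : G)⁻¹ * (t * a * t) = (b : G)⁻¹ * (t * b * t) := congrArg Subtype.val e
    have h1 : (b : G) * (a : G)⁻¹ = t * (b * (a : G)⁻¹) * t := by
      have h2 := congrArg (fun z => (b : G) * z * (t * (a : G)⁻¹ * t)) e'
      calc (b : G) * (a : G)⁻¹ = b * (a : G)⁻¹ * ((t * a * (t * t)) * (a : G)⁻¹ * t) := by
            rw [htt, mul_one, mul_assoc t, mul_inv_cancel, mul_one, htt, mul_one]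
        _ = b * ((a : G)⁻¹ * (t * a * t)) * (t * (a : G)⁻¹ * t) := by simp [mul_assoc]
        _ = b * ((b : G)⁻¹ * (t * b * t)) * (t * (a : G)⁻¹ * t) := h2
        _ = t * b * (t * t) * (a : G)⁻¹ * t := by simp [mul_assoc]
        _ = t * (b * (a : G)⁻¹) * t := by rw [htt]; simp [mul_assoc]
    have h3 := h.swap_fpf hodd ht htA htB (mul_mem b.2 (inv_mem a.2)) (by
      conv_rhs => rw [h1]
      rw [mul_assoc _ t t, htt, mul_one])
    exact Subtype.ext (mul_inv_eq_one.mp h3).symm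
  obtain ⟨⟨x, hx⟩, hxy⟩ := Finite.surjective_of_injective hf ⟨y, hy⟩
  have e : x⁻¹ * (t * x * t) = y := congrArg Subtype.val hxy
  rw [← e, mul_inv_rev, inv_inv]
  have hti : t⁻¹ = t := inv_eq_of_mul_eq_one_right htt
  calc t * (x⁻¹ * (t * x * t)) * t = t * x⁻¹ * t * x * (t * t) := by simp [mul_assoc]
    _ = (t * x * t)⁻¹ * x := by rw [htt, mul_one, mul_inv_rev, mul_inv_rev, hti]; simp [mul_assoc]

include h in
theorem comp_comm (hodd : Odd (Nat.card h.Comp)) {a b : G} (ha : a ∈ h.Comp) (hb : b ∈ h.Comp) :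
    a * b = b * a := by
  obtain ⟨t, ht, htA, htB⟩ := h.exists_swap hodd
  have htt : t * t = 1 := by rw [← pow_two, ht]
  have h1 := h.swap_inv hodd ht htA htB (mul_mem (inv_mem ha) (inv_mem hb))
  rw [show t * (a⁻¹ * b⁻¹) * t = t * a⁻¹ * (t * t) * b⁻¹ * t by rw [htt]; simp [mul_assoc],
    show t * a⁻¹ * (t * t) * b⁻¹ * t = (t * a⁻¹ * t) * (t * b⁻¹ * t) by simp [mul_assoc],
    h.swap_inv hodd ht htA htB (inv_mem ha), h.swap_inv hodd ht htA htB (inv_mem hb),
    mul_inv_rev, inv_inv, inv_inv] at h1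
  exact h1

include h in
/-- All involutions swapping the base points are conjugate. -/
theorem swap_conj (hodd : Odd (Nat.card h.Comp)) {t w : G} (ht : t ^ 2 = 1)
    (htA : t • A = B) (htB : t • B = A) (hwA : w • A = B) (hwB : w • B = A) : ∃ x : G, x * t * x⁻¹ = w := by
  have htt : t * t = 1 := by rw [← pow_two, ht]
  have hy : t * w ∈ h.Comp :=
    ⟨(by rw [mul_smul, hwA, htB] : (t * w) • A = A), (by rw [mul_smul, hwB, htA] : (t * w) • B = B)⟩
  obtain ⟨r, hr⟩ := hodd
  have hpow : (t * w) ^ (2 * r + 1) = 1 := hr ▸ congrArg Subtype.val (pow_card_eq_one' (G := h.Comp) (x := ⟨_, hy⟩))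
  set z := (t * w) ^ (r + 1) with hz
  have hzz : z * z = t * w := by
    rw [hz, ← pow_add, show r + 1 + (r + 1) = 2 * r + 1 + 1 by omega, pow_succ, hpow, one_mul]
  refine ⟨z⁻¹, ?_⟩
  rw [inv_inv]
  have h1 := h.swap_inv ⟨r, hr⟩ ht htA htB (pow_mem hy (r + 1))
  have h2 : z⁻¹ * t = t * z := by rw [← h1, mul_assoc _ t t, htt, mul_one]
  rw [h2, mul_assoc, hzz, ← mul_assoc, htt, one_mul]

end Hyp

end CfsgLib.RankThreeFrob
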