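import Cfsg.Agent.Lib.RankThreeFrob.OddCentral
import Cfsg.Agent.Lib.RankThreeFrob.Swap

/-!
Odd complement: the two-part of the stabiliser of a far pair.

Blueprint: `blueprint/S2207.md`.
-/

set_option autoImplicit false
set_option linter.unusedSectionVars false
set_option linter.style.haveILetI false

namespace CfsgLib.RankThreeFrob

open MulAction Cfsg
open scoped Pointwise

universe u v

variable {G : Type u} {X : Type v} [Group G] [MulAction G X] [Finite G] [Finite X] {A B : X}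

namespace Hyp

variable (h : Hyp G A B) (hodd : Odd (Nat.card h.Comp))

include hodd in
theorem inter_s2_conj {P Q : X} {x : G} (hx : x ∈ h.S2 P ⊓ h.S2 Q) (g : G) :
    g * x * g⁻¹ ∈ h.S2 (g • P) ⊓ h.S2 (g • Q) :=
  ⟨h.s2_conj hodd hx.1 g, h.s2_conj hodd hx.2 g⟩

include hodd in
theorem card_far_dvd_ker {C : X} (hC : h.Far A C) :
    Nat.card (stabilizer G A ⊓ stabilizer G C : Subgroup G) ∣ Nat.card (h.Ker A) :=
  Subgroup.card_dvd_of_le fun _ hx =>
    h.far_le_ker hodd hC (mem_stabilizer_iff.mp hx.1) (mem_stabilizer_iff.mp hx.2)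

include hodd in
theorem far_s2_ne_bot {C : X} (hC : h.Far A C) : h.S2 A ⊓ h.S2 C ≠ ⊥ := by
  intro hD
  classical
  haveI : Fintype X := Fintype.ofFinite X
  haveI : Fintype G := Fintype.ofFinite G
  haveI := h.faithful
  have hfree : ∀ P Q : X, h.Far P Q → ∀ w : G, w ^ 2 = 1 → w • P = P → w • Q = Q → w = 1 := by
    intro P Q hPQ w hw hP hQ
    obtain ⟨g, hgA, hgC⟩ := h.far_trans hPQ hC
    have hm : ∀ R, w • R = R → g * w * g⁻¹ ∈ h.S2 (g • R) := fun R hR =>
      h.s2_conj hodd ((h.mem_s2 hodd).mpr ⟨hR, 1, by rwa [pow_one]⟩) g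
    have h1 : g * w * g⁻¹ ∈ h.S2 A ⊓ h.S2 C := ⟨hgA ▸ hm P hP, hgC ▸ hm Q hQ⟩
    rw [hD, Subgroup.mem_bot, conj_eq_one_iff] at h1
    exact h1
  have hfix : ∀ w ∈ invSet G, ∃! P : X, w • P = P := by
    intro w hw
    obtain ⟨P, hP⟩ := h.fix_point hodd (T := Subgroup.zpowers w)
      (IsPGroup.of_card (n := 1) (by
        rw [Nat.card_zpowers, pow_one]
        haveI : Fact (Nat.Prime 2) := ⟨Nat.prime_two⟩
        exact orderOf_eq_prime hw.1 hw.2))
    have hwP := hP w (Subgroup.mem_zpowers w)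
    refine ⟨P, hwP, fun Q hQ => ?_⟩
    by_contra hne
    by_cases hadj : h.Adj P Q
    · exact (h.mem_ker.mp (h.s2_le_ker P ((h.mem_s2 hodd).mpr ⟨hwP, 1, by rw [pow_one]; exact hw.1⟩))).2 hw.2 Q hadj hQ
    · exact hw.2 (hfree P Q ⟨fun e => hne e.symm, hadj⟩ w hw.1 hwP hQ)
  obtain ⟨t, ht, htA, htB⟩ := h.exists_swap hodd
  have htt : t * t = 1 := by rw [← pow_two, ht]
  have ht1 : t ≠ 1 := fun e => h.ne (by rw [← htA, e, one_smul])
  obtain ⟨⟨u, hu⟩, hu1⟩ := Subgroup.ne_bot_iff_exists_ne_one.mp (h.z_ne_bot hodd A)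
  have hu1' : u ≠ 1 := fun e => hu1 (Subtype.ext e)
  have hself : swapSet G A A = (h.Z A : Set G) \ {1} := by
    ext w
    refine ⟨fun ⟨hw, hwA⟩ => ⟨?_, hw.2⟩, fun ⟨hw, hw1⟩ => ⟨⟨h.z_sq hw, hw1⟩, h.z_fix hw⟩⟩
    obtain ⟨g, hg⟩ := isConj_iff.mp ((h.one_class hodd ht htA htB hu.2.1 hu1').trans
      (h.one_class hodd ht htA htB hw.1 hw.2).symm)
    have hgA : g • A = A := (hfix w hw).unique (by rw [← hg, mul_smul, mul_smul, inv_smul_smul, h.z_fix hu]) hwA
    exact hg ▸ h.z_conj_fix hodd hu hgA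
  have hcardA : (swapSet G A A).ncard = Nat.card h.Comp := by
    have h1 := Set.ncard_sdiff_singleton_add_one (show (1 : G) ∈ (h.Z A : Set G) from one_mem _) (Set.toFinite _)
    rw [← hself, ← Nat.card_coe_set_eq (h.Z A : Set G)] at h1
    have h2 : Nat.card (h.Z A : Set G) = Nat.card h.Comp + 1 := h.card_z hodd
    omega
  have hcardB : (swapSet G A B).ncard = Nat.card h.Comp := by
    have e : swapSet G A B = (t * ·) '' (h.Comp : Set G) := by
      ext w
      constructor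
      · rintro ⟨hw, hwA⟩
        have hwB : w • B = A := by rw [← hwA, ← mul_smul, ← pow_two, hw.1, one_smul]
        exact ⟨t * w, ⟨(by rw [mul_smul, hwA, htB] : (t * w) • A = A), (by rw [mul_smul, hwB, htA] : (t * w) • B = B)⟩,
          by show t * (t * w) = w; rw [← mul_assoc, htt, one_mul]⟩
      · rintro ⟨y, hy, rfl⟩
        refine ⟨⟨?_, fun e => ?_⟩, by rw [mul_smul, hy.1, htA]⟩
        · rw [pow_two, show t * y * (t * y) = t * y * t * y by group, h.swap_inv hodd ht htA htB hy, inv_mul_cancel]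
        · have h1 : (t * y) • A = A := by rw [show t * y = 1 from e, one_smul]
          rw [mul_smul, hy.1, htA] at h1
          exact h.ne h1
    rw [e, Set.ncard_image_of_injective _ (mul_right_injective t)]
    exact (Nat.card_coe_set_eq (h.Comp : Set G)).symm
  have hsum := sum_swap_ncard h.trans' hfix A
  rw [hcardA, ← Finset.sum_filter_add_sum_filter_not _ (fun Q => h.Adj A Q)] at hsum
  have hadjset : (Finset.univ.erase A).filter (fun Q => h.Adj A Q) = Finset.univ.filter fun Q => h.Adj A Q := by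
    ext Q
    simp only [Finset.mem_filter, Finset.mem_erase, Finset.mem_univ, and_true, true_and, and_iff_right_iff_imp]
    exact fun e => (h.adj_ne e).symm
  have hfarset : (Finset.univ.erase A).filter (fun Q => ¬ h.Adj A Q) = Finset.univ.filter fun Q => h.Far A Q := by
    ext Q
    simp only [Finset.mem_filter, Finset.mem_erase, Finset.mem_univ, and_true, true_and]
    exact ⟨fun e => ⟨e.1.symm, e.2⟩, fun e => ⟨e.1.symm, e.2⟩⟩
  have hconstB : ∀ Q ∈ Finset.univ.filter (fun Q => h.Adj A Q), (swapSet G A Q).ncard = (swapSet G A B).ncard := by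
    intro Q hQ
    obtain ⟨g, hgA, hgB⟩ := (Finset.mem_filter.mp hQ).2
    have := ncard_swapSet_smul g A B
    rwa [hgA, hgB] at this
  have hconstC : ∀ Q ∈ Finset.univ.filter (fun Q => h.Far A Q), (swapSet G A Q).ncard = (swapSet G A C).ncard := by
    intro Q hQ
    obtain ⟨g, hgA, hgC⟩ := h.far_trans hC (Finset.mem_filter.mp hQ).2
    have := ncard_swapSet_smul g A C
    rwa [hgA, hgC] at this
  rw [hadjset, hfarset, Finset.sum_congr rfl hconstB, Finset.sum_congr rfl hconstC, Finset.sum_const,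
    Finset.sum_const] at hsum
  rw [smul_eq_mul, smul_eq_mul, hcardB, ← Fintype.card_subtype, ← Fintype.card_subtype, ← Nat.card_eq_fintype_card,
    ← Nat.card_eq_fintype_card, ← Nat.card_eq_fintype_card, h.card_adj, h.card_points] at hsum
  have hlpos : 0 < Nat.card {D // h.Far A D} := by
    haveI : Nonempty {D // h.Far A D} := ⟨⟨C, hC⟩⟩
    exact Nat.card_pos
  have hj : (swapSet G A C).ncard = Nat.card h.Comp := by
    rw [show 1 + Nat.card (h.Ker A) + Nat.card {D // h.Far A D} - 1 = Nat.card (h.Ker A) + Nat.card {D // h.Far A D} by omega,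
      Nat.add_mul] at hsum
    exact Nat.eq_of_mul_eq_mul_left hlpos (Nat.add_left_cancel hsum)
  have hmodd : Odd (Nat.card (stabilizer G A ⊓ stabilizer G C : Subgroup G)) := by
    by_contra hev
    rw [Nat.not_odd_iff_even] at hev
    haveI : Fact (Nat.Prime 2) := ⟨Nat.prime_two⟩
    obtain ⟨⟨w, hwAC⟩, hwo⟩ := exists_prime_orderOf_dvd_card' 2 hev.two_dvd
    rw [Subgroup.orderOf_mk] at hwo
    have h2 := hfree A C hC w (hwo ▸ pow_orderOf_eq_one w) hwAC.1 hwAC.2
    rw [h2, orderOf_one] at hwo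
    omega
  have hdvd := ncard_swap_dvd hmodd (a := A) (b := C) (by
    rw [← Set.ncard_pos (Set.toFinite _), hj]; exact Nat.card_pos)
  rw [hj] at hdvd
  have h1 := Nat.eq_one_of_dvd_coprimes h.coprime (hdvd.trans (h.card_far_dvd_ker hodd hC)) dvd_rfl
  have := h.one_lt_comp
  omega

include hodd in
theorem z_not_fix {C : X} (hC : h.Far A C) : ∃ u ∈ h.Z A, u • C ≠ C := by
  classical
  by_contra hno
  push Not at hno
  haveI : Fintype X := Fintype.ofFinite X
  set S : X → Set X := fun P => insert P {Q | h.Far P Q} with hS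
  have hSsmul : ∀ (g : G) P, g • S P = S (g • P) := by
    intro g P
    simp only [hS, Set.smul_set_insert]
    congr 1
    ext Q
    rw [Set.mem_smul_set_iff_inv_smul_mem]
    show h.Far P (g⁻¹ • Q) ↔ h.Far (g • P) Q
    rw [← h.far_smul g, smul_inv_smul]
  have hall : ∀ Q, h.Far A Q → ∀ u ∈ h.Z A, u • Q = Q := by
    intro Q hQ u hu
    obtain ⟨g, hgA, hgC⟩ := h.far_trans hC hQ
    have := hno _ (h.z_conj_fix hodd hu (g := g⁻¹) (inv_smul_eq_iff.mpr hgA.symm))
    rw [inv_inv, mul_smul, mul_smul, inv_smul_eq_iff, hgC] at this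
    exact this
  obtain ⟨⟨u, hu⟩, hu1⟩ := Subgroup.ne_bot_iff_exists_ne_one.mp (h.z_ne_bot hodd A)
  have hu1' : u ≠ 1 := fun e => hu1 (Subtype.ext e)
  have huC : u ∈ h.Ker C := h.s2_le_ker C ((h.mem_s2 hodd).mpr ⟨hno u hu, 1, by rw [pow_one]; exact h.z_sq hu⟩)
  have hfixS : ∀ Q ∈ S A, u • Q = Q := fun Q hQ => by
    rcases hQ with rfl | hQ
    · exact h.z_fix hu
    · exact hall Q hQ u hu
  have hsub : S A ⊆ S C := by
    intro Q hQ
    by_cases hQC : Q = C
    · exact Or.inl hQC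
    · exact Or.inr ⟨fun e => hQC e.symm, fun hadj => (h.mem_ker.mp huC).2 hu1' Q hadj (hfixS Q hQ)⟩
  obtain ⟨g, hg⟩ := h.trans' A C
  have hSeq : S A = S C := by
    refine Set.eq_of_subset_of_ncard_le hsub (le_of_eq ?_) (Set.toFinite _)
    rw [← hg, ← hSsmul, Set.ncard_smul_set]
  have hblock := h.no_block (S := S A) (Set.mem_insert _ _) (fun x hx => by rw [hSsmul, hx]) (g := g)
    (by rw [hg]; exact fun e => hC.1 e.symm) (by rw [hSsmul, hg, hSeq]) B
  rcases hblock with e | e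
  · exact h.ne e
  · exact e.2 h.adj_AB

include hodd in
theorem z_pair_fix {C : X} (hC : h.Far A C) {u u' : G} (hu : u ∈ h.Z A) (hu' : u' ∈ h.Z A)
    (huC : u • C ≠ C) (huC' : u' • C ≠ C) : (u * u') • C = C := by
  classical
  haveI : Fact (Nat.Prime 2) := ⟨Nat.prime_two⟩
  set D := h.S2 A ⊓ h.S2 C with hD
  obtain ⟨⟨d, hd⟩, hd1⟩ := Subgroup.ne_bot_iff_exists_ne_one.mp (h.far_s2_ne_bot hodd hC)
  have hd1' : d ≠ 1 := fun e => hd1 (Subtype.ext e)
  set M := Subgroup.normalizer (D : Set G) with hM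
  let F := {P : X // ∀ x ∈ D, x • P = P}
  have hmemS : ∀ (P : F) {x : G}, x ∈ D → x ∈ h.S2 P.1 := fun P x hx =>
    (h.mem_s2 hodd).mpr ⟨P.2 x hx, ((h.mem_s2 hodd).mp hx.1).2⟩
  letI iact : MulAction M F :=
    { smul := fun g P => ⟨(g : G) • P.1, fun x hx => by
        have := P.2 _ ((Subgroup.mem_normalizer_iff.mp (inv_mem g.2) x).mp hx)
        rw [inv_inv, mul_smul, mul_smul, inv_smul_eq_iff] at this
        exact this⟩
      one_smul := fun P => Subtype.ext (one_smul G P.1)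
      mul_smul := fun g g' P => Subtype.ext (mul_smul (g : G) (g' : G) P.1) }
  have hfar : ∀ P Q : F, P ≠ Q → h.Far P.1 Q.1 := fun P Q hne => ⟨fun e => hne (Subtype.ext e), fun hadj =>
    (h.mem_ker.mp (h.s2_le_ker _ (hmemS P hd))).2 hd1' Q.1 hadj (Q.2 d hd)⟩
  have hDeq : ∀ P Q : F, P ≠ Q → h.S2 P.1 ⊓ h.S2 Q.1 = D := by
    intro P Q hne
    obtain ⟨g, hgA, hgC⟩ := h.far_trans hC (hfar P Q hne)
    refine (Subgroup.eq_of_le_of_card_ge (H := D) (K := h.S2 P.1 ⊓ h.S2 Q.1) (fun x hx => ⟨hmemS P hx, hmemS Q hx⟩) ?_).symm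
    refine le_of_eq (Nat.card_congr ((MulAut.conj g⁻¹).toEquiv.subtypeEquiv fun x => ?_))
    show x ∈ h.S2 P.1 ⊓ h.S2 Q.1 ↔ g⁻¹ * x * g⁻¹⁻¹ ∈ D
    constructor
    · intro hx
      have := h.inter_s2_conj hodd hx g⁻¹
      rwa [← hgA, ← hgC, inv_smul_smul, inv_smul_smul] at this
    · intro hx
      have := h.inter_s2_conj hodd hx g
      simpa [hgA, hgC, mul_assoc] using this
  let ρ : M →* Equiv.Perm F := MulAction.toPermHom M F
  set Γ := ρ.range with hΓ
  let π : M →* Γ := ρ.rangeRestrict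
  have hπ : ∀ (x : M) (P : F), ((π x • P : F) : X) = (x : G) • P.1 := fun x P => rfl
  have hπ1 : ∀ x : M, π x = 1 ↔ ∀ P : F, (x : G) • P.1 = P.1 := by
    intro x
    constructor
    · intro e P
      rw [← hπ x P, e, one_smul]
    · intro e
      refine Subtype.ext (Equiv.ext fun P => Subtype.ext ?_)
      exact (hπ x P).trans (e P)
  let a : F := ⟨A, fun x hx => ((h.mem_s2 hodd).mp hx.1).1⟩
  let c : F := ⟨C, fun x hx => ((h.mem_s2 hodd).mp hx.2).1⟩
  have hac : a ≠ c := fun e => hC.1 (congrArg Subtype.val e)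
  have htwo : ∀ P Q P' Q' : F, P ≠ Q → P' ≠ Q' → ∃ g : Γ, g • P = P' ∧ g • Q = Q' := by
    intro P Q P' Q' hne hne'
    obtain ⟨g, hgP, hgQ⟩ := h.far_trans (hfar P Q hne) (hfar P' Q' hne')
    have hgM : g ∈ M := Subgroup.mem_normalizer_fintype fun x hx => by
      rw [SetLike.mem_coe, ← hDeq P' Q' hne', ← hgP, ← hgQ]
      exact h.inter_s2_conj hodd ((hDeq P Q hne).symm ▸ hx) g
    exact ⟨π ⟨g, hgM⟩, Subtype.ext hgP, Subtype.ext hgQ⟩
  have hfix : ∀ w ∈ invSet Γ, ∃! P : F, w • P = P := by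
    rintro w ⟨hw2, hw1⟩
    obtain ⟨x, rfl⟩ : ∃ x, π x = w := ρ.rangeRestrict_surjective w
    obtain ⟨e, o, ho, hxo⟩ := Nat.exists_eq_two_pow_mul_odd (n := orderOf x) (orderOf_pos x).ne'
    set y := x ^ o with hy
    have hy2 : y ^ 2 ^ e = 1 := by
      rw [hy, ← pow_mul, mul_comm, ← hxo, pow_orderOf_eq_one]
    have hπy : π y = π x := by
      obtain ⟨r, rfl⟩ := ho
      rw [hy, map_pow, pow_succ, pow_mul, hw2, one_pow, one_mul]
    have hTp : IsPGroup 2 (Subgroup.zpowers (y : G) ⊔ D : Subgroup G) := by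
      refine IsPGroup.to_sup_of_normal_right' ?_ ((h.isPGroup_s2 A).to_le inf_le_left) (Subgroup.zpowers_le.mpr y.2)
      obtain ⟨j, -, hj⟩ := (Nat.dvd_prime_pow Nat.prime_two).mp
        (orderOf_dvd_of_pow_eq_one (by rw [← Subgroup.coe_pow, hy2]; rfl : (y : G) ^ 2 ^ e = 1))
      exact IsPGroup.of_card (n := j) (by rw [Nat.card_zpowers, hj])
    obtain ⟨P, hP⟩ := h.fix_point hodd hTp
    let P' : F := ⟨P, fun z hz => hP z (Subgroup.mem_sup_right hz)⟩
    have hyP : π y • P' = P' := Subtype.ext (hP _ (Subgroup.mem_sup_left (Subgroup.mem_zpowers _)))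
    rw [hπy] at hyP
    refine ⟨P', hyP, fun Q hQ => ?_⟩
    by_contra hne
    refine hw1 (hπy ▸ (hπ1 y).mpr fun R => ?_)
    have hyPQ : (y : G) ∈ h.S2 Q.1 ⊓ h.S2 P'.1 := by
      refine ⟨(h.mem_s2 hodd).mpr ⟨?_, e, by rw [← Subgroup.coe_pow, hy2]; rfl⟩,
        (h.mem_s2 hodd).mpr ⟨?_, e, by rw [← Subgroup.coe_pow, hy2]; rfl⟩⟩
      · rw [← hπ y Q, hπy, hQ]
      · rw [← hπ y P', hπy, hyP]
    rw [hDeq Q P' hne] at hyPQ
    exact R.2 _ hyPQ
  have hodd' : Odd (Nat.card (stabilizer Γ a ⊓ stabilizer Γ c : Subgroup Γ)) := by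
    by_contra hev
    rw [Nat.not_odd_iff_even] at hev
    obtain ⟨⟨w, hwac⟩, hwo⟩ := exists_prime_orderOf_dvd_card' 2 hev.two_dvd
    rw [Subgroup.orderOf_mk] at hwo
    have hw1 : w ≠ 1 := fun e => by rw [e, orderOf_one] at hwo; omega
    exact hac ((hfix w ⟨hwo ▸ pow_orderOf_eq_one w, hw1⟩).unique hwac.1 hwac.2)
  have huM : ∀ {z : G}, z ∈ h.Z A → z ∈ M := fun {z} hz => Subgroup.mem_normalizer_fintype fun x hx => by
    rw [hz.2.2 x (hx : x ∈ D).1, mul_inv_cancel_right]; exact hx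
  have hswap : ∀ {z : G} (hz : z ∈ h.Z A), z • C ≠ C → π ⟨z, huM hz⟩ ∈ swapSet Γ a a := fun {z} hz hzC =>
    ⟨⟨by rw [← map_pow, ← map_one π]; exact congrArg π (Subtype.ext (h.z_sq hz)),
      fun e => hzC ((hπ1 _).mp e c)⟩, Subtype.ext (h.z_fix hz)⟩
  obtain ⟨hdvd, hconj⟩ := two_trans_count hac htwo hfix hodd' ⟨_, hswap hu huC⟩
  -- the number of involutions of the image at the base point divides the order of the kernel
  have hdk : (swapSet Γ a a).ncard ∣ Nat.card (h.Ker A) := by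
    refine hdvd.trans (Dvd.dvd.trans ?_ (h.card_far_dvd_ker hodd hC))
    set Mac : Subgroup M := (stabilizer G A ⊓ stabilizer G C).subgroupOf M
    have e : stabilizer Γ a ⊓ stabilizer Γ c = Mac.map π := by
      ext w
      constructor
      · intro hw
        obtain ⟨x, rfl⟩ : ∃ x, π x = w := ρ.rangeRestrict_surjective w
        exact ⟨x, ⟨congrArg Subtype.val hw.1, congrArg Subtype.val hw.2⟩, rfl⟩
      · rintro ⟨x, hx, rfl⟩
        exact ⟨Subtype.ext hx.1, Subtype.ext hx.2⟩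
    rw [e]
    refine (Subgroup.card_map_dvd Mac π).trans ?_
    rw [Nat.card_congr (Mac.equivMapOfInjective _ M.subtype_injective).toEquiv]
    exact Subgroup.card_dvd_of_le ((Subgroup.subgroupOf_map_subtype _ _).le.trans inf_le_left)
  -- and is prime to it
  set MA := stabilizer M a
  letI iconj : MulAction MA Γ := MulAction.compHom Γ ((MulAut.conj : Γ →* MulAut Γ).comp (π.comp MA.subtype))
  set w0 := π ⟨u, huM hu⟩ with hw0
  have horb : orbit MA w0 = swapSet Γ a a := by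
    ext w
    constructor
    · rintro ⟨x, rfl⟩
      refine ⟨conj_mem_invSet (π x.1) (hswap hu huC).1, ?_⟩
      have hxa : π x.1 • a = a := Subtype.ext (congrArg Subtype.val (x.2 : x.1 • a = a))
      show (π x.1 * w0 * (π x.1)⁻¹) • a = a
      rw [mul_smul, mul_smul, inv_smul_eq_iff.mpr hxa.symm, (hswap hu huC).2, hxa]
    · intro hw
      obtain ⟨g, hga, hg⟩ := hconj _ (hswap hu huC) _ hw
      obtain ⟨x, rfl⟩ : ∃ x, π x = g := ρ.rangeRestrict_surjective g
      exact ⟨⟨x, hga⟩, hg⟩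
  have hone : (swapSet Γ a a).ncard = 1 := by
    by_contra hne
    obtain ⟨p, hp, hpd⟩ := Nat.exists_prime_and_dvd hne
    haveI := Fact.mk hp
    have hpk : p ∣ Nat.card (h.Ker A) := hpd.trans hdk
    have hpL : ¬ p ∣ Nat.card h.Comp := fun hd => hp.not_dvd_one (h.coprime ▸ Nat.dvd_gcd hpk hd)
    set P : Sylow p MA := default
    refine P.not_dvd_index (hpd.trans ?_)
    rw [← horb, ← index_stabilizer]
    refine Subgroup.index_dvd_of_le fun x hx => ?_
    obtain ⟨j, hj⟩ := IsPGroup.iff_orderOf.mp P.isPGroup' ⟨x, hx⟩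
    rw [Subgroup.orderOf_mk, ← Subgroup.orderOf_coe, ← Subgroup.orderOf_coe] at hj
    have hxK : ((x : M) : G) ∈ h.Ker A :=
      h.mem_ker_of_coprime (congrArg Subtype.val (x.2 : x.1 • a = a)) (hj ▸ (hp.coprime_iff_not_dvd.mpr hpL).pow_left j)
    show π x.1 * w0 * (π x.1)⁻¹ = w0
    rw [mul_inv_eq_iff_eq_mul, hw0, ← map_mul, ← map_mul]
    exact congrArg π (Subtype.ext (h.z_comm_ker hu hxK).symm)
  obtain ⟨w1, hw1⟩ := Set.ncard_eq_one.mp hone
  have e1 : π ⟨u, huM hu⟩ = w1 := by have := hswap hu huC; rwa [hw1] at this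
  have e2 : π ⟨u', huM hu'⟩ = w1 := by have := hswap hu' huC'; rwa [hw1] at this
  have hprod : π (⟨u, huM hu⟩ * ⟨u', huM hu'⟩) = 1 := by
    rw [map_mul, e2, ← e1, ← map_mul, ← map_one π]
    exact congrArg π (Subtype.ext (by show u * u = 1; rw [← pow_two]; exact h.z_sq hu))
  exact (hπ1 _).mp hprod c

end Hyp

end CfsgLib.RankThreeFrob
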