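import Mathlib
import Cfsg.Prelude.Def_Solvable
import Cfsg.Agent.Lib.Frobenius.Kernel
import Cfsg.Agent.Lib.Frobenius.More

/-!
Rank three groups with a Frobenius suborbit: orbitals and the Frobenius structure of a point stabiliser.

Blueprint: `blueprint/S2207.md`.
-/

set_option autoImplicit false
set_option linter.unusedSectionVars false
set_option linter.style.haveILetI false

namespace CfsgLib.RankThreeFrob

open MulAction
open scoped Pointwise

universe u v

/-- The standing hypotheses, in a form invariant under change of base points. -/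
structure Hyp (G : Type u) {X : Type v} [Group G] [MulAction G X] (A B : X) : Prop where
  faithful : FaithfulSMul G X
  prim : IsPreprimitive G X
  even : Even (Nat.card G)
  ne : B ≠ A
  exists_other : ∃ C, C ≠ A ∧ ∀ g : G, g • A = A → g • B ≠ C
  two_classes : ∀ C D, C ≠ A → D ≠ A → (∀ g : G, g • A = A → g • B ≠ C) →
    (∀ g : G, g • A = A → g • B ≠ D) → ∃ g : G, g • A = A ∧ g • C = D
  hfaith : ∀ g ∈ stabilizer G A, (∀ h ∈ stabilizer G A, g • (h • B) = h • B) → g = 1
  hfix : ∃ g ∈ stabilizer G A, g ≠ 1 ∧ g • B = B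
  hfrob : ∀ g ∈ stabilizer G A, ∀ h ∈ stabilizer G A, g • B = B → g • (h • B) = h • B → h • B ≠ B → g = 1

variable {G : Type u} {X : Type v} [Group G] [MulAction G X] {A B : X}

theorem Hyp.of_orbits [Finite X] (faithful : FaithfulSMul G X) (prim : IsPreprimitive G X)
    (even : Even (Nat.card G))
    (h3 : Nat.card (MulAction.orbitRel.Quotient ↥(MulAction.stabilizer G A) X) = 3) (ne : B ≠ A)
    (hfaith : ∀ g ∈ stabilizer G A, (∀ h ∈ stabilizer G A, g • (h • B) = h • B) → g = 1)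
    (hfix : ∃ g ∈ stabilizer G A, g ≠ 1 ∧ g • B = B)
    (hfrob : ∀ g ∈ stabilizer G A, ∀ h ∈ stabilizer G A, g • B = B → g • (h • B) = h • B → h • B ≠ B → g = 1) :
    Hyp G A B := by
  classical
  haveI : Fintype X := Fintype.ofFinite X
  let cls : X → orbitRel.Quotient (stabilizer G A) X := fun P => Quotient.mk'' P
  have hcls : ∀ P Q, cls P = cls Q ↔ ∃ g : G, g • A = A ∧ g • Q = P := fun P Q => by
    refine Quotient.eq''.trans ?_
    rw [orbitRel_apply, mem_orbit_iff]
    exact ⟨fun ⟨⟨g, hg⟩, e⟩ => ⟨g, mem_stabilizer_iff.mp hg, e⟩,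
      fun ⟨g, hg, e⟩ => ⟨⟨g, mem_stabilizer_iff.mpr hg⟩, e⟩⟩
  have hA : ∀ C, C ≠ A → cls C ≠ cls A := fun C hC e => by
    obtain ⟨g, hg, hgC⟩ := (hcls _ _).mp e
    exact hC (hgC.symm.trans hg)
  have hB : ∀ C, (∀ g : G, g • A = A → g • B ≠ C) → cls C ≠ cls B := fun C hC e => by
    obtain ⟨g, hg, hgC⟩ := (hcls _ _).mp e
    exact hC g hg hgC
  refine ⟨faithful, prim, even, ne, ?_, fun C D hC hD hC' hD' => ?_, hfaith, hfix, hfrob⟩
  · have : ({cls A, cls B} : Finset _) ≠ Finset.univ := fun e => by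
      have h := congrArg Finset.card e
      rw [Finset.card_univ, ← Nat.card_eq_fintype_card, h3] at h
      have := (Finset.card_le_two (a := cls A) (b := cls B))
      omega
    obtain ⟨c, hc⟩ : ∃ c, c ∉ ({cls A, cls B} : Finset _) := by
      by_contra hno
      push Not at hno
      exact this (Finset.eq_univ_iff_forall.mpr hno)
    simp only [Finset.mem_insert, Finset.mem_singleton, not_or] at hc
    obtain ⟨C, rfl⟩ := Quotient.mk''_surjective c
    refine ⟨C, fun e => hc.1 (congrArg cls e), fun g hg e => hc.2 ?_⟩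
    exact (hcls C B).mpr ⟨g, hg, e⟩
  · by_contra hno
    have hne : cls C ≠ cls D := fun e => by
      obtain ⟨g, hg, hgC⟩ := (hcls _ _).mp e.symm
      exact hno ⟨g, hg, hgC⟩
    have h4 : ({cls A, cls B, cls C, cls D} : Finset _).card ≤ 3 := by
      rw [← h3, Nat.card_eq_fintype_card]
      exact Finset.card_le_univ _
    rw [Finset.card_insert_of_notMem (by
        simp only [Finset.mem_insert, Finset.mem_singleton, not_or]
        exact ⟨fun e => hA B ne e.symm, fun e => hA C hC e.symm, fun e => hA D hD e.symm⟩),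
      Finset.card_insert_of_notMem (by
        simp only [Finset.mem_insert, Finset.mem_singleton, not_or]
        exact ⟨fun e => hB C hC' e.symm, fun e => hB D hD' e.symm⟩),
      Finset.card_insert_of_notMem (by simpa using hne), Finset.card_singleton] at h4
    omega

namespace Hyp

variable (h : Hyp G A B)

/-- The orbital of the Frobenius suborbit. -/
def Adj (_h : Hyp G A B) (P Q : X) : Prop := ∃ g : G, g • A = P ∧ g • B = Q

/-- The other orbital. -/
def Far (P Q : X) : Prop := P ≠ Q ∧ ¬ h.Adj P Q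

/-- The Frobenius kernel at a point. -/
def Ker (P : X) : Subgroup G :=
  Subgroup.closure {x | x • P = P ∧ (x ≠ 1 → ∀ Q, h.Adj P Q → x • Q ≠ Q)}

theorem adj_smul (g : G) {P Q : X} : h.Adj (g • P) (g • Q) ↔ h.Adj P Q := by
  constructor
  · rintro ⟨x, h1, h2⟩
    exact ⟨g⁻¹ * x, by rw [mul_smul, h1, inv_smul_smul], by rw [mul_smul, h2, inv_smul_smul]⟩
  · rintro ⟨x, h1, h2⟩
    exact ⟨g * x, by rw [mul_smul, h1], by rw [mul_smul, h2]⟩

theorem far_smul (g : G) {P Q : X} : h.Far (g • P) (g • Q) ↔ h.Far P Q := by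
  rw [Far, Far, h.adj_smul, (MulAction.injective g).ne_iff]

theorem adj_AB : h.Adj A B := ⟨1, one_smul _ _, one_smul _ _⟩

include h in
theorem trans' (P Q : X) : ∃ g : G, g • P = Q := by
  haveI := h.prim.toIsPretransitive
  exact MulAction.exists_smul_eq G P Q

theorem adj_ne {P Q : X} (hPQ : h.Adj P Q) : P ≠ Q := by
  obtain ⟨g, rfl, rfl⟩ := hPQ
  exact fun e => h.ne (MulAction.injective g e).symm

theorem adj_A {Q : X} (hQ : h.Adj A Q) : ∃ g : G, g • A = A ∧ g • B = Q := hQ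

theorem far_trans {P Q P' Q' : X} (h1 : h.Far P Q) (h2 : h.Far P' Q') :
    ∃ g : G, g • P = P' ∧ g • Q = Q' := by
  obtain ⟨a, ha⟩ := h.trans' A P
  obtain ⟨b, hb⟩ := h.trans' A P'
  have e1 : h.Far A (a⁻¹ • Q) := by
    rw [← h.far_smul a, ha, smul_inv_smul]; exact h1
  have e2 : h.Far A (b⁻¹ • Q') := by
    rw [← h.far_smul b, hb, smul_inv_smul]; exact h2
  obtain ⟨g, hgA, hg⟩ := h.two_classes _ _ e1.1.symm e2.1.symm (fun g hg e => e1.2 ⟨g, hg, e⟩)
    (fun g hg e => e2.2 ⟨g, hg, e⟩)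
  refine ⟨b * g * a⁻¹, ?_, ?_⟩
  · rw [mul_smul, mul_smul, ← ha, inv_smul_smul, hgA, hb]
  · rw [mul_smul, mul_smul, hg, smul_inv_smul]

theorem exists_far (P : X) : ∃ Q, h.Far P Q := by
  obtain ⟨C, hC, hC'⟩ := h.exists_other
  obtain ⟨g, rfl⟩ := h.trans' A P
  exact ⟨g • C, (h.far_smul g).mpr ⟨hC.symm, fun ⟨x, h1, h2⟩ => hC' x h1 h2⟩⟩

theorem exists_adj (P : X) : ∃ Q, h.Adj P Q := by
  obtain ⟨g, rfl⟩ := h.trans' A P
  exact ⟨g • B, g, rfl, rfl⟩

section Finite

variable [Finite G] [Finite X]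

theorem adj_symm {P Q : X} (hPQ : h.Adj P Q) : h.Adj Q P := by
  haveI : Fact (Nat.Prime 2) := ⟨Nat.prime_two⟩
  obtain ⟨u, hu⟩ := exists_prime_orderOf_dvd_card' (G := G) 2 (even_iff_two_dvd.mp h.even)
  haveI := h.faithful
  obtain ⟨P₀, hP₀⟩ : ∃ P₀ : X, u • P₀ ≠ P₀ := by
    by_contra hno
    push Not at hno
    have : u = 1 := eq_of_smul_eq_smul (α := X) fun a => by rw [hno a, one_smul]
    rw [this, orderOf_one] at hu
    omega
  have hu2 : u • u • P₀ = P₀ := by
    rw [← mul_smul, ← pow_two, ← hu, pow_orderOf_eq_one, one_smul]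
  obtain ⟨a, ha, hb⟩ := hPQ
  by_cases hadj : h.Adj P₀ (u • P₀)
  · obtain ⟨g, hg1, hg2⟩ := hadj
    refine ⟨a * g⁻¹ * u * g, ?_, ?_⟩
    · rw [mul_smul, mul_smul, mul_smul, hg1, ← hg2, inv_smul_smul, hb]
    · rw [mul_smul, mul_smul, mul_smul, hg2, hu2, ← hg1, inv_smul_smul, ha]
  · by_contra hQP
    have h1 : h.Far Q P := ⟨(h.adj_ne ⟨a, ha, hb⟩).symm, hQP⟩
    obtain ⟨g, hg1, hg2⟩ := h.far_trans ⟨fun e => hP₀ e.symm, hadj⟩ h1
    have h2 : h.Adj (g⁻¹ • P) (g⁻¹ • Q) := (h.adj_smul _).mpr ⟨a, ha, hb⟩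
    rw [← hg2, ← hg1, inv_smul_smul, inv_smul_smul] at h2
    have h3 := (h.adj_smul u).mpr h2
    rw [hu2] at h3
    exact hadj h3

theorem far_symm {P Q : X} (hPQ : h.Far P Q) : h.Far Q P := ⟨hPQ.1.symm, fun e => hPQ.2 (h.adj_symm e)⟩

include h in
theorem frob_base {x : G} (hx : x • A = A) (hx1 : x ≠ 1) {Q R : X} (hQ : h.Adj A Q) (hR : h.Adj A R)
    (hxQ : x • Q = Q) (hxR : x • R = R) : Q = R := by
  obtain ⟨a, ha, rfl⟩ := h.adj_A hQ
  obtain ⟨b, hb, rfl⟩ := h.adj_A hR
  by_contra hne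
  have hc : a⁻¹ * x * a ∈ stabilizer G A := by
    rw [mem_stabilizer_iff, mul_smul, mul_smul, ha, hx, inv_smul_eq_iff, ha]
  have hd : a⁻¹ * b ∈ stabilizer G A := by
    rw [mem_stabilizer_iff, mul_smul, hb, inv_smul_eq_iff, ha]
  have := h.hfrob _ hc _ hd (by rw [mul_smul, mul_smul, hxQ, inv_smul_smul])
    (by rw [mul_smul a⁻¹ b, mul_smul, mul_smul, smul_inv_smul, hxR])
    (fun e => hne (by rw [mul_smul, inv_smul_eq_iff] at e; exact e.symm))
  exact hx1 (by
    rw [show x = a * (a⁻¹ * x * a) * a⁻¹ by group, this, mul_one, mul_inv_cancel])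

include h in
theorem move (g : G) : Hyp G (g • A) (g • B) := by
  have hc : ∀ x : G, x • g • A = g • A → (g⁻¹ * x * g) • A = A := fun x hx => by
    rw [mul_smul, mul_smul, hx, inv_smul_smul]
  have hc' : ∀ x : G, x • A = A → (g * x * g⁻¹) • g • A = g • A := fun x hx => by
    rw [mul_smul, mul_smul, inv_smul_smul, hx]
  have hother : ∀ C, (∀ x : G, x • g • A = g • A → x • g • B ≠ C) →
      ∀ x : G, x • A = A → x • B ≠ g⁻¹ • C := fun C hC x hx e =>
    hC _ (hc' x hx) (by rw [mul_smul, mul_smul, inv_smul_smul, e, smul_inv_smul])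
  refine ⟨h.faithful, h.prim, h.even, fun e => h.ne (MulAction.injective g e), ?_, ?_, ?_, ?_, ?_⟩
  · obtain ⟨C, hC, hC'⟩ := h.exists_other
    refine ⟨g • C, fun e => hC (MulAction.injective g e), fun x hx e => hC' _ (hc x hx) ?_⟩
    rw [mul_smul, mul_smul, e, inv_smul_smul]
  · intro C D hC hD hC' hD'
    obtain ⟨x, hx, hxC⟩ := h.two_classes (g⁻¹ • C) (g⁻¹ • D) (fun e => hC (inv_smul_eq_iff.mp e))
      (fun e => hD (inv_smul_eq_iff.mp e)) (hother C hC') (hother D hD')
    exact ⟨g * x * g⁻¹, hc' x hx, by rw [mul_smul, mul_smul, hxC, smul_inv_smul]⟩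
  · intro x hx hall
    have := h.hfaith (g⁻¹ * x * g) (mem_stabilizer_iff.mpr (hc x (mem_stabilizer_iff.mp hx))) fun y hy => by
      have h1 := hall (g * y * g⁻¹) (mem_stabilizer_iff.mpr (hc' y (mem_stabilizer_iff.mp hy)))
      rw [mul_smul (g * y) g⁻¹, inv_smul_smul, mul_smul g y] at h1
      rw [mul_smul, mul_smul, h1, inv_smul_smul]
    rw [show x = g * (g⁻¹ * x * g) * g⁻¹ by group, this, mul_one, mul_inv_cancel]
  · obtain ⟨x, hx, hx1, hxB⟩ := h.hfix
    refine ⟨g * x * g⁻¹, mem_stabilizer_iff.mpr (hc' x (mem_stabilizer_iff.mp hx)), fun e => hx1 ?_, ?_⟩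
    · rw [show x = g⁻¹ * (g * x * g⁻¹) * g by group, e, mul_one, inv_mul_cancel]
    · rw [mul_smul, mul_smul, inv_smul_smul, hxB]
  · intro x hx y hy hxB hxy hne
    have := h.hfrob (g⁻¹ * x * g) (mem_stabilizer_iff.mpr (hc x (mem_stabilizer_iff.mp hx)))
      (g⁻¹ * y * g) (mem_stabilizer_iff.mpr (hc y (mem_stabilizer_iff.mp hy)))
      (by rw [mul_smul, mul_smul, hxB, inv_smul_smul])
      (by rw [mul_smul (g⁻¹ * x) g, mul_smul (g⁻¹ * y) g, mul_smul g⁻¹ y, smul_inv_smul, mul_smul g⁻¹ x, hxy])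
      (fun e => hne (by rw [mul_smul, mul_smul, inv_smul_eq_iff] at e; exact e))
    rw [show x = g * (g⁻¹ * x * g) * g⁻¹ by group, this, mul_one, mul_inv_cancel]

theorem move_adj (g : G) : (h.move g).Adj = h.Adj := by
  funext P Q
  apply propext
  constructor
  · rintro ⟨x, h1, h2⟩
    exact ⟨x * g, by rw [mul_smul, h1], by rw [mul_smul, h2]⟩
  · rintro ⟨x, h1, h2⟩
    exact ⟨x * g⁻¹, by rw [mul_smul, inv_smul_smul, h1], by rw [mul_smul, inv_smul_smul, h2]⟩

theorem move_far (g : G) : (h.move g).Far = h.Far := by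
  funext P Q
  unfold Far
  rw [h.move_adj g]

theorem move_ker (g : G) : (h.move g).Ker = h.Ker := by
  funext P
  unfold Ker
  rw [h.move_adj g]

/-- A non-trivial element fixing `P` fixes at most one neighbour of `P`. -/
theorem frob_at {x : G} {P Q R : X} (hx : x • P = P) (hx1 : x ≠ 1) (hQ : h.Adj P Q) (hR : h.Adj P R)
    (hxQ : x • Q = Q) (hxR : x • R = R) : Q = R := by
  obtain ⟨g, rfl⟩ := h.trans' A P
  rw [← h.move_adj g] at hQ hR
  exact (h.move g).frob_base hx hx1 hQ hR hxQ hxR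

include h in
/-- A block through the base point is trivial. -/
theorem no_block {S : Set X} (hAS : A ∈ S) (hH : ∀ x : G, x • A = A → x • S = S) {g : G}
    (hg : g • A ≠ A) (hgS : g • S = S) : ∀ P, P ∈ S := by
  haveI := h.prim
  haveI : Nontrivial X := ⟨⟨B, A, h.ne⟩⟩
  have hco := IsPreprimitive.isCoatom_stabilizer_of_isPreprimitive (G := G) (X := X) A
  have htop : stabilizer G S = ⊤ := by
    rcases hco.le_iff.mp (fun x hx => mem_stabilizer_iff.mpr (hH x (mem_stabilizer_iff.mp hx)) :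
      stabilizer G A ≤ stabilizer G S) with e | e
    · exact e
    · exact absurd (mem_stabilizer_iff.mp (e ▸ mem_stabilizer_iff.mpr hgS : g ∈ stabilizer G A)) hg
  intro P
  obtain ⟨x, rfl⟩ := h.trans' A P
  have hx : x • S = S := mem_stabilizer_iff.mp (htop ▸ Subgroup.mem_top x)
  rw [← hx]
  exact Set.smul_mem_smul_set hAS

include h in
/-- Distinct points have distinct stabilisers. -/
theorem eq_of_fixed {P : X} (hP : ∀ x : G, x • A = A → x • P = P) : P = A := by
  by_contra hne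
  obtain ⟨x, hx, hx1, hxB⟩ := h.hfix
  by_cases hadj : h.Adj A P
  · obtain ⟨a, ha, rfl⟩ := h.adj_A hadj
    refine hx1 (h.hfaith x hx fun y hy => ?_)
    have hB : ∀ y : G, y • A = A → y • B = B := fun y hy => by
      have h1 := hP (a * y * a⁻¹) (by rw [mul_smul, mul_smul, inv_smul_eq_iff.mpr ha.symm, hy, ha])
      rw [mul_smul, mul_smul, inv_smul_smul] at h1
      exact MulAction.injective a h1
    rw [hB y (mem_stabilizer_iff.mp hy), hB x (mem_stabilizer_iff.mp hx)]
  · obtain ⟨g, hg⟩ := h.trans' A P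
    have hS : ∀ x : G, x • A = A → x • ({A, P} : Set X) = {A, P} := fun x hx => by
      rw [Set.smul_set_insert, Set.smul_set_singleton, hx, hP x hx]
    have hfar : h.Far A P := ⟨fun e => hne e.symm, hadj⟩
    obtain ⟨w, hw1, hw2⟩ := h.far_trans hfar (h.far_symm hfar)
    have := h.no_block (Set.mem_insert A {P}) hS (g := w) (by rw [hw1]; exact hne)
      (by rw [Set.smul_set_insert, Set.smul_set_singleton, hw1, hw2, Set.pair_comm]) B
    rcases this with e | e
    · exact h.ne e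
    · exact hadj (e ▸ h.adj_AB)

end Finite

end Hyp

end CfsgLib.RankThreeFrob
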